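import Mathlib

/-!
# Elements of odd order normalizing a 2-subgroup (helper201, S3311)

`OC P` : the elements of odd order which normalize `P` centralize `P`.
-/

set_option autoImplicit false

namespace Cfsg.Agent.H201.OddCent

open Subgroup

/-- elements of odd order normalizing `P` centralize `P` -/
def OC {G : Type*} [Group G] (P : Subgroup G) : Prop :=
  ∀ g : G, (∀ x ∈ P, g * x * g⁻¹ ∈ P) → Odd (orderOf g) → ∀ x ∈ P, g * x = x * g

variable {G H : Type*} [Group G] [Group H]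

theorem OC.map_equiv (e : G ≃* H) {P : Subgroup G} (h : OC P) : OC (P.map e.toMonoidHom) := by
  have hm : ∀ {x : G}, e x ∈ P.map e.toMonoidHom ↔ x ∈ P := fun {x} => Subgroup.mem_map_iff_mem e.injective
  intro g hg ho x hx
  obtain ⟨g, rfl⟩ := e.surjective g
  obtain ⟨x, rfl⟩ := e.surjective x
  rw [← map_mul, ← map_mul, h g ?_ ?_ x (hm.1 hx)]
  · intro y hy
    have := hg (e y) (hm.2 hy)
    rwa [← map_inv, ← map_mul, ← map_mul, hm] at this
  · have : orderOf (e g) = orderOf g := orderOf_injective e.toMonoidHom e.injective g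
    rwa [this] at ho

theorem OC.all [Finite G] {p : ℕ} [Fact p.Prime] {S : Sylow p G} (h : OC (S : Subgroup G)) (T : Sylow p G) :
    OC (T : Subgroup G) := by
  obtain ⟨g, rfl⟩ := MulAction.exists_smul_eq G S T
  exact h.map_equiv (MulAut.conj g)

theorem OC.congr [Finite G] [Finite H] {p : ℕ} [Fact p.Prime] (e : G ≃* H) (h : ∀ S : Sylow p G, OC (S : Subgroup G))
    (T : Sylow p H) : OC (T : Subgroup H) := by
  obtain ⟨S⟩ : Nonempty (Sylow p G) := inferInstance
  have h1 : OC ((S.mapSurjective (f := e.toMonoidHom) e.surjective : Sylow p H) : Subgroup H) := (h S).map_equiv e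
  exact h1.all T

/-- If `Aut(P)` is a 2-group. -/
theorem OC.of_aut [Finite G] {P : Subgroup G} (h : IsPGroup 2 (MulAut P)) : OC P := by
  intro g hg ho x hx
  have hmap : P.map (MulAut.conj g).toMonoidHom = P := by
    apply Subgroup.eq_of_le_of_card_ge
    · rintro _ ⟨y, hy, rfl⟩
      exact hg y hy
    · rw [Subgroup.card_map_of_injective (MulAut.conj g).injective]
  have hN : g ∈ normalizer (P : Set G) := by
    rw [mem_normalizer_iff]
    intro y
    constructor
    · exact hg y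
    · intro hy
      obtain ⟨w, hw, hwy⟩ := hmap.ge hy
      have : y = w := (MulAut.conj g).injective hwy.symm
      exact this ▸ hw
  set φ := P.normalizerMonoidHom ⟨g, hN⟩ with hφ
  obtain ⟨k, hk⟩ := h φ
  have h1 : φ ^ orderOf g = 1 := by
    rw [hφ, ← map_pow]
    have : (⟨g, hN⟩ : normalizer (P : Set G)) ^ orderOf g = 1 := Subtype.ext (pow_orderOf_eq_one g)
    rw [this, map_one]
  have h2 : φ = 1 := by
    have h3 : orderOf φ ∣ Nat.gcd (2 ^ k) (orderOf g) :=
      Nat.dvd_gcd (orderOf_dvd_of_pow_eq_one hk) (orderOf_dvd_of_pow_eq_one h1)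
    have h4 : Nat.gcd (2 ^ k) (orderOf g) = 1 := Nat.Coprime.pow_left k (Nat.coprime_two_left.2 ho)
    rw [h4, Nat.dvd_one, orderOf_eq_one_iff] at h3
    exact h3
  have h5 : φ ⟨x, hx⟩ = ⟨x, hx⟩ := by rw [h2]; rfl
  have h6 : g * x * g⁻¹ = x := congrArg Subtype.val h5
  exact mul_inv_eq_iff_eq_mul.1 h6

/-- Central extensions. -/
theorem OC.of_surj [Finite G] {Γ : Type*} [Group Γ] [Finite Γ] (ψ : Γ →* G) (hψ : Function.Surjective ψ)
    (hker : ∀ k, ψ k = 1 → ∀ x, k * x = x * k) {T : Sylow 2 Γ} (h : OC (T : Subgroup Γ)) (S : Sylow 2 G) :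
    OC (S : Subgroup G) := by
  have : Fact (Nat.Prime 2) := ⟨Nat.prime_two⟩
  suffices hT : OC ((T.mapSurjective hψ : Sylow 2 G) : Subgroup G) from hT.all S
  rw [Sylow.coe_mapSurjective]
  intro g hg ho x hx
  obtain ⟨t, ht, rfl⟩ := hx
  obtain ⟨γ, rfl⟩ := hψ g
  obtain ⟨a, b, hb, hab⟩ := Nat.exists_eq_two_pow_mul_odd (n := orderOf γ) (orderOf_pos γ).ne'
  have hcop : Nat.Coprime (2 ^ a) (orderOf (ψ γ)) := Nat.Coprime.pow_left a (Nat.coprime_two_left.2 ho)
  obtain ⟨m, hm0, hm1⟩ := Nat.chineseRemainder hcop 0 1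
  have hgm : ψ (γ ^ m) = ψ γ := by
    rw [map_pow]
    nth_rw 2 [← pow_one (ψ γ)]
    exact pow_eq_pow_iff_modEq.2 hm1
  have h2a : 2 ^ a ∣ m := (Nat.modEq_zero_iff_dvd).1 hm0
  have hodd : Odd (orderOf (γ ^ m)) := by
    have h1 : (γ ^ m) ^ b = 1 := by
      rw [← pow_mul]
      obtain ⟨c, rfl⟩ := h2a
      rw [show 2 ^ a * c * b = orderOf γ * c by rw [hab]; ring, pow_mul, pow_orderOf_eq_one, one_pow]
    exact hb.of_dvd_nat (orderOf_dvd_of_pow_eq_one h1)
  have key := h (γ ^ m) (fun y hy => ?_) hodd t ht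
  · have := congrArg ψ key
    rw [map_mul, map_mul, hgm] at this
    exact this
  · have h1 := hg (ψ y) ⟨y, hy, rfl⟩
    rw [← hgm, ← map_inv, ← map_mul, ← map_mul] at h1
    obtain ⟨t', ht', htt⟩ := h1
    set u := γ ^ m * y * (γ ^ m)⁻¹ with hu
    have hk : ψ (t'⁻¹ * u) = 1 := by
      rw [map_mul, map_inv, htt, inv_mul_cancel]
    have hc := hker _ hk
    have huP : IsPGroup 2 (zpowers u) := by
      rw [hu]
      have h2 : (T : Subgroup Γ).map (MulAut.conj (γ ^ m)).toMonoidHom ≥ zpowers (γ ^ m * y * (γ ^ m)⁻¹) := by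
        rw [ge_iff_le, zpowers_le]
        exact ⟨y, hy, rfl⟩
      exact (T.isPGroup'.map _).to_le h2
    have huN : zpowers u ≤ normalizer ((T : Subgroup Γ) : Set Γ) := by
      rw [zpowers_le]
      have h3 : u = t' * (t'⁻¹ * u) := by group
      rw [h3]
      refine Subgroup.mul_mem _ (le_normalizer ht') ?_
      rw [mem_normalizer_iff]
      intro z
      have : t'⁻¹ * u * z * (t'⁻¹ * u)⁻¹ = z := by
        rw [hc z]; group
      rw [this]
    have hsup : IsPGroup 2 ((T : Subgroup Γ) ⊔ zpowers u : Subgroup Γ) :=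
      IsPGroup.to_sup_of_normal_left' T.isPGroup' huP huN
    have h4 := T.is_maximal' hsup le_sup_left
    rw [← h4]
    exact (le_sup_right : zpowers u ≤ _) (mem_zpowers u)

end Cfsg.Agent.H201.OddCent
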