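import Cfsg.Agent.H201.RankTwo
import Cfsg.Agent.H201.OddCent

/-!
# Elements of odd order normalizing the 2-groups of block matrices with two blocks (helper201, S3311)
-/

set_option autoImplicit false

namespace Cfsg.Agent.H201.Blocks

open Subgroup Equiv
open Cfsg.Agent.FooteOdd

variable {K : Type*} [Field K]

section exJ

variable {α β : Type*} [DecidableEq α]

/-- `-1` on the block `a` -/
def ub (β : Type*) (a : α) : (Ix α β → K) ≃ₗ[K] (Ix α β → K) := J (Pi.mulSingle a (sc (-1)), 1)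

theorem ub_inl (a i : α) (k : Fin 2) (v : Ix α β → K) :
    ub β a v (Sum.inl (i, k)) = if i = a then - v (Sum.inl (i, k)) else v (Sum.inl (i, k)) := by
  rw [ub, J_inl]
  by_cases hi : i = a
  · subst hi
    rw [if_pos rfl]
    show ((Pi.mulSingle i (sc (-1)) : α → (Fin 2 → K) ≃ₗ[K] (Fin 2 → K)) i) _ k = _
    rw [Pi.mulSingle_eq_same, sc_apply]
    simp
  · rw [if_neg hi]
    show ((Pi.mulSingle a (sc (-1)) : α → (Fin 2 → K) ≃ₗ[K] (Fin 2 → K)) i) _ k = _
    rw [Pi.mulSingle_eq_of_ne hi]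
    rfl

theorem ub_inr (a : α) (j : β) (v : Ix α β → K) : ub β a v (Sum.inr j) = v (Sum.inr j) := by
  rw [ub, J_inr]
  simp

theorem emb_add (a : α) (v w : Fin 2 → K) : emb β a (v + w) = emb β a v + emb β a w := by
  funext o
  rcases o with (⟨i, k⟩ | j)
  · by_cases hi : i = a
    · subst hi
      simp [emb_same]
    · simp [emb_ne hi]
  · simp [emb_inr]

theorem emb_smul (a : α) (c : K) (v : Fin 2 → K) : emb β a (c • v) = c • emb β a v := by
  funext o
  rcases o with (⟨i, k⟩ | j)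
  · by_cases hi : i = a
    · subst hi
      simp [emb_same]
    · simp [emb_ne hi]
  · simp [emb_inr]

/-- a vector supported by the block `a` -/
theorem eq_emb {a : α} {v : Ix α β → K} (h1 : ∀ i k, i ≠ a → v (Sum.inl (i, k)) = 0) (h2 : ∀ j, v (Sum.inr j) = 0) :
    v = emb β a (fun k => v (Sum.inl (a, k))) := by
  funext o
  rcases o with (⟨i, k⟩ | j)
  · by_cases hi : i = a
    · subst hi
      rw [emb_same]
    · rw [emb_ne hi, h1 i k hi]
  · rw [emb_inr, h2]

/-- the block `a` of an element preserving it -/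
noncomputable def blk (a : α) (x : (Ix α β → K) ≃ₗ[K] (Ix α β → K))
    (h : ∀ w, x (emb β a w) = emb β a (fun k => x (emb β a w) (Sum.inl (a, k))))
    (h' : ∀ w, x⁻¹ (emb β a w) = emb β a (fun k => x⁻¹ (emb β a w) (Sum.inl (a, k)))) :
    (Fin 2 → K) ≃ₗ[K] (Fin 2 → K) where
  toFun w := fun k => x (emb β a w) (Sum.inl (a, k))
  invFun w := fun k => x⁻¹ (emb β a w) (Sum.inl (a, k))
  map_add' v w := by
    funext k
    rw [emb_add, map_add]
    rfl
  map_smul' c v := by
    funext k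
    rw [emb_smul, map_smul]
    rfl
  left_inv w := by
    funext k
    show x⁻¹ (emb β a (fun k => x (emb β a w) (Sum.inl (a, k)))) (Sum.inl (a, k)) = w k
    rw [← h w, ← LinearEquiv.mul_apply, inv_mul_cancel]
    exact emb_same (β := β) a w k
  right_inv w := by
    funext k
    show x (emb β a (fun k => x⁻¹ (emb β a w) (Sum.inl (a, k)))) (Sum.inl (a, k)) = w k
    rw [← h' w, ← LinearEquiv.mul_apply, mul_inv_cancel]
    exact emb_same (β := β) a w k

theorem exists_J [Fintype α] [Fintype β] [DecidableEq β] [Subsingleton β] (two : (2 : K) ≠ 0)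
    (x : (Ix α β → K) ≃ₗ[K] (Ix α β → K)) (h : ∀ a : α, x * ub β a = ub β a * x) :
    ∃ p : (α → (Fin 2 → K) ≃ₗ[K] (Fin 2 → K)) × (β → Kˣ), x = J p := by
  -- blocks are preserved
  have hin : ∀ y : (Ix α β → K) ≃ₗ[K] (Ix α β → K), (∀ a : α, y * ub β a = ub β a * y) → ∀ a w,
      y (emb β a w) = emb β a (fun k => y (emb β a w) (Sum.inl (a, k))) := by
    intro y hy a w
    have h1 : ub β a (emb β a w) = - emb β a w := by
      funext o
      rcases o with (⟨i, k⟩ | j)
      · rw [ub_inl]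
        split_ifs with hi
        · rfl
        · rw [emb_ne hi]
          show (0 : K) = - emb β a w (Sum.inl (i, k))
          rw [emb_ne hi, neg_zero]
      · rw [ub_inr, emb_inr]
        show (0 : K) = - emb β a w (Sum.inr j)
        rw [emb_inr, neg_zero]
    have h2 : ub β a (y (emb β a w)) = - y (emb β a w) := by
      rw [← LinearEquiv.mul_apply, ← hy a, LinearEquiv.mul_apply, h1, map_neg]
    have hz : ∀ c : K, c = -c → c = 0 := by
      intro c hc
      have : (2 : K) * c = 0 := by linear_combination hc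
      exact (mul_eq_zero.1 this).resolve_left two
    apply eq_emb
    · intro i k hi
      have h3 := congrFun h2 (Sum.inl (i, k))
      rw [ub_inl, if_neg hi] at h3
      exact hz _ h3
    · intro j
      have h3 := congrFun h2 (Sum.inr j)
      rw [ub_inr] at h3
      exact hz _ h3
  have hout : ∀ y : (Ix α β → K) ≃ₗ[K] (Ix α β → K), (∀ a : α, y * ub β a = ub β a * y) → ∀ a v,
      (∀ k, v (Sum.inl (a, k)) = 0) → ∀ k, y v (Sum.inl (a, k)) = 0 := by
    intro y hy a v hv k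
    have h1 : ub β a v = v := by
      funext o
      rcases o with (⟨i, k⟩ | j)
      · rw [ub_inl]
        split_ifs with hi
        · subst hi
          rw [hv, neg_zero]
        · rfl
      · rw [ub_inr]
    have h2 : ub β a (y v) = y v := by
      rw [← LinearEquiv.mul_apply, ← hy a, LinearEquiv.mul_apply, h1]
    have h3 := congrFun h2 (Sum.inl (a, k))
    rw [ub_inl, if_pos rfl] at h3
    have : (2 : K) * y v (Sum.inl (a, k)) = 0 := by linear_combination -h3
    exact (mul_eq_zero.1 this).resolve_left two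
  have h' : ∀ a : α, x⁻¹ * ub β a = ub β a * x⁻¹ := by
    intro a
    rw [inv_mul_eq_iff_eq_mul, ← mul_assoc, h a, mul_inv_cancel_right]
  -- the last coordinate
  have hc : ∀ j : β, ∃ c : Kˣ, x (Pi.single (Sum.inr j) 1) = (c : K) • Pi.single (Sum.inr j) 1 := by
    intro j
    have h1 : ∀ y : (Ix α β → K) ≃ₗ[K] (Ix α β → K), (∀ a : α, y * ub β a = ub β a * y) →
        y (Pi.single (Sum.inr j) 1) = (y (Pi.single (Sum.inr j) 1) (Sum.inr j)) • Pi.single (Sum.inr j) 1 := by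
      intro y hy
      funext o
      rcases o with (⟨i, k⟩ | j')
      · rw [hout y hy i _ (fun k => by simp) k]
        simp
      · obtain rfl := Subsingleton.elim j j'
        simp
    have h2 := h1 x h
    have h3 : x (Pi.single (Sum.inr j) 1) (Sum.inr j) ≠ 0 := by
      intro h4
      rw [h4, zero_smul] at h2
      have h5 := x.map_eq_zero_iff.1 h2
      have h6 := congrFun h5 (Sum.inr j)
      simp at h6
    exact ⟨Units.mk0 _ h3, h2⟩
  choose c hc using hc
  refine ⟨(fun a => blk a x (hin x h a) (hin x⁻¹ h' a), c), ?_⟩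
  apply LinearEquiv.ext
  intro v
  have hv : v = (∑ a, emb β a (fun k => v (Sum.inl (a, k)))) + ∑ j, (v (Sum.inr j)) • Pi.single (Sum.inr j) 1 := by
    funext o
    rw [Pi.add_apply, Finset.sum_apply, Finset.sum_apply]
    rcases o with (⟨i, k⟩ | j)
    · rw [Finset.sum_eq_single i, emb_same]
      · simp
      · intro a _ ha
        exact emb_ne (Ne.symm ha) _ _
      · intro hi
        exact absurd (Finset.mem_univ _) hi
    · rw [Finset.sum_eq_single j]
      · simp [emb_inr]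
      · intro a _ ha
        obtain rfl := Subsingleton.elim j a
        exact absurd rfl ha
      · intro hi
        exact absurd (Finset.mem_univ _) hi
  conv_lhs => rw [hv, map_add, map_sum, map_sum]
  funext o
  rw [Pi.add_apply, Finset.sum_apply, Finset.sum_apply]
  rcases o with (⟨i, k⟩ | j)
  · rw [J_inl, Finset.sum_eq_single i]
    · rw [Finset.sum_eq_zero, add_zero]
      · rfl
      · intro j _
        rw [map_smul, hc]
        simp
    · intro a _ ha
      rw [hin x h a]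
      exact emb_ne (Ne.symm ha) _ _
    · intro hi
      exact absurd (Finset.mem_univ _) hi
  · rw [J_inr, Finset.sum_eq_zero, zero_add, Finset.sum_eq_single j]
    · rw [map_smul, hc]
      simp [mul_comm]
    · intro a _ ha
      obtain rfl := Subsingleton.elim j a
      exact absurd rfl ha
    · intro hi
      exact absurd (Finset.mem_univ _) hi
    · intro a _
      rw [hin x h a, emb_inr]

end exJ

/-- if the commutator of `x` and `t` commutes with `x` -/
theorem comm_of_comm {G : Type*} [Group G] {x t d : G} (hd : x * t * x⁻¹ = d * t) (hxd : x * d = d * x)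
    (ho : Odd (orderOf x)) (h2 : ∃ k : ℕ, d ^ 2 ^ k = 1) : x * t = t * x := by
  have hpow : ∀ m : ℕ, x ^ m * t * (x ^ m)⁻¹ = d ^ m * t := by
    intro m
    induction m with
    | zero => simp
    | succ m ih =>
      have hc : x * d ^ m = d ^ m * x := by
        have : Commute x d := hxd
        exact this.pow_right m
      calc x ^ (m + 1) * t * (x ^ (m + 1))⁻¹ = x * (x ^ m * t * (x ^ m)⁻¹) * x⁻¹ := by
            rw [pow_succ']; group
        _ = (x * d ^ m) * t * x⁻¹ := by rw [ih]; group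
        _ = d ^ m * (x * t * x⁻¹) := by rw [hc]; group
        _ = d ^ (m + 1) * t := by rw [hd, pow_succ]; group
  have h1 := hpow (orderOf x)
  rw [pow_orderOf_eq_one, one_mul, inv_one, mul_one] at h1
  have h3 : d ^ orderOf x = 1 := by
    have : 1 * t = d ^ orderOf x * t := by rw [one_mul]; exact h1
    exact (mul_right_cancel this).symm
  obtain ⟨k, hk⟩ := h2
  have h4 : orderOf d ∣ Nat.gcd (2 ^ k) (orderOf x) :=
    Nat.dvd_gcd (orderOf_dvd_of_pow_eq_one hk) (orderOf_dvd_of_pow_eq_one h3)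
  have h5 : Nat.gcd (2 ^ k) (orderOf x) = 1 := Nat.Coprime.pow_left k (Nat.coprime_two_left.2 ho)
  rw [h5, Nat.dvd_one, orderOf_eq_one_iff] at h4
  rw [h4, one_mul] at hd
  exact mul_inv_eq_iff_eq_mul.1 hd

section two

variable {β : Type*} [Fintype β] [DecidableEq β]

/-- block-diagonal elements with two blocks -/
def dd (β : Type*) (a b : (Fin 2 → K) ≃ₗ[K] (Fin 2 → K)) : (Ix (Fin 2) β → K) ≃ₗ[K] (Ix (Fin 2) β → K) :=
  J (![a, b], 1)

omit [Fintype β] [DecidableEq β] in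
theorem dd_mul (a b c d : (Fin 2 → K) ≃ₗ[K] (Fin 2 → K)) : dd β a b * dd β c d = dd β (a * c) (b * d) := by
  rw [dd, dd, ← map_mul, dd]
  congr 1
  ext1
  · funext i
    fin_cases i <;> rfl
  · exact one_mul 1

omit [Fintype β] [DecidableEq β] in
theorem dd_one : dd (K := K) β 1 1 = 1 := by
  rw [dd, ← map_one (J : _ →* ((Ix (Fin 2) β → K) ≃ₗ[K] (Ix (Fin 2) β → K)))]
  congr 1
  ext1
  · funext i
    fin_cases i <;> rfl
  · rfl

omit [Fintype β] [DecidableEq β] in
theorem dd_inv (a b : (Fin 2 → K) ≃ₗ[K] (Fin 2 → K)) : (dd β a b)⁻¹ = dd β a⁻¹ b⁻¹ := by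
  rw [inv_eq_iff_mul_eq_one, dd_mul, mul_inv_cancel, mul_inv_cancel, dd_one]

omit [Fintype β] [DecidableEq β] in
theorem dd_inj {a b c d : (Fin 2 → K) ≃ₗ[K] (Fin 2 → K)} (h : dd β a b = dd β c d) : a = c ∧ b = d := by
  have h1 := J_injective h
  have h2 := (Prod.ext_iff.1 h1).1
  exact ⟨congrFun h2 0, congrFun h2 1⟩

theorem det_dd (a b : (Fin 2 → K) ≃ₗ[K] (Fin 2 → K)) :
    LinearEquiv.det (dd β a b) = LinearEquiv.det a * LinearEquiv.det b := by
  rw [dd, det_J, Fin.prod_univ_two]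
  show LinearEquiv.det a * LinearEquiv.det b * ∏ j : β, (1 : Kˣ) = _
  rw [Finset.prod_const_one, mul_one]

omit [Fintype β] [DecidableEq β] in
/-- conjugation of block-diagonal elements -/
theorem conj_dd (p : (Fin 2 → (Fin 2 → K) ≃ₗ[K] (Fin 2 → K)) × (β → Kˣ)) (a b : (Fin 2 → K) ≃ₗ[K] (Fin 2 → K)) :
    J p * dd β a b * (J p)⁻¹ = dd β (p.1 0 * a * (p.1 0)⁻¹) (p.1 1 * b * (p.1 1)⁻¹) := by
  rw [dd, ← map_mul, ← map_inv, ← map_mul, dd]
  congr 1
  ext1
  · funext i
    fin_cases i <;> rfl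
  · simp

/-- the interchange of the blocks -/
def ww (β : Type*) : (Ix (Fin 2) β → K) ≃ₗ[K] (Ix (Fin 2) β → K) := bp (swap 0 1)

omit [Fintype β] [DecidableEq β] in
theorem ww_dd (a b : (Fin 2 → K) ≃ₗ[K] (Fin 2 → K)) : ww β * dd β a b * (ww β)⁻¹ = dd β b a := by
  rw [ww, dd, bp_J, dd]
  congr 1
  ext1
  · funext i
    fin_cases i <;> rfl
  · rfl

omit [Fintype β] [DecidableEq β] in
theorem ww_inv : (ww (K := K) β)⁻¹ = ww β := by
  rw [ww, ← map_inv, swap_inv]

theorem perm_two (π : Perm (Fin 2)) : π = 1 ∨ π = swap 0 1 := by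
  revert π
  decide

theorem det_sc (c : Kˣ) : LinearEquiv.det (sc c : (Fin 2 → K) ≃ₗ[K] (Fin 2 → K)) = c * c := by
  rw [sc, det_dg, Fin.prod_univ_two]

/-- **Two blocks.** -/
theorem two_blocks [Finite K] [Subsingleton β] (two : (2 : K) ≠ 0) (P : Subgroup ((Fin 2 → K) ≃ₗ[K] (Fin 2 → K)))
    (hP : IsPGroup 2 P) (D2 : Subgroup Kˣ) (hD2 : ∀ c ∈ D2, c = 1 ∨ c = -1) (hneg : (-1 : Kˣ) ∈ D2)
    (hdg : ∀ d : Fin 2 → Kˣ, (∀ i, d i ∈ D2) → dg d ∈ P)
    (hdet : ∀ p ∈ P, LinearEquiv.det p ∈ D2)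
    (hsc : ∀ c : Kˣ, sc c ∈ P → c ∈ D2)
    (hR : IsPGroup 2 (R (β := β) P D2 (⊤ : Subgroup (Perm (Fin 2)))))
    (hna : ∃ a ∈ P, ∃ b ∈ P, LinearEquiv.det a = 1 ∧ LinearEquiv.det b = 1 ∧ a * b ≠ b * a) :
    Cfsg.Agent.H201.OddCent.OC (R (β := β) P D2 (⊤ : Subgroup (Perm (Fin 2))) ⊓ (LinearEquiv.det : _ →* Kˣ).ker) := by
  have hfin : Finite ((Ix (Fin 2) β → K) ≃ₗ[K] (Ix (Fin 2) β → K)) := Finite.of_injective _ DFunLike.coe_injective
  have hfin2 : Finite ((Fin 2 → K) ≃ₗ[K] (Fin 2 → K)) := Finite.of_injective _ DFunLike.coe_injective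
  set T := R (β := β) P D2 (⊤ : Subgroup (Perm (Fin 2))) ⊓ (LinearEquiv.det : _ →* Kˣ).ker with hT
  have hneg1 : (-1 : Kˣ) ≠ 1 := by
    intro h
    have h2 : (-1 : K) = 1 := congrArg Units.val h
    apply two
    linear_combination -h2
  have hscne : (sc (-1) : (Fin 2 → K) ≃ₗ[K] (Fin 2 → K)) ≠ 1 := by
    intro h
    have h1 : dg (fun _ : Fin 2 => (-1 : Kˣ)) = dg (1 : Fin 2 → Kˣ) := by rw [map_one]; exact h
    exact hneg1 (congrFun (dg_injective h1) 0)
  -- elements of `T`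
  have memT : ∀ (p : (Fin 2 → (Fin 2 → K) ≃ₗ[K] (Fin 2 → K)) × (β → Kˣ)) (π : Perm (Fin 2)), (∀ i, p.1 i ∈ P) →
      (∀ j, p.2 j ∈ D2) → LinearEquiv.det (J p) = 1 → J p * bp π ∈ T := by
    intro p π h1 h2 h3
    refine ⟨⟨p, π, mem_top _, h1, h2, rfl⟩, ?_⟩
    show LinearEquiv.det (J p * bp π) = 1
    rw [map_mul, h3, det_bp, one_mul]
  have casesT : ∀ t ∈ T, ∃ (p : (Fin 2 → (Fin 2 → K) ≃ₗ[K] (Fin 2 → K)) × (β → Kˣ)) (π : Perm (Fin 2)), (∀ i, p.1 i ∈ P) ∧
      (∀ j, p.2 j ∈ D2) ∧ LinearEquiv.det (J p) = 1 ∧ t = J p * bp π := by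
    rintro t ⟨⟨p, π, -, h1, h2, rfl⟩, h3⟩
    refine ⟨p, π, h1, h2, ?_, rfl⟩
    have h4 : LinearEquiv.det (J p * bp π) = 1 := h3
    rwa [map_mul, det_bp, mul_one] at h4
  have ddT : ∀ a ∈ P, ∀ b ∈ P, LinearEquiv.det a * LinearEquiv.det b = 1 → dd β a b ∈ T := by
    intro a ha b hb hab
    have h1 := memT (![a, b], (1 : β → Kˣ)) 1 (fun i => by fin_cases i; exacts [ha, hb]) (fun j => D2.one_mem)
      (by
        have := det_dd (β := β) a b
        rw [dd] at this
        rw [this, hab])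
    rwa [map_one, mul_one] at h1
  have wwT : ww β ∈ T := by
    have h1 := memT 1 (swap 0 1) (fun i => P.one_mem) (fun j => D2.one_mem) (by rw [map_one, map_one])
    rwa [map_one, one_mul] at h1
  have hscP : (sc (-1) : (Fin 2 → K) ≃ₗ[K] (Fin 2 → K)) ∈ P := hdg _ fun _ => hneg
  have hdsc : LinearEquiv.det (sc (-1) : (Fin 2 → K) ≃ₗ[K] (Fin 2 → K)) = 1 := by
    rw [det_sc]; simp
  set u0 : (Ix (Fin 2) β → K) ≃ₗ[K] (Ix (Fin 2) β → K) := dd β (sc (-1)) 1 with hu0
  set u1 : (Ix (Fin 2) β → K) ≃ₗ[K] (Ix (Fin 2) β → K) := dd β 1 (sc (-1)) with hu1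
  set z : (Ix (Fin 2) β → K) ≃ₗ[K] (Ix (Fin 2) β → K) := dd β (sc (-1)) (sc (-1)) with hz
  have hscsc : (sc (-1) : (Fin 2 → K) ≃ₗ[K] (Fin 2 → K)) * sc (-1) = 1 := by
    rw [← sc_mul, neg_mul_neg, one_mul]
    exact map_one dg
  have u0T : u0 ∈ T := ddT _ hscP _ P.one_mem (by rw [hdsc, map_one, one_mul])
  have u1T : u1 ∈ T := ddT _ P.one_mem _ hscP (by rw [hdsc, map_one, one_mul])
  have zT : z ∈ T := ddT _ hscP _ hscP (by rw [hdsc, one_mul])
  have hu0z : u0 * z = u1 := by rw [hu0, hz, dd_mul, hscsc, one_mul]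
  have hu1z : u1 * z = u0 := by rw [hu1, hz, dd_mul, hscsc, one_mul]
  have hu01 : u0 ≠ u1 := by
    intro h
    exact hscne (dd_inj h).1
  have hz1 : z ≠ 1 := by
    intro h
    rw [hz, ← dd_one] at h
    exact hscne (dd_inj h).1
  -- conjugation of `u0`, `u1`, `z`
  have conjJ : ∀ (p : (Fin 2 → (Fin 2 → K) ≃ₗ[K] (Fin 2 → K)) × (β → Kˣ)) (c d : Kˣ),
      J p * dd β (sc c) (sc d) * (J p)⁻¹ = dd β (sc c) (sc d) := by
    intro p c d
    rw [conj_dd, ← sc_comm, ← sc_comm, mul_inv_cancel_right, mul_inv_cancel_right]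
  have hsc1 : (sc 1 : (Fin 2 → K) ≃ₗ[K] (Fin 2 → K)) = 1 := map_one dg
  have conjz : ∀ t ∈ T, t * z * t⁻¹ = z := by
    intro t ht
    obtain ⟨p, π, -, -, -, rfl⟩ := casesT t ht
    rcases perm_two π with rfl | rfl
    · rw [map_one, mul_one, hz, conjJ]
    · have h1 : J p * bp (swap 0 1) * z * (J p * bp (swap 0 1))⁻¹ = J p * (ww β * z * (ww β)⁻¹) * (J p)⁻¹ := by
        rw [ww]; group
      rw [h1, hz, ww_dd, conjJ]
  have conju0 : ∀ t ∈ T, t * u0 * t⁻¹ = u0 ∨ t * u0 * t⁻¹ = u1 := by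
    intro t ht
    obtain ⟨p, π, -, -, -, rfl⟩ := casesT t ht
    rcases perm_two π with rfl | rfl
    · left
      rw [map_one, mul_one, hu0, ← hsc1, conjJ]
    · right
      have h1 : J p * bp (swap 0 1) * u0 * (J p * bp (swap 0 1))⁻¹ = J p * (ww β * u0 * (ww β)⁻¹) * (J p)⁻¹ := by
        rw [ww]; group
      rw [h1, hu0, ww_dd, ← hsc1, conjJ, hu1, hsc1]
  obtain ⟨a, haP, b, hbP, had, hbd, hab⟩ := hna
  -- the second centre
  have Ucases : ∀ g ∈ T, (∀ t ∈ T, ∀ t' ∈ T, (g * t * g⁻¹ * t⁻¹) * t' = t' * (g * t * g⁻¹ * t⁻¹)) →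
      g = 1 ∨ g = u0 ∨ g = u1 ∨ g = z := by
    intro g hg hU
    obtain ⟨p, π, hp1, hp2, hpd, rfl⟩ := casesT g hg
    rcases perm_two π with rfl | rfl
    · rw [map_one, mul_one] at hU ⊢
      have hww : ∀ e f : (Fin 2 → K) ≃ₗ[K] (Fin 2 → K), dd β e f * ww β = ww β * dd β e f → e = f := by
        intro e f h
        have h1 : ww β * dd β e f * (ww β)⁻¹ = dd β e f := by rw [← h, mul_inv_cancel_right]
        rw [ww_dd] at h1
        exact (dd_inj h1).2
      have h0 : ∀ c ∈ P, LinearEquiv.det c = 1 → p.1 0 * c = c * p.1 0 := by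
        intro c hc hcd
        have h1 := hU (dd β c 1) (ddT c hc 1 P.one_mem (by rw [hcd, map_one, one_mul])) (ww β) wwT
        rw [conj_dd, dd_inv, dd_mul] at h1
        have h2 := hww _ _ h1
        have h3 : p.1 0 * c * (p.1 0)⁻¹ * c⁻¹ = 1 := by rw [h2]; group
        rw [mul_inv_eq_one] at h3
        exact mul_inv_eq_iff_eq_mul.1 h3
      have h1 : ∀ c ∈ P, LinearEquiv.det c = 1 → p.1 1 * c = c * p.1 1 := by
        intro c hc hcd
        have h1 := hU (dd β 1 c) (ddT 1 P.one_mem c hc (by rw [hcd, map_one, one_mul])) (ww β) wwT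
        rw [conj_dd, dd_inv, dd_mul] at h1
        have h2 := hww _ _ h1
        have h3 : p.1 1 * c * (p.1 1)⁻¹ * c⁻¹ = 1 := by rw [← h2]; group
        rw [mul_inv_eq_one] at h3
        exact mul_inv_eq_iff_eq_mul.1 h3
      obtain ⟨l, hl⟩ := RankTwo.scalar_of_comm (h0 a haP had) (h0 b hbP hbd) hab
      obtain ⟨m, hm⟩ := RankTwo.scalar_of_comm (h1 a haP had) (h1 b hbP hbd) hab
      have hl2 := hD2 l (hsc l (hl ▸ hp1 0))
      have hm2 := hD2 m (hsc m (hm ▸ hp1 1))
      have hsq : ∀ c : Kˣ, (c = 1 ∨ c = -1) → c * c = 1 := by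
        rintro c (rfl | rfl) <;> simp
      have hprod : ∏ j, p.2 j = 1 := by
        rw [det_J, Fin.prod_univ_two, hl, hm, det_sc, det_sc, hsq l hl2, hsq m hm2, one_mul, one_mul] at hpd
        exact hpd
      have hp2' : p.2 = 1 := by
        funext j
        rw [Fintype.prod_subsingleton _ j] at hprod
        exact hprod
      have hJ : J p = dd β (sc l) (sc m) := by
        rw [dd]
        congr 1
        ext1
        · funext i
          fin_cases i
          · exact hl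
          · exact hm
        · exact hp2'
      rw [hJ]
      rcases hl2 with rfl | rfl <;> rcases hm2 with rfl | rfl
      · left
        rw [hsc1, dd_one]
      · right; right; left
        rw [hsc1, hu1]
      · right; left
        rw [hsc1, hu0]
      · right; right; right
        rfl
    · exfalso
      have h1 := hU (dd β a 1) (ddT a haP 1 P.one_mem (by rw [had, map_one, one_mul])) (dd β b 1)
        (ddT b hbP 1 P.one_mem (by rw [hbd, map_one, one_mul]))
      have h2 : J p * bp (swap 0 1) * dd β a 1 * (J p * bp (swap 0 1))⁻¹ * (dd β a 1)⁻¹ =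
          dd β a⁻¹ (p.1 1 * a * (p.1 1)⁻¹) := by
        have h3 : J p * bp (swap 0 1) * dd β a 1 * (J p * bp (swap 0 1))⁻¹ * (dd β a 1)⁻¹ =
          J p * (ww β * dd β a 1 * (ww β)⁻¹) * (J p)⁻¹ * (dd β a 1)⁻¹ := by rw [ww]; group
        rw [h3, ww_dd, conj_dd, dd_inv, dd_mul]
        congr 1 <;> group
      rw [h2, dd_mul, dd_mul] at h1
      have h4 := (dd_inj h1).1
      apply hab
      calc a * b = a * (b * a⁻¹) * a := by group
        _ = a * (a⁻¹ * b) * a := by rw [h4]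
        _ = b * a := by group
  intro x hx ho
  have hmap : T.map (MulAut.conj x).toMonoidHom = T := by
    apply Subgroup.eq_of_le_of_card_ge
    · rintro _ ⟨y, hy, rfl⟩
      exact hx y hy
    · rw [Subgroup.card_map_of_injective (MulAut.conj x).injective]
  have hxi : ∀ t ∈ T, ∃ t' ∈ T, t = x * t' * x⁻¹ := by
    intro t ht
    obtain ⟨t', ht', h⟩ := hmap.ge ht
    exact ⟨t', ht', h.symm⟩
  have Uconj : ∀ g ∈ T, (∀ t ∈ T, ∀ t' ∈ T, (g * t * g⁻¹ * t⁻¹) * t' = t' * (g * t * g⁻¹ * t⁻¹)) →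
      x * g * x⁻¹ = 1 ∨ x * g * x⁻¹ = u0 ∨ x * g * x⁻¹ = u1 ∨ x * g * x⁻¹ = z := by
    intro g hg hU
    apply Ucases _ (hx g hg)
    intro t ht t' ht'
    obtain ⟨s, hs, rfl⟩ := hxi t ht
    obtain ⟨s', hs', rfl⟩ := hxi t' ht'
    have h1 := hU s hs s' hs'
    calc x * g * x⁻¹ * (x * s * x⁻¹) * (x * g * x⁻¹)⁻¹ * (x * s * x⁻¹)⁻¹ * (x * s' * x⁻¹)
        = x * ((g * s * g⁻¹ * s⁻¹) * s') * x⁻¹ := by group
      _ = x * (s' * (g * s * g⁻¹ * s⁻¹)) * x⁻¹ := by rw [h1]
      _ = _ := by group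
  have hcz : ∀ t ∈ T, z * t = t * z := fun t ht => (mul_inv_eq_iff_eq_mul.1 (conjz t ht)).symm
  have hzz : z * z = 1 := by rw [hz, dd_mul, hscsc, dd_one]
  have hu00 : u0 * u0 = 1 := by rw [hu0, dd_mul, hscsc, one_mul, dd_one]
  have hu01' : u0 * u1 = z := by rw [hu0, hu1, dd_mul, mul_one, one_mul]
  have hu0i : u0⁻¹ = u0 := inv_eq_of_mul_eq_one_right hu00
  have Uu0 := Uconj u0 u0T (by
    intro t ht t' ht'
    have h1 : u0 * t * u0⁻¹ * t⁻¹ = 1 ∨ u0 * t * u0⁻¹ * t⁻¹ = z := by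
      rcases conju0 t ht with h2 | h2
      · left
        have : u0 * t * u0⁻¹ * t⁻¹ = u0 * (t * u0⁻¹ * t⁻¹) := by group
        rw [this, hu0i, h2, hu00]
      · right
        have : u0 * t * u0⁻¹ * t⁻¹ = u0 * (t * u0⁻¹ * t⁻¹) := by group
        rw [this, hu0i, h2, hu01']
    rcases h1 with h1 | h1
    · rw [h1, one_mul, mul_one]
    · rw [h1, hcz t' ht'])
  have Uz := Uconj z zT (by
    intro t ht t' ht'
    have : z * t * z⁻¹ * t⁻¹ = 1 := by rw [hcz t ht]; group
    rw [this, one_mul, mul_one])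
  -- `x` commutes with `z`
  have hxz : x * z * x⁻¹ = z := by
    have hcen : ∀ t ∈ T, (x * z * x⁻¹) * t = t * (x * z * x⁻¹) := by
      intro t ht
      obtain ⟨s, hs, rfl⟩ := hxi t ht
      calc x * z * x⁻¹ * (x * s * x⁻¹) = x * (z * s) * x⁻¹ := by group
        _ = x * (s * z) * x⁻¹ := by rw [hcz s hs]
        _ = _ := by group
    have hw := hcen _ wwT
    have hw0 : u0 * ww β ≠ ww β * u0 := by
      intro h
      have h1 : ww β * u0 * (ww β)⁻¹ = u0 := by rw [← h, mul_inv_cancel_right]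
      rw [hu0, ww_dd] at h1
      exact hscne (dd_inj h1).2
    have hw1 : u1 * ww β ≠ ww β * u1 := by
      intro h
      have h1 : ww β * u1 * (ww β)⁻¹ = u1 := by rw [← h, mul_inv_cancel_right]
      rw [hu1, ww_dd] at h1
      exact hscne (dd_inj h1).1
    rcases Uz with h | h | h | h
    · exfalso
      apply hz1
      calc z = x⁻¹ * (x * z * x⁻¹) * x := by group
        _ = 1 := by rw [h]; group
    · rw [h] at hw
      exact absurd hw hw0
    · rw [h] at hw
      exact absurd hw hw1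
    · exact h
  have hxu0 : x * u0 = u0 * x := by
    rcases Uu0 with h | h | h | h
    · exfalso
      have h1 : u0 = 1 := by
        calc u0 = x⁻¹ * (x * u0 * x⁻¹) * x := by group
          _ = 1 := by rw [h]; group
      rw [hu0, ← dd_one] at h1
      exact hscne (dd_inj h1).1
    · exact mul_inv_eq_iff_eq_mul.1 h
    · -- `x` interchanges `u0` and `u1`
      have h1 : x * u1 * x⁻¹ = u0 := by
        rw [← hu0z]
        calc x * (u0 * z) * x⁻¹ = (x * u0 * x⁻¹) * (x * z * x⁻¹) := by group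
          _ = u1 * z := by rw [h, hxz]
          _ = u0 := hu1z
      have h2 : (x * x) * u0 = u0 * (x * x) := by
        have : (x * x) * u0 * (x * x)⁻¹ = x * (x * u0 * x⁻¹) * x⁻¹ := by group
        rw [h, h1] at this
        exact mul_inv_eq_iff_eq_mul.1 this
      obtain ⟨k, hk⟩ := ho
      have h3 : Commute (x * x) u0 := h2
      have h4 : Commute ((x * x) ^ (k + 1)) u0 := h3.pow_left _
      have h5 : (x * x) ^ (k + 1) = x := by
        rw [← pow_two, ← pow_mul, show 2 * (k + 1) = (2 * k + 1) + 1 by ring, pow_succ, ← hk, pow_orderOf_eq_one, one_mul]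
      rw [h5] at h4
      exact h4
    · exfalso
      have h1 : x * u0 * x⁻¹ = x * z * x⁻¹ := by rw [h, hxz]
      have h2 : u0 = z := mul_left_cancel (mul_right_cancel h1)
      rw [hu0, hz] at h2
      exact hscne (dd_inj h2).2.symm
  have hxu1 : x * u1 = u1 * x := by
    have h1 : x * z = z * x := mul_inv_eq_iff_eq_mul.1 hxz
    rw [← hu0z, ← mul_assoc, hxu0, mul_assoc, h1, mul_assoc]
  -- `x` is block-diagonal
  have hub0 : ub β (0 : Fin 2) = u0 := by
    rw [ub, hu0, dd]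
    congr 1
    ext1
    · funext i
      fin_cases i <;> rfl
    · rfl
  have hub1 : ub β (1 : Fin 2) = u1 := by
    rw [ub, hu1, dd]
    congr 1
    ext1
    · funext i
      fin_cases i <;> rfl
    · rfl
  obtain ⟨p, rfl⟩ := exists_J two x (Fin.forall_fin_two.2 ⟨by rw [hub0, hxu0], by rw [hub1, hxu1]⟩)
  have hinP : ∀ q, J q ∈ T → ∀ i, q.1 i ∈ P := by
    intro q hq
    obtain ⟨q', π, h1, -, -, h3⟩ := casesT _ hq
    have h4 : J (q'⁻¹ * q) = bp π := by
      rw [map_mul, map_inv, h3]; group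
    have h5 := eq_one_of_J_eq_bp h4
    rw [h5, map_one, mul_one] at h3
    rw [J_injective h3]
    exact h1
  have hpow : ∀ i, Odd (orderOf (p.1 i)) := by
    intro i
    have h1 : p ^ orderOf (J p) = 1 := by
      apply J_injective
      rw [map_pow, pow_orderOf_eq_one, map_one]
    have h2 : (p.1 i) ^ orderOf (J p) = 1 := congrArg (fun q => q.1 i) h1
    exact ho.of_dvd_nat (orderOf_dvd_of_pow_eq_one h2)
  have hdgdet : ∀ c ∈ D2, ∃ q ∈ P, LinearEquiv.det q = c := by
    intro c hc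
    refine ⟨dg (Pi.mulSingle 0 c), hdg _ fun i => ?_, ?_⟩
    · rw [Pi.mulSingle_apply]; split_ifs
      · exact hc
      · exact D2.one_mem
    · rw [det_dg, Finset.prod_pi_mulSingle']
      simp
  have hsc0 : ∃ c : Kˣ, p.1 0 = sc c := by
    refine RankTwo.rank_two two P hP D2 hneg hdgdet hsc ⟨a, haP, b, hbP, had, hbd, hab⟩ ?_ (hpow 0)
    intro y hy
    obtain ⟨y', hy', hyd⟩ := hdgdet _ (D2.inv_mem (hdet y hy))
    have h1 := hx _ (ddT y hy y' hy' (by rw [hyd, mul_inv_cancel]))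
    rw [conj_dd] at h1
    exact hinP _ h1 0
  have hsc1' : ∃ c : Kˣ, p.1 1 = sc c := by
    refine RankTwo.rank_two two P hP D2 hneg hdgdet hsc ⟨a, haP, b, hbP, had, hbd, hab⟩ ?_ (hpow 1)
    intro y hy
    obtain ⟨y', hy', hyd⟩ := hdgdet _ (D2.inv_mem (hdet y hy))
    have h1 := hx _ (ddT y' hy' y hy (by rw [hyd, inv_mul_cancel]))
    rw [conj_dd] at h1
    exact hinP _ h1 1
  obtain ⟨l, hl⟩ := hsc0
  obtain ⟨m, hm⟩ := hsc1'
  have hcJ : ∀ q, J p * J q = J q * J p := by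
    intro q
    rw [← map_mul, ← map_mul]
    congr 1
    ext1
    · funext i
      fin_cases i
      · show p.1 0 * q.1 0 = q.1 0 * p.1 0
        rw [hl, sc_comm]
      · show p.1 1 * q.1 1 = q.1 1 * p.1 1
        rw [hm, sc_comm]
    · exact mul_comm _ _
  intro t ht
  obtain ⟨q, π, -, -, -, rfl⟩ := casesT t ht
  rcases perm_two π with rfl | rfl
  · rw [map_one, mul_one, hcJ]
  · have h1 : J p * (ww β * (J p)⁻¹ * (ww β)⁻¹) = dd β (sc (l * m⁻¹)) (sc (m * l⁻¹)) := by
      rw [← map_inv, ww, bp_J, ← map_mul, dd]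
      congr 1
      ext1
      · funext i
        fin_cases i
        · show p.1 0 * (p.1 1)⁻¹ = sc (l * m⁻¹)
          rw [hl, hm, sc_mul]
          congr 1
        · show p.1 1 * (p.1 0)⁻¹ = sc (m * l⁻¹)
          rw [hl, hm, sc_mul]
          congr 1
      · exact mul_inv_cancel p.2
    have h2 : J p * (J q * bp (swap 0 1)) * (J p)⁻¹ = dd β (sc (l * m⁻¹)) (sc (m * l⁻¹)) * (J q * bp (swap 0 1)) := by
      have h3 : J p * (J q * bp (swap 0 1)) * (J p)⁻¹ =
          (J p * J q) * (ww β * (J p)⁻¹ * (ww β)⁻¹) * ww β := by rw [ww]; group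
      rw [h3, hcJ]
      have h4 : J q * J p * (ww β * (J p)⁻¹ * (ww β)⁻¹) * ww β = J q * (J p * (ww β * (J p)⁻¹ * (ww β)⁻¹)) * (J q)⁻¹ * (J q * ww β) := by
        group
      rw [h4, h1, conjJ]
      rfl
    refine comm_of_comm h2 ?_ ho ?_
    · have := conjJ p (l * m⁻¹) (m * l⁻¹)
      exact mul_inv_eq_iff_eq_mul.1 this
    · have h3 : dd β (sc (l * m⁻¹)) (sc (m * l⁻¹)) ∈ T := by
        have h4 := T.mul_mem (hx _ ht) (T.inv_mem ht)
        rw [h2, mul_inv_cancel_right] at h4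
        exact h4
      obtain ⟨k, hk⟩ := hR ⟨_, h3.1⟩
      exact ⟨k, congrArg Subtype.val hk⟩

end two

end Cfsg.Agent.H201.Blocks
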