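import Cfsg.Agent.H201.CommAlt
import Cfsg.Agent.H162.CC.Iface

/-!
# The alternating row of S3828 in the form of `H162/CC`
-/

set_option autoImplicit false

namespace Cfsg.Agent.H201.CommAlt

open Cfsg.Agent.H162

/-- The two forms of the row are equivalent. -/
theorem crow_of_comm {p : ℕ} {G : Type*} [Group G] (h : H533.Comm.CRow p G) : CCR.CRow p G := by
  intro C hC c hc
  by_contra hc1
  exact h C ⟨⟨hC.conj, hC.pel, hC.comm, hC.sq⟩, ⟨c, hc, hc1⟩,
    fun H hH c hcH hcC => hC.loc H hH c hcC hcH⟩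

/-- The two forms of the row are equivalent. -/
theorem comm_of_crow {p : ℕ} {G : Type*} [Group G] (h : CCR.CRow p G) : H533.Comm.CRow p G := by
  intro C hC
  obtain ⟨c, hc, hc1⟩ := hC.ne
  exact hc1 (h C ⟨⟨hC.conj, hC.pel, hC.comm, hC.sq⟩,
    fun H hH c hcC hcH => hC.core H hH c hcH hcC⟩ c hc)

/-- **The row of the alternating groups**, `H162/CC` form. -/
theorem crow_alt' {n : ℕ} (hn : 5 ≤ n) (p : ℕ) [Fact p.Prime] :
    CCR.CRow p ↥(alternatingGroup (Fin n)) :=
  crow_of_comm (crow_alt hn)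

end Cfsg.Agent.H201.CommAlt
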