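import Cfsg.Agent.H201.BlockMain

/-!
# Systems of groups with block decompositions: the kernel of the determinant (helper201)
-/

set_option autoImplicit false
open Subgroup
open Cfsg.Agent.H630.NH

namespace Cfsg.Agent.H201.BlockSys

universe u v

theorem relIndex_sup {G : Type*} [Group G] [Finite G] (S K : Subgroup G) [K.Normal] :
    S.relIndex (S ⊔ K) = S.relIndex K := by
  have h1 : Nat.card S * S.relIndex (S ⊔ K) = Nat.card (S ⊔ K : Subgroup G) := by
    rw [← Subgroup.relIndex_bot_left, ← Subgroup.relIndex_bot_left,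
      Subgroup.relIndex_mul_relIndex _ _ _ bot_le le_sup_left]
  have h2 : Nat.card K * K.relIndex S = Nat.card (S ⊔ K : Subgroup G) := by
    rw [← Subgroup.relIndex_sup_right S K, ← Subgroup.relIndex_bot_left, ← Subgroup.relIndex_bot_left,
      Subgroup.relIndex_mul_relIndex _ _ _ bot_le le_sup_right]
  have h3 : Nat.card (K ⊓ S : Subgroup G) * K.relIndex S = Nat.card S := by
    rw [← Subgroup.inf_relIndex_right, ← Subgroup.relIndex_bot_left,
      Subgroup.relIndex_mul_relIndex _ _ _ bot_le inf_le_right, Subgroup.relIndex_bot_left]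
  have h4 : Nat.card (K ⊓ S : Subgroup G) * S.relIndex K = Nat.card K := by
    rw [inf_comm, ← Subgroup.inf_relIndex_right, ← Subgroup.relIndex_bot_left,
      Subgroup.relIndex_mul_relIndex _ _ _ bot_le inf_le_right, Subgroup.relIndex_bot_left]
  have h5 : 0 < Nat.card (K ⊓ S : Subgroup G) := Nat.card_pos
  have h6 : 0 < K.relIndex S := Nat.pos_of_ne_zero (index_ne_zero_of_finite)
  apply Nat.eq_of_mul_eq_mul_left (Nat.mul_pos h5 h6)
  calc Nat.card (K ⊓ S : Subgroup G) * K.relIndex S * S.relIndex (S ⊔ K)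
      = Nat.card S * S.relIndex (S ⊔ K) := by rw [h3]
    _ = Nat.card K * K.relIndex S := by rw [h1, h2]
    _ = Nat.card (K ⊓ S : Subgroup G) * S.relIndex K * K.relIndex S := by rw [h4]
    _ = _ := by ring

/-- `Cond` for a normal subgroup of index prime to `π`. -/
theorem cond_of_normal {π : Set ℕ} {G : Type*} [Group G] [Finite G] (N : Subgroup G) [N.Normal]
    (hπ : ∀ p ∈ π, p.Prime ∧ ¬ p ∣ N.index) (h : Cond π N) : Cond π G := by
  intro p hp q hq hpq x hx hd
  obtain ⟨k, hk⟩ := hx
  have hpp := (hπ p hp).1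
  have hxN : x ∈ N := by
    have h1 : x ^ N.index ∈ N := Subgroup.pow_index_mem N x
    have h2 : (p ^ k).Coprime N.index := Nat.Coprime.pow_left k ((hpp.coprime_iff_not_dvd).2 (hπ p hp).2)
    have h3 : x ∈ Subgroup.zpowers (x ^ N.index) := by
      have h4 : Nat.Coprime (orderOf x) N.index := by rw [hk]; exact h2
      rw [mem_zpowers_pow_iff]
      exact h4.symm
    exact (Subgroup.zpowers_le.mpr h1) h3
  have h4 := h p hp q hq hpq ⟨x, hxN⟩ ⟨k, by rw [← hk, ← Subgroup.orderOf_coe]⟩
  apply h4
  have h5 : (Subgroup.centralizer ({⟨x, hxN⟩} : Set N)) = (Subgroup.centralizer ({x} : Set G)).subgroupOf N := by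
    ext z
    rw [Subgroup.mem_subgroupOf, Subgroup.mem_centralizer_singleton_iff, Subgroup.mem_centralizer_singleton_iff]
    constructor
    · intro hz
      exact congrArg Subtype.val hz
    · intro hz
      exact Subtype.ext hz
  have h6 : (Subgroup.centralizer ({⟨x, hxN⟩} : Set N)).index = (Subgroup.centralizer ({x} : Set G)).relIndex N := by
    rw [h5]; rfl
  rw [h6]
  have h7 : (Subgroup.centralizer ({x} : Set G)).index ∣ (Subgroup.centralizer ({x} : Set G) ⊓ N).index :=
    Subgroup.index_dvd_of_le inf_le_left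
  have h8 : (Subgroup.centralizer ({x} : Set G) ⊓ N).index
      = (Subgroup.centralizer ({x} : Set G)).relIndex N * N.index := by
    rw [← Subgroup.relIndex_mul_index (inf_le_right : Subgroup.centralizer ({x} : Set G) ⊓ N ≤ N),
      Subgroup.inf_relIndex_right]
  rw [h8] at h7
  rcases ((hπ q hq).1).dvd_mul.mp (hd.trans h7) with h9 | h9
  · exact h9
  · exact absurd h9 (hπ q hq).2

/-- An abelian subgroup of the group intersects a normal subgroup. -/
theorem inter_normal {π : Set ℕ} {G : Type*} [Group G] [Finite G] (N : Subgroup G) [N.Normal] (T : Subgroup G)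
    (hT : ∀ x ∈ T, ∀ y ∈ T, x * y = y * x) (hi : ∀ s ∈ π, ¬ s ∣ T.index) :
    ∃ T' : Subgroup N, IsMulCommutative T' ∧ ∀ s ∈ π, ¬ s ∣ T'.index := by
  refine ⟨T.subgroupOf N, Sys.isMulCommutative_of ?_, ?_⟩
  · intro x hx y hy
    exact Subtype.ext (hT x hx y hy)
  · intro p hp h1
    have h2 : (T.subgroupOf N).index = T.relIndex N := rfl
    rw [h2, ← relIndex_sup] at h1
    exact hi p hp (h1.trans (Subgroup.relIndex_dvd_index_of_le le_sup_left))

/-- The class size in a normal subgroup `N` with `N C(y) = G`. -/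
theorem index_centralizer_normal {G : Type*} [Group G] [Finite G] (N : Subgroup G) [N.Normal] (y : N)
    (h : centralizer ({(y : G)} : Set G) ⊔ N = ⊤) :
    (centralizer ({y} : Set N)).index = (centralizer ({(y : G)} : Set G)).index := by
  have h5 : (centralizer ({y} : Set N)) = (centralizer ({(y : G)} : Set G)).subgroupOf N := by
    ext z
    rw [mem_subgroupOf, mem_centralizer_singleton_iff, mem_centralizer_singleton_iff]
    constructor
    · intro hz
      exact congrArg Subtype.val hz
    · intro hz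
      exact Subtype.ext hz
  have h6 : (centralizer ({y} : Set N)).index = (centralizer ({(y : G)} : Set G)).relIndex N := by
    rw [h5]; rfl
  rw [h6, ← relIndex_sup, h, relIndex_top_right]

namespace Sys

variable {r : ℕ} {S : Sys.{u, v} r}

theorem crossRow_ker (F : Fam S) (one : S.I) (hinj : Function.Injective (F.det one)) (U : Subgroup F.D) [Finite U]
    (hU : ∀ (c : S.I) (x : S.G c), F.det c x ∈ U) (hsurj : ∀ u ∈ U, ∃ x : S.G one, F.det one x = u)
    (hM1 : ∀ s, Good r s → s ∣ Nat.card U → S.M s = one)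
    (hN1 : ∀ c, S.N one c = S.dim c) (hone : S.dim one = 1)
    (hdim : ∀ s t, Good r s → Good r t → S.dim (S.M s) = S.dim (S.M t) → S.M s = S.M t)
    (c : S.I) : CrossRow r (F.det c).ker := by
  intro π hπ hnt hc
  have hg : ∀ s ∈ π, Good r s := fun s hs => ⟨(hπ s hs).1, (hπ s hs).2.1, (hπ s hs).2.2.1⟩
  have hd : ∀ s ∈ π, s ∣ Nat.card (S.G c) := fun s hs => (hπ s hs).2.2.2.trans (card_subgroup_dvd_card _)
  have hcomm1 : ∀ x y : S.G one, x * y = y * x := fun x y => hinj (by rw [map_mul, map_mul, mul_comm])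
  by_cases hall : ∀ s ∈ π, ¬ s ∣ Nat.card U
  · have h1 : (F.det c).ker.index ∣ Nat.card U := by
      rw [index_ker]
      refine card_dvd_of_le ?_
      rintro _ ⟨x, rfl⟩
      exact hU c x
    have h2 : Cond π (S.G c) := cond_of_normal (F.det c).ker
      (fun p hp => ⟨(hg p hp).1, fun h => hall p hp (h.trans h1)⟩) hc
    obtain ⟨T, hT, hi⟩ := exists_abelian hdim c π hg hd hnt h2
    exact inter_normal _ T hT hi
  · push Not at hall
    obtain ⟨s0, hs0, hs0d⟩ := hall
    have hp0 : Fact s0.Prime := ⟨(hg s0 hs0).1⟩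
    have hMs0 : S.M s0 = one := hM1 s0 (hg s0 hs0) hs0d
    -- all minimal blocks are one-dimensional
    have hM : ∀ t ∈ π, S.M t = one := by
      intro t ht
      have hpt : Fact t.Prime := ⟨(hg t ht).1⟩
      by_contra hne
      have hdne : S.dim (S.M t) ≠ S.dim one := by
        intro h
        exact hne ((hdim t s0 (hg t ht) (hg s0 hs0) (by rw [h, hMs0])).trans hMs0)
      have hpos := dim_pos (S := S) (hg t ht)
      have hlt : S.dim one < S.dim (S.M t) := by omega
      have hne0 : s0 ≠ t := fun h => hne (h ▸ hMs0)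
      have hdimc : S.dim (S.M t) ≤ S.dim c := by
        by_contra hlt2
        obtain ⟨y, hy⟩ := exists_prime_orderOf_dvd_card' t (hd t ht)
        have h1 : y ^ t = 1 := by
          have := pow_orderOf_eq_one y
          rwa [hy] at this
        have h2 := eq_one_of_dim_lt (hg t ht) (not_le.1 hlt2) y h1
        rw [h2, orderOf_one] at hy
        exact (hg t ht).1.one_lt.ne hy
      obtain ⟨g1, g2, g3⟩ := hg s0 hs0
      obtain ⟨c', hc', hN'⟩ := S.split1 s0 g1 g2 g3 c (by rw [hMs0, hN1]; omega)
      obtain ⟨c'', hc'', hN''⟩ := S.split1 s0 g1 g2 g3 c' (by rw [hMs0] at hN' ⊢; rw [hN1 c] at hN'; omega)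
      obtain ⟨x, hx, hx1⟩ := exists_elem (S := S) (hg s0 hs0)
      -- the inverse
      have hs02 : 2 < s0 := lt_of_le_of_ne g1.two_le (Ne.symm g2)
      set k : (ZMod s0)ˣ := -1 with hk
      have hkH : k ∉ S.H s0 := by
        intro h
        have h1 : Nat.card (S.H s0) = 1 := by rw [S.H_card s0 g1 g2 g3, hMs0, hone]
        rw [(Subgroup.card_eq_one).1 h1, mem_bot] at h
        have h2 : ((-1 : (ZMod s0)ˣ) : ZMod s0) = ((1 : (ZMod s0)ˣ) : ZMod s0) := by rw [← hk, h]
        rw [Units.val_neg, Units.val_one] at h2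
        have h3 : Fact (2 < s0) := ⟨hs02⟩
        exact ZMod.neg_one_ne_one h2
      have hdisj := disjoint_pow (hg s0 hs0) hx hx1 k hkH
      set x2 := x ^ (k : ZMod s0).val with hx2
      have hx2x : x * x2 = 1 := by
        rw [hx2, ← pow_succ']
        have h1 : ((((k : ZMod s0).val + 1 : ℕ)) : ZMod s0) = 0 := by
          rw [Nat.cast_add, ZMod.natCast_zmod_val, hk, Units.val_neg, Units.val_one, Nat.cast_one, neg_add_cancel]
        obtain ⟨m, hm⟩ := (ZMod.natCast_eq_zero_iff _ _).1 h1
        rw [hm, pow_mul, hx, one_pow]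
      have hx2s : x2 ^ s0 = 1 := by rw [hx2, ← pow_mul, mul_comm, pow_mul, hx, one_pow]
      -- a Sylow subgroup containing `β (x2, 1)`
      have hzp : IsPGroup s0 (zpowers (S.β hc'' (x2, 1))) := by
        rintro ⟨y, hy⟩
        obtain ⟨i, rfl⟩ := mem_zpowers_iff.1 hy
        refine ⟨1, Subtype.ext ?_⟩
        show ((S.β hc'' (x2, 1)) ^ i) ^ s0 ^ 1 = 1
        rw [pow_one, ← zpow_natCast, ← zpow_mul, mul_comm, zpow_mul, zpow_natCast, ← map_pow, Prod.pow_mk, hx2s,
          one_pow, show ((1 : S.G (S.M s0)), (1 : S.G c'')) = 1 from rfl, map_one, one_zpow]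
      obtain ⟨P', hP'⟩ := hzp.exists_le_sylow
      set A : Subgroup (F.det c).ker :=
        (((⊤ : Subgroup (S.G (S.M s0))).prod (P' : Subgroup (S.G c'))).map (S.β hc')).subgroupOf (F.det c).ker with hA
      have hinj' : Function.Injective (F.det (S.M s0)) := by rw [hMs0]; exact hinj
      have hsurj' : ∀ u ∈ U, ∃ x : S.G (S.M s0), F.det (S.M s0) x = u := by rw [hMs0]; exact hsurj
      have hAp : IsPGroup s0 A := by
        rintro ⟨⟨g, hgk⟩, ⟨⟨a, b⟩, hab, rfl : S.β hc' (a, b) = g⟩⟩
        obtain ⟨j, hj⟩ := P'.isPGroup' ⟨b, (mem_prod.1 hab).2⟩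
        have hj' : b ^ s0 ^ j = 1 := congrArg Subtype.val hj
        have hdet : F.det _ a * F.det _ b = 1 := by
          rw [← F.det_β hc']
          exact hgk
        have ha : a ^ s0 ^ j = 1 := by
          apply hinj'
          rw [map_pow, map_one]
          have h1 : (F.det _ a * F.det _ b) ^ s0 ^ j = 1 := by rw [hdet, one_pow]
          rwa [mul_pow, ← map_pow (F.det c') b, hj', map_one, mul_one] at h1
        refine ⟨j, Subtype.ext (Subtype.ext ?_)⟩
        show (S.β hc' (a, b)) ^ s0 ^ j = 1
        rw [← map_pow, Prod.pow_mk, ha, hj']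
        exact map_one _
      refine not_cond_of_centralizer hs0 ht hne0 (hπ t ht).2.2.2 A hAp ?_ hc
      intro y hy hyA
      have hy1 : (y : S.G c) ^ t = 1 := by
        have := pow_orderOf_eq_one y
        rw [hy] at this
        exact congrArg Subtype.val this
      have hcom : ∀ a : S.G (S.M s0), ∀ b ∈ P', F.det _ a * F.det _ b = 1 →
          S.β hc' (a, b) * (y : S.G c) = (y : S.G c) * S.β hc' (a, b) := by
        intro a b hb hab
        have h1 : S.β hc' (a, b) ∈ (F.det c).ker := by
          rw [MonoidHom.mem_ker, F.det_β]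
          exact hab
        exact congrArg Subtype.val (hyA ⟨S.β hc' (a, b), h1⟩ ⟨(a, b), mem_prod.2 ⟨mem_top _, hb⟩, rfl⟩)
      have h2 : F.det _ x * F.det _ (S.β hc'' (x2, 1)) = 1 := by
        rw [F.det_β, map_one, mul_one, ← map_mul, hx2x, map_one]
      have h3 := hcom x _ (hP' (mem_zpowers _)) h2
      have hdj : Disjoint (S.E x) (S.E (S.β hc'' (x2, 1))) := by
        rw [S.E_β, Set.disjoint_union_right]
        exact ⟨hdisj, disjoint_one (hg s0 hs0) hx hx1 c''⟩
      obtain ⟨u, w, huw⟩ := S.cp hc' x _ (y : S.G c) hdj h3.symm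
      have h4 : u ^ t = 1 ∧ w ^ t = 1 := by
        rw [huw, ← map_pow, ← map_one (S.β hc')] at hy1
        have := S.β_inj hc' hy1
        exact ⟨congrArg Prod.fst this, congrArg Prod.snd this⟩
      have hu : u = 1 := eq_one_of_dim_lt (hg t ht) (by rw [hMs0]; exact hlt) u h4.1
      have hw : w = 1 := by
        refine alpha (hg s0 hs0) (hg t ht) (by rw [hMs0]; exact hlt) c' P' w h4.2 (fun b hb => ?_)
        obtain ⟨a, ha⟩ := hsurj' (F.det _ b)⁻¹ (inv_mem (hU _ b))
        have h5 := hcom a b hb (by rw [ha, inv_mul_cancel])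
        rw [huw, ← map_mul, ← map_mul] at h5
        exact congrArg Prod.snd (S.β_inj hc' h5)
      have h6 : y = 1 := by
        apply Subtype.ext
        rw [huw, hu, hw]
        exact map_one _
      rw [h6, orderOf_one] at hy
      exact (hg t ht).1.one_lt.ne hy
    -- multiplicities
    have hlt : ∀ s ∈ π, S.N one c < s := by
      have key : ∀ s ∈ π, ∀ t ∈ π, s < t → S.N one c < s := by
        intro s hs t ht hst
        have hps : Fact s.Prime := ⟨(hg s hs).1⟩
        have hpt : Fact t.Prime := ⟨(hg t ht).1⟩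
        by_contra hle
        set c1 : ℕ := max (S.N one c % s) 1 with hc1
        have h1c : 1 ≤ c1 := le_max_right _ _
        have hcs : c1 < s := max_lt (Nat.mod_lt _ (hg s hs).1.pos) (hg s hs).1.one_lt
        have hne : -(c1 : ZMod t) ≠ 0 := by
          rw [neg_ne_zero, Ne, ZMod.natCast_eq_zero_iff]
          intro h
          have := Nat.le_of_dvd (by omega) h
          omega
        set k : (ZMod t)ˣ := Units.mk0 _ hne with hk
        have hkH : k ∉ S.H t := by
          intro h
          obtain ⟨g1, g2, g3⟩ := hg t ht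
          have h1 : Nat.card (S.H t) = 1 := by rw [S.H_card t g1 g2 g3, hM t ht, hone]
          rw [(Subgroup.card_eq_one).1 h1, mem_bot] at h
          have h2 : -(c1 : ZMod t) = 1 := by
            have := congrArg (fun z : (ZMod t)ˣ => (z : ZMod t)) h
            exact this
          have h3 : (((c1 + 1 : ℕ)) : ZMod t) = 0 := by
            rw [Nat.cast_add, Nat.cast_one, ← h2, add_neg_cancel]
          rw [ZMod.natCast_eq_zero_iff] at h3
          have := Nat.le_of_dvd (by omega) h3
          omega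
        obtain ⟨x, hx, hx1⟩ := exists_elem (S := S) (hg t ht)
        obtain ⟨y, hy, hdv, hdet, hsur⟩ := beta F (hg s hs) (hg t ht) ((hM s hs).trans (hM t ht).symm) c
          (by rw [hM t ht]; exact not_lt.1 hle) k hkH c1 (by rw [hM t ht]; exact le_max_left _ _) hcs x hx hx1
        have hker : y ∈ (F.det c).ker := by
          rw [MonoidHom.mem_ker, hdet, ← pow_add]
          have h3 : (((c1 + (k : ZMod t).val : ℕ)) : ZMod t) = 0 := by
            rw [Nat.cast_add, ZMod.natCast_zmod_val, hk, Units.val_mk0, add_neg_cancel]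
          obtain ⟨m, hm⟩ := (ZMod.natCast_eq_zero_iff _ _).1 h3
          rw [hm, pow_mul, ← map_pow, hx, map_one, one_pow]
        have hsup : centralizer ({y} : Set (S.G c)) ⊔ (F.det c).ker = ⊤ := by
          rw [eq_top_iff]
          intro g _
          have hsurj' : ∀ u ∈ U, ∃ x : S.G (S.M t), F.det (S.M t) x = u := by rw [hM t ht]; exact hsurj
          have hcomm' : ∀ x y : S.G (S.M t), x * y = y * x := by rw [hM t ht]; exact hcomm1
          obtain ⟨z, hz⟩ := hsurj' (F.det c g) (hU c g)
          obtain ⟨w, hw, hwz⟩ := hsur z (hcomm' z x)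
          have h5 : g = w * (w⁻¹ * g) := by group
          rw [h5]
          refine mul_mem ((le_sup_left : _ ≤ centralizer ({y} : Set (S.G c)) ⊔ (F.det c).ker) hw)
            ((le_sup_right : _ ≤ centralizer ({y} : Set (S.G c)) ⊔ (F.det c).ker) ?_)
          rw [MonoidHom.mem_ker, map_mul, map_inv, hwz, hz, inv_mul_cancel]
        have hy' : (⟨y, hker⟩ : (F.det c).ker) ^ t = 1 := Subtype.ext hy
        refine hc t ht s hs hst.ne' ⟨y, hker⟩ (exists_order (hg t ht).1 hy') ?_
        rw [index_centralizer_normal (F.det c).ker ⟨y, hker⟩ hsup]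
        exact hdv
      obtain ⟨t1, ht1, t2, ht2, htt⟩ := hnt
      intro s hs
      obtain ⟨t, ht, hst⟩ : ∃ t ∈ π, s ≠ t := by
        by_cases h : s = t1
        · exact ⟨t2, ht2, h ▸ htt⟩
        · exact ⟨t1, ht1, h⟩
      rcases lt_or_gt_of_ne hst with h | h
      · exact key s hs t ht h
      · have := key t ht s hs h
        omega
    obtain ⟨T, hT, hi⟩ := gamma (S := S) (⊤ : Subgroup (S.G one)) (fun x _ y _ => hcomm1 x y) c π
      (fun s hs => ⟨hg s hs, hM s hs, hlt s hs, by rw [index_top]; exact (hg s hs).1.not_dvd_one⟩)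
      ⟨s0, hs0⟩
    exact inter_normal _ T hT hi

end Sys

end Cfsg.Agent.H201.BlockSys
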