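import Cfsg.Agent.H201.BlockSys

/-!
# Systems of groups with block decompositions: the rows (helper201)
-/

set_option autoImplicit false
open Subgroup
open Cfsg.Agent.H630.NH

namespace Cfsg.Agent.H201.BlockSys

universe u v

namespace Sys

variable {r : ℕ} {S : Sys.{u, v} r}

theorem exists_order {G : Type*} [Group G] {t : ℕ} (ht : t.Prime) {y : G} (hy : y ^ t = 1) :
    ∃ k : ℕ, orderOf y = t ^ k := by
  obtain ⟨k, -, hk⟩ := (Nat.dvd_prime_pow ht).1 (show orderOf y ∣ t ^ 1 by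
    rw [pow_one]; exact orderOf_dvd_of_pow_eq_one hy)
  exact ⟨k, hk⟩

theorem dim_eq {π : Set ℕ} (c : S.I) (hπ : ∀ s ∈ π, Good r s) (hN : ∀ s ∈ π, S.N (S.M s) c ≠ 0)
    (hc : Cond π (S.G c)) {s t : ℕ} (hs : s ∈ π) (ht : t ∈ π) : S.dim (S.M s) = S.dim (S.M t) := by
  have key : ∀ s ∈ π, ∀ t ∈ π, ¬ S.dim (S.M s) < S.dim (S.M t) := by
    intro s hs t ht hlt
    have hps : Fact s.Prime := ⟨(hπ s hs).1⟩
    have hpt : Fact t.Prime := ⟨(hπ t ht).1⟩
    obtain ⟨P⟩ : Nonempty (Sylow s (S.G c)) := inferInstance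
    refine not_cond_of_centralizer hs ht (fun h => ?_) ((dvd_iff (hπ t ht)).2 (hN t ht)) P P.isPGroup' ?_ hc
    · rw [h] at hlt
      exact lt_irrefl _ hlt
    · intro y hy hP
      have h1 : y ^ t = 1 := by
        have := pow_orderOf_eq_one y
        rwa [hy] at this
      have h2 := alpha (hπ s hs) (hπ t ht) hlt c P y h1 hP
      rw [h2, orderOf_one] at hy
      exact (hπ t ht).1.one_lt.ne hy
  have h1 := key s hs t ht
  have h2 := key t ht s hs
  omega

theorem lt_of_cond {π : Set ℕ} (c : S.I) (hπ : ∀ s ∈ π, Good r s) (hc : Cond π (S.G c)) {s t : ℕ} (hs : s ∈ π)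
    (ht : t ∈ π) (hne : s ≠ t) (hM : S.M s = S.M t) : S.N (S.M s) c < s := by
  have key : ∀ s ∈ π, ∀ t ∈ π, s < t → S.M s = S.M t → S.N (S.M t) c < s := by
    intro s hs t ht hst hM
    have hps : Fact s.Prime := ⟨(hπ s hs).1⟩
    have hpt : Fact t.Prime := ⟨(hπ t ht).1⟩
    by_contra hle
    obtain ⟨k, hk⟩ := exists_not_mem (hπ s hs) (hπ t ht) hst hM
    obtain ⟨x, hx, hx1⟩ := exists_elem (S := S) (hπ t ht)
    obtain ⟨y, hy, hd, -, -⟩ := beta (Fam.triv S) (hπ s hs) (hπ t ht) hM c (not_lt.1 hle) k hk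
      (S.N (S.M t) c % s) le_rfl (Nat.mod_lt _ (hπ s hs).1.pos) x hx hx1
    exact hc t ht s hs hst.ne' y (exists_order (hπ t ht).1 hy) hd
  rcases lt_or_gt_of_ne hne with h | h
  · rw [hM]
    exact key s hs t ht h hM
  · have h1 := key t ht s hs h hM.symm
    omega

/-- The index of the centralizer of an atom. -/
theorem index_atom {s t : ℕ} (hs : Good r s) (ht : Good r t) (c c' : S.I) (hd : S.Dec (S.M t) c' c)
    (x : S.G (S.M t)) (hx : x ^ t = 1) (hx1 : x ≠ 1)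
    (hc : ¬ s ∣ (centralizer ({S.β hd (x, 1)} : Set (S.G c))).index) :
    (Nat.card (S.G c)).factorization s = (Nat.card (centralizer ({x} : Set (S.G (S.M t))))).factorization s +
      (Nat.card (S.G c')).factorization s := by
  have hps : Fact s.Prime := ⟨hs.1⟩
  rw [fac_index (centralizer ({S.β hd (x, 1)} : Set (S.G c))) s, Nat.factorization_eq_zero_of_not_dvd hc, add_zero,
    card_centralizer_β hd x 1 (disjoint_one ht hx hx1 c'), Nat.factorization_mul Nat.card_pos.ne' Nat.card_pos.ne',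
    Finsupp.add_apply]
  have h1 : centralizer ({(1 : S.G c')} : Set (S.G c')) = ⊤ := by
    rw [eq_top_iff]
    intro g _
    rw [mem_centralizer_singleton_iff, mul_one, one_mul]
  rw [h1, card_top]

/-- The centralizer of an element of order `t` in the minimal block. -/
theorem centralizer_comm {t : ℕ} (ht : Good r t) {x : S.G (S.M t)} (hx : x ^ t = 1) (hx1 : x ≠ 1) :
    ∀ u ∈ centralizer ({x} : Set (S.G (S.M t))), ∀ w ∈ centralizer ({x} : Set (S.G (S.M t))), u * w = w * u := by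
  intro u hu w hw
  rw [mem_centralizer_singleton_iff] at hu hw
  exact S.ab x u w (block ht hx hx1).1 hu.symm hw.symm

theorem torus_index {π : Set ℕ} (c c' : S.I) (hπ : ∀ s ∈ π, Good r s) (hc : Cond π (S.G c)) {t : ℕ} (ht : t ∈ π)
    (hd : S.Dec (S.M t) c' c) (hN : S.N (S.M t) c' + 1 = S.N (S.M t) c) {x : S.G (S.M t)} (hx : x ^ t = 1)
    (hx1 : x ≠ 1) {s : ℕ} (hs : s ∈ π) (hM : S.M s = S.M t) (hlt : S.N (S.M t) c < s) :
    ¬ s ∣ (centralizer ({x} : Set (S.G (S.M t)))).index := by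
  have hps : Fact s.Prime := ⟨(hπ s hs).1⟩
  have hpt : Fact t.Prime := ⟨(hπ t ht).1⟩
  by_cases hst : s = t
  · subst hst
    exact not_dvd_index (hπ s hs) x hx
  · have h1 : (S.β hd (x, 1)) ^ t = 1 := by
      rw [← map_pow, Prod.pow_mk, hx, one_pow]
      exact map_one _
    have h2 := hc t ht s hs (Ne.symm hst) (S.β hd (x, 1)) (exists_order (hπ t ht).1 h1)
    have h3 := index_atom (hπ s hs) (hπ t ht) c c' hd x hx hx1 h2
    obtain ⟨g1, g2, g3⟩ := hπ s hs
    have f1 := S.fac s g1 g2 g3 c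
    have f2 := S.fac s g1 g2 g3 c'
    have f3 := S.fac s g1 g2 g3 (S.M t)
    rw [hM] at f1 f2 f3
    rw [S.N_M t (hπ t ht).1 (hπ t ht).2.1 (hπ t ht).2.2, fac_index (centralizer ({x} : Set (S.G (S.M t)))) s] at f3
    rw [fact_zero g1 hlt] at f1
    rw [fact_zero g1 (show S.N (S.M t) c' < s by omega)] at f2
    rw [fact_zero g1 g1.one_lt] at f3
    rw [← hN, add_mul] at f1
    intro h4
    have h5 := g1.factorization_pos_of_dvd index_ne_zero_of_finite h4
    omega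

/-- **The rows, if the minimal block is determined by its dimension.** -/
theorem exists_abelian (hdim : ∀ s t, Good r s → Good r t → S.dim (S.M s) = S.dim (S.M t) → S.M s = S.M t)
    (c : S.I) (π : Set ℕ) (hπ : ∀ s ∈ π, Good r s) (hd : ∀ s ∈ π, s ∣ Nat.card (S.G c)) (hnt : π.Nontrivial)
    (hc : Cond π (S.G c)) :
    ∃ T : Subgroup (S.G c), (∀ x ∈ T, ∀ y ∈ T, x * y = y * x) ∧ ∀ s ∈ π, ¬ s ∣ T.index := by
  have hN : ∀ s ∈ π, S.N (S.M s) c ≠ 0 := fun s hs => (dvd_iff (hπ s hs)).1 (hd s hs)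
  obtain ⟨t, ht, t', ht', htt⟩ := hnt
  have hM : ∀ s ∈ π, S.M s = S.M t := fun s hs => hdim s t (hπ s hs) (hπ t ht) (dim_eq c hπ hN hc hs ht)
  have hlt : ∀ s ∈ π, S.N (S.M t) c < s := by
    intro s hs
    rw [← hM s hs]
    by_cases h : s = t
    · subst h
      exact lt_of_cond c hπ hc hs ht' htt (hM t' ht').symm
    · exact lt_of_cond c hπ hc hs ht h (hM s hs)
  have hg := hπ t ht
  obtain ⟨c', hc', hN'⟩ := S.split1 t hg.1 hg.2.1 hg.2.2 c (hN t ht)
  obtain ⟨x, hx, hx1⟩ := exists_elem (S := S) hg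
  exact gamma (centralizer ({x} : Set (S.G (S.M t)))) (centralizer_comm hg hx hx1) c π
    (fun s hs => ⟨hπ s hs, hM s hs, hlt s hs, torus_index c c' hπ hc ht hc' hN' hx hx1 hs (hM s hs) (hlt s hs)⟩)
    ⟨t, ht⟩

theorem isMulCommutative_of {G : Type*} [Group G] {T : Subgroup G} (h : ∀ x ∈ T, ∀ y ∈ T, x * y = y * x) :
    IsMulCommutative T :=
  ⟨⟨fun a b => Subtype.ext (h a a.2 b b.2)⟩⟩

theorem crossRow (hdim : ∀ s t, Good r s → Good r t → S.dim (S.M s) = S.dim (S.M t) → S.M s = S.M t)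
    (c : S.I) : CrossRow r (S.G c) := by
  intro π hπ hnt hc
  obtain ⟨T, hT, hi⟩ := exists_abelian hdim c π (fun s hs => ⟨(hπ s hs).1, (hπ s hs).2.1, (hπ s hs).2.2.1⟩)
    (fun s hs => (hπ s hs).2.2.2) hnt hc
  exact ⟨T, isMulCommutative_of hT, hi⟩

end Sys

end Cfsg.Agent.H201.BlockSys
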