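import Mathlib
import Cfsg.Agent.H630.Cross

/-!
# Systems of groups with block decompositions (helper201)

An abstract framework for the rows of `GL`, `GU`, `Sp`, `O` in `CrossRow` (S4597, S4599, S4600).
`Sys r` : a family of finite groups `G c` (isometry groups of spaces `c`), with a "spectrum" `E x`, embeddings
`β : G a × G b →* G c` if `c` is the orthogonal sum of `a` and `b`, for every odd prime `s ≠ r` the smallest
space `M s` with `s ∣ |G (M s)|`, and the number `N m c` of copies of the space `m` in `c`.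
-/

set_option autoImplicit false
open Subgroup
open scoped Pointwise

namespace Cfsg.Agent.H201.BlockSys

universe u v

/-- `a` is the orthogonal sum of `k` copies of `m`. -/
inductive Pow {I : Type} (Dec : I → I → I → Prop) (dim : I → ℕ) (m : I) : ℕ → I → Prop
  | zero (a : I) (h : dim a = 0) : Pow Dec dim m 0 a
  | succ (k : ℕ) (a b : I) (h : Dec m b a) (hb : Pow Dec dim m k b) : Pow Dec dim m (k + 1) a

/-- A system of groups with block decompositions. -/
structure Sys (r : ℕ) where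
  I : Type
  G : I → Type u
  [grp : ∀ c, Group (G c)]
  [fin : ∀ c, Finite (G c)]
  K : Type v
  [fld : Field K]
  /-- the eigenvalues -/
  E : ∀ {c : I}, G c → Set K
  dim : I → ℕ
  E_fin : ∀ {c : I} (x : G c), (E x).Finite
  E_card : ∀ {c : I} (x : G c), (E x).ncard ≤ dim c
  E_one : ∀ c : I, E (1 : G c) ⊆ {1}
  E_pow : ∀ {c : I} (x : G c) (j : ℕ), 0 < j → E (x ^ j) = (fun z => z ^ j) '' E x
  E_ne : ∀ {c : I} (x : G c) (t : ℕ), t.Prime → t ≠ r → x ^ t = 1 → x ≠ 1 → ∃ z ∈ E x, z ≠ 1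
  /-- exponents -/
  H : ∀ t : ℕ, Subgroup (ZMod t)ˣ
  E_H : ∀ {c : I} (x : G c) (t : ℕ), t.Prime → ∀ h ∈ H t, ∀ z ∈ E x, z ^ t = 1 → z ^ (h : ZMod t).val ∈ E x
  ab : ∀ {c : I} (x u v : G c), (E x).ncard = dim c → x * u = u * x → x * v = v * x → u * v = v * u
  Dec : I → I → I → Prop
  β : ∀ {a b c : I}, Dec a b c → G a × G b →* G c
  β_inj : ∀ {a b c : I} (h : Dec a b c), Function.Injective (β h)
  E_β : ∀ {a b c : I} (h : Dec a b c) (x : G a) (y : G b), E (β h (x, y)) = E x ∪ E y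
  cp : ∀ {a b c : I} (h : Dec a b c) (x : G a) (y : G b) (g : G c), Disjoint (E x) (E y) →
    g * β h (x, y) = β h (x, y) * g → ∃ u v, g = β h (u, v)
  M : ℕ → I
  N : I → I → ℕ
  v : ℕ → ℕ
  v_pos : ∀ s : ℕ, s.Prime → s ≠ 2 → s ≠ r → 0 < v s
  fac : ∀ s : ℕ, s.Prime → s ≠ 2 → s ≠ r → ∀ c : I,
    (Nat.card (G c)).factorization s = N (M s) c * v s + (N (M s) c).factorial.factorization s
  N_M : ∀ s : ℕ, s.Prime → s ≠ 2 → s ≠ r → N (M s) (M s) = 1
  split1 : ∀ s : ℕ, s.Prime → s ≠ 2 → s ≠ r → ∀ c : I, N (M s) c ≠ 0 →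
    ∃ c' : I, Dec (M s) c' c ∧ N (M s) c' + 1 = N (M s) c
  splitN : ∀ s : ℕ, s.Prime → s ≠ 2 → s ≠ r → ∀ (c : I) (k : ℕ), k ≤ N (M s) c →
    ∃ a b : I, Dec a b c ∧ Pow Dec dim (M s) k a ∧ N (M s) a = k ∧ N (M s) b + k = N (M s) c
  H_card : ∀ s : ℕ, s.Prime → s ≠ 2 → s ≠ r → Nat.card (H s) = dim (M s)
  zero : ∀ s t : ℕ, s.Prime → s ≠ 2 → s ≠ r → t.Prime → t ≠ 2 → t ≠ r → dim (M s) < dim (M t) →
    ∀ c : I, N (M s) c = 0 → N (M t) c = 0

attribute [instance] Sys.grp Sys.fin Sys.fld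

namespace Sys

variable {r : ℕ} (S : Sys.{u, v} r)

/-- The primes considered. -/
def Good (r s : ℕ) : Prop := s.Prime ∧ s ≠ 2 ∧ s ≠ r

variable {S}

theorem pow_eq_one_of_mem {c : S.I} {x : S.G c} {t : ℕ} (ht : 0 < t) (hx : x ^ t = 1) {z : S.K} (hz : z ∈ S.E x) :
    z ^ t = 1 := by
  have h1 : z ^ t ∈ S.E (x ^ t) := by
    rw [S.E_pow x t ht]
    exact ⟨z, hz, rfl⟩
  rw [hx] at h1
  exact S.E_one c h1

/-- The orbit of an eigenvalue. -/
theorem orbit {c : S.I} {x : S.G c} {t : ℕ} (ht : Good r t) (hx : x ^ t = 1) {z : S.K} (hz : z ∈ S.E x)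
    (hz1 : z ≠ 1) : S.dim (S.M t) ≤ (S.E x).ncard ∧
      (S.dim c ≤ S.dim (S.M t) → (S.E x).ncard = S.dim c ∧
        ∀ y ∈ S.E x, ∃ h ∈ S.H t, z ^ (h : ZMod t).val = y) := by
  have hp : Fact t.Prime := ⟨ht.1⟩
  have hzt := pow_eq_one_of_mem ht.1.pos hx hz
  have hord : orderOf z = t := orderOf_eq_prime hzt hz1
  have hfo : IsOfFinOrder z := isOfFinOrder_iff_pow_eq_one.2 ⟨t, ht.1.pos, hzt⟩
  set f : S.H t → S.K := fun h => z ^ ((h : (ZMod t)ˣ) : ZMod t).val with hf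
  have hinj : Function.Injective f := by
    intro a b hab
    have h1 : ((a : (ZMod t)ˣ) : ZMod t).val ≡ ((b : (ZMod t)ˣ) : ZMod t).val [MOD orderOf z] :=
      (hfo.pow_eq_pow_iff_modEq).1 hab
    rw [hord] at h1
    have h2 := (ZMod.natCast_eq_natCast_iff _ _ _).2 h1
    rw [ZMod.natCast_zmod_val, ZMod.natCast_zmod_val] at h2
    exact Subtype.ext (Units.ext h2)
  have hsub : Set.range f ⊆ S.E x := by
    rintro _ ⟨h, rfl⟩
    exact S.E_H x t ht.1 h h.2 z hz hzt
  have hcard : (Set.range f).ncard = S.dim (S.M t) := by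
    rw [← S.H_card t ht.1 ht.2.1 ht.2.2, ← Set.image_univ, Set.ncard_image_of_injective _ hinj, Set.ncard_univ]
  have h1 : S.dim (S.M t) ≤ (S.E x).ncard := hcard ▸ Set.ncard_le_ncard hsub (S.E_fin x)
  refine ⟨h1, fun h2 => ?_⟩
  have h3 := S.E_card x
  have h4 : (S.E x).ncard = S.dim c := by omega
  refine ⟨h4, fun y hy => ?_⟩
  have h5 : Set.range f = S.E x := Set.eq_of_subset_of_ncard_le hsub (by omega) (S.E_fin x)
  rw [← h5] at hy
  obtain ⟨h, rfl⟩ := hy
  exact ⟨h, h.2, rfl⟩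

theorem dim_pos {t : ℕ} (ht : Good r t) : 0 < S.dim (S.M t) := by
  have hp : Fact t.Prime := ⟨ht.1⟩
  rw [← S.H_card t ht.1 ht.2.1 ht.2.2]
  exact Nat.card_pos

/-- `t`-elements act trivially on small spaces. -/
theorem eq_one_of_dim_lt {c : S.I} {t : ℕ} (ht : Good r t) (h : S.dim c < S.dim (S.M t)) (x : S.G c)
    (hx : x ^ t = 1) : x = 1 := by
  by_contra hne
  obtain ⟨z, hz, hz1⟩ := S.E_ne x t ht.1 ht.2.2 hx hne
  have h1 := (orbit ht hx hz hz1).1
  have h2 := S.E_card x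
  omega

theorem card_ne_zero (c : S.I) : Nat.card (S.G c) ≠ 0 := Nat.card_pos.ne'

/-- `t`-elements exist iff `N ≠ 0`. -/
theorem dvd_iff {c : S.I} {t : ℕ} (ht : Good r t) : t ∣ Nat.card (S.G c) ↔ S.N (S.M t) c ≠ 0 := by
  have hv := S.v_pos t ht.1 ht.2.1 ht.2.2
  have hf := S.fac t ht.1 ht.2.1 ht.2.2 c
  constructor
  · intro h h0
    have h1 := ht.1.factorization_pos_of_dvd (card_ne_zero c) h
    rw [h0] at hf
    simp at hf
    omega
  · intro h
    have : 0 < S.N (S.M t) c * S.v t := Nat.mul_pos (Nat.pos_of_ne_zero h) hv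
    exact Nat.dvd_of_factorization_pos (by omega)

theorem eq_one_of_N {c : S.I} {t : ℕ} (ht : Good r t) (h : S.N (S.M t) c = 0) (x : S.G c) (hx : x ^ t = 1) :
    x = 1 := by
  have hp : Fact t.Prime := ⟨ht.1⟩
  by_contra hne
  have h1 := orderOf_eq_prime hx hne
  have h2 : t ∣ Nat.card (S.G c) := h1 ▸ orderOf_dvd_natCard x
  exact (dvd_iff ht).1 h2 h

/-- Elements of order `t` in the minimal block. -/
theorem exists_elem {t : ℕ} (ht : Good r t) : ∃ x : S.G (S.M t), x ^ t = 1 ∧ x ≠ 1 := by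
  have hp : Fact t.Prime := ⟨ht.1⟩
  have h1 : t ∣ Nat.card (S.G (S.M t)) := by
    rw [dvd_iff ht, S.N_M t ht.1 ht.2.1 ht.2.2]
    exact one_ne_zero
  obtain ⟨x, hx⟩ := exists_prime_orderOf_dvd_card' t h1
  refine ⟨x, ?_, fun h => ?_⟩
  · have := pow_orderOf_eq_one x
    rwa [hx] at this
  · rw [h, orderOf_one] at hx
    exact ht.1.one_lt.ne hx

/-- The spectrum of an element of order `t` of the minimal block. -/
theorem block {t : ℕ} (ht : Good r t) {x : S.G (S.M t)} (hx : x ^ t = 1) (hx1 : x ≠ 1) :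
    (S.E x).ncard = S.dim (S.M t) ∧ (1 : S.K) ∉ S.E x ∧ ∀ z ∈ S.E x, ∀ y ∈ S.E x, ∃ h ∈ S.H t,
      z ^ (h : ZMod t).val = y := by
  have hp : Fact t.Prime := ⟨ht.1⟩
  obtain ⟨z, hz, hz1⟩ := S.E_ne x t ht.1 ht.2.2 hx hx1
  obtain ⟨-, h2⟩ := orbit ht hx hz hz1
  obtain ⟨h3, h4⟩ := h2 le_rfl
  have h1 : (1 : S.K) ∉ S.E x := by
    intro h
    obtain ⟨k, hk, hk1⟩ := h4 _ h
    have hord : orderOf z = t := orderOf_eq_prime (pow_eq_one_of_mem ht.1.pos hx hz) hz1
    have h5 := orderOf_dvd_of_pow_eq_one hk1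
    rw [hord] at h5
    have h6 : ((k : (ZMod t)ˣ) : ZMod t).val = 0 := Nat.eq_zero_of_dvd_of_lt h5 (ZMod.val_lt _)
    rw [ZMod.val_eq_zero] at h6
    exact k.ne_zero h6
  refine ⟨h3, h1, fun w hw y hy => ?_⟩
  have hw1 : w ≠ 1 := fun h => h1 (h ▸ hw)
  exact ((orbit ht hx hw hw1).2 le_rfl).2 y hy

/-- Powers of an element of the minimal block with disjoint spectrum. -/
theorem disjoint_pow {t : ℕ} (ht : Good r t) {x : S.G (S.M t)} (hx : x ^ t = 1) (hx1 : x ≠ 1) (k : (ZMod t)ˣ)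
    (hk : k ∉ S.H t) : Disjoint (S.E x) (S.E (x ^ (k : ZMod t).val)) := by
  have hp : Fact t.Prime := ⟨ht.1⟩
  obtain ⟨h1, h2, h3⟩ := block ht hx hx1
  have hkpos : 0 < (k : ZMod t).val := by
    rw [Nat.pos_iff_ne_zero, Ne, ZMod.val_eq_zero]
    exact k.ne_zero
  rw [Set.disjoint_left]
  intro z hz hz'
  rw [S.E_pow x _ hkpos] at hz'
  obtain ⟨w, hw, hwz⟩ := hz'
  obtain ⟨h, hh, hhz⟩ := h3 w hw z hz
  have hw1 : w ≠ 1 := fun h => h2 (h ▸ hw)
  have hord : orderOf w = t := orderOf_eq_prime (pow_eq_one_of_mem ht.1.pos hx hw) hw1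
  have h4 : w ^ (k : ZMod t).val = w ^ (h : ZMod t).val := by rw [hhz]; exact hwz
  have hfo : IsOfFinOrder w :=
    isOfFinOrder_iff_pow_eq_one.2 ⟨t, ht.1.pos, pow_eq_one_of_mem ht.1.pos hx hw⟩
  rw [hfo.pow_eq_pow_iff_modEq, hord] at h4
  have h5 := (ZMod.natCast_eq_natCast_iff _ _ _).2 h4
  rw [ZMod.natCast_zmod_val, ZMod.natCast_zmod_val] at h5
  exact hk (Units.ext h5 ▸ hh)

/-- The centralizer of a block diagonal element. -/
theorem centralizer_β {a b c : S.I} (h : S.Dec a b c) (x : S.G a) (y : S.G b) (hd : Disjoint (S.E x) (S.E y)) :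
    centralizer ({S.β h (x, y)} : Set (S.G c)) =
      ((centralizer ({x} : Set (S.G a))).prod (centralizer ({y} : Set (S.G b)))).map (S.β h) := by
  ext g
  rw [mem_centralizer_singleton_iff]
  constructor
  · intro hg
    obtain ⟨u, v, rfl⟩ := S.cp h x y g hd hg
    refine ⟨(u, v), ?_, rfl⟩
    rw [← map_mul, ← map_mul] at hg
    have h1 := S.β_inj h hg
    refine mem_prod.2 ⟨?_, ?_⟩
    · rw [mem_centralizer_singleton_iff]
      exact congrArg Prod.fst h1
    · rw [mem_centralizer_singleton_iff]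
      exact congrArg Prod.snd h1
  · rintro ⟨⟨u, v⟩, huv, rfl⟩
    have h2 := mem_prod.1 huv
    rw [mem_centralizer_singleton_iff, mem_centralizer_singleton_iff] at h2
    rw [← map_mul, ← map_mul]
    congr 1
    exact Prod.ext h2.1 h2.2

theorem card_centralizer_β {a b c : S.I} (h : S.Dec a b c) (x : S.G a) (y : S.G b) (hd : Disjoint (S.E x) (S.E y)) :
    Nat.card (centralizer ({S.β h (x, y)} : Set (S.G c))) =
      Nat.card (centralizer ({x} : Set (S.G a))) * Nat.card (centralizer ({y} : Set (S.G b))) := by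
  rw [centralizer_β h x y hd, card_map_of_injective (S.β_inj h)]
  rw [Nat.card_congr (Subgroup.prodEquiv _ _).toEquiv, Nat.card_prod]

/-- The spectrum of `β (x, 1)` for an element of order `t` of the minimal block. -/
theorem disjoint_one {t : ℕ} (ht : Good r t) {x : S.G (S.M t)} (hx : x ^ t = 1) (hx1 : x ≠ 1) (b : S.I) :
    Disjoint (S.E x) (S.E (1 : S.G b)) := by
  rw [Set.disjoint_left]
  intro z hz hz'
  have h1 : z = 1 := S.E_one b hz'
  exact (block ht hx hx1).2.1 (h1 ▸ hz)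

/-- **Case `α`** -/
theorem alpha {s t : ℕ} (hs : Good r s) (ht : Good r t) (hst : S.dim (S.M s) < S.dim (S.M t)) (c : S.I)
    (P : Sylow s (S.G c)) (y : S.G c) (hy : y ^ t = 1) (hP : ∀ a ∈ P, a * y = y * a) : y = 1 := by
  have hps : Fact s.Prime := ⟨hs.1⟩
  induction hk : S.N (S.M s) c generalizing c with
  | zero =>
    exact eq_one_of_N ht (S.zero s t hs.1 hs.2.1 hs.2.2 ht.1 ht.2.1 ht.2.2 hst c hk) y hy
  | succ k ih =>
    obtain ⟨c', hc', hN⟩ := S.split1 s hs.1 hs.2.1 hs.2.2 c (by omega)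
    obtain ⟨x, hx, hx1⟩ := exists_elem (S := S) hs
    obtain ⟨P'⟩ : Nonempty (Sylow s (S.G c')) := inferInstance
    set Q : Subgroup (S.G c) := ((zpowers x).prod (P' : Subgroup (S.G c'))).map (S.β hc') with hQ
    have hx0 : IsPGroup s (zpowers x) := by
      refine IsPGroup.of_card (n := 1) ?_
      rw [Nat.card_zpowers, pow_one]
      exact orderOf_eq_prime hx hx1
    have hQp : IsPGroup s Q := by
      rintro ⟨_, ⟨⟨a, b⟩, hab, rfl⟩⟩
      obtain ⟨ha, hb⟩ := mem_prod.1 hab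
      obtain ⟨i, hi⟩ := hx0 ⟨a, ha⟩
      obtain ⟨j, hj⟩ := P'.isPGroup' ⟨b, hb⟩
      refine ⟨i + j, Subtype.ext ?_⟩
      have hi' : a ^ s ^ i = 1 := congrArg Subtype.val hi
      have hj' : b ^ s ^ j = 1 := congrArg Subtype.val hj
      show (S.β hc' (a, b)) ^ s ^ (i + j) = 1
      rw [← map_pow, Prod.pow_mk]
      have e1 : a ^ s ^ (i + j) = 1 := by rw [pow_add, pow_mul, hi', one_pow]
      have e2 : b ^ s ^ (i + j) = 1 := by rw [pow_add, mul_comm, pow_mul, hj', one_pow]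
      rw [e1, e2]
      exact map_one _
    obtain ⟨P2, hP2⟩ := hQp.exists_le_sylow
    obtain ⟨g, rfl⟩ := MulAction.exists_smul_eq (S.G c) P P2
    have hy' : (g * y * g⁻¹) ^ t = 1 := by
      rw [conj_pow, hy]; group
    have hcomm : ∀ a ∈ Q, a * (g * y * g⁻¹) = (g * y * g⁻¹) * a := by
      intro a ha
      have h1 : a ∈ (MulAut.conj g • (P : Subgroup (S.G c))) := hP2 ha
      obtain ⟨b, hb, rfl⟩ := h1
      have h2 := hP b hb
      show g * b * g⁻¹ * (g * y * g⁻¹) = g * y * g⁻¹ * (g * b * g⁻¹)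
      calc g * b * g⁻¹ * (g * y * g⁻¹) = g * (b * y) * g⁻¹ := by group
        _ = g * (y * b) * g⁻¹ := by rw [h2]
        _ = _ := by group
    have h3 : g * y * g⁻¹ * S.β hc' (x, 1) = S.β hc' (x, 1) * (g * y * g⁻¹) :=
      (hcomm _ ⟨(x, 1), mem_prod.2 ⟨mem_zpowers x, one_mem _⟩, rfl⟩).symm
    obtain ⟨u, w, huw⟩ := S.cp hc' x 1 _ (disjoint_one hs hx hx1 c') h3
    have h4 : u ^ t = 1 ∧ w ^ t = 1 := by
      rw [huw, ← map_pow, ← map_one (S.β hc')] at hy'
      have := S.β_inj hc' hy'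
      exact ⟨congrArg Prod.fst this, congrArg Prod.snd this⟩
    have hu : u = 1 := eq_one_of_dim_lt ht hst u h4.1
    have hw : w = 1 := by
      refine ih c' P' w h4.2 (fun a ha => ?_) (by omega)
      have h5 := hcomm (S.β hc' (1, a)) ⟨(1, a), mem_prod.2 ⟨one_mem _, ha⟩, rfl⟩
      rw [huw, ← map_mul, ← map_mul] at h5
      exact congrArg Prod.snd (S.β_inj hc' h5)
    have h6 : g * y * g⁻¹ = 1 := by
      rw [huw, hu, hw]
      exact map_one _
    have h7 : y = g⁻¹ * (g * y * g⁻¹) * g := by group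
    rw [h7, h6]; group

/-! ### multiplicative families -/

/-- A family of homomorphisms compatible with the block decompositions (determinants). -/
structure Fam (S : Sys.{u, v} r) where
  D : Type
  [grp : CommGroup D]
  det : ∀ c : S.I, S.G c →* D
  det_β : ∀ {a b c : S.I} (h : S.Dec a b c) (x : S.G a) (y : S.G b), det c (S.β h (x, y)) = det a x * det b y
  det_dim : ∀ (c : S.I) (x : S.G c), S.dim c = 0 → det c x = 1

attribute [instance] Fam.grp

/-- The trivial family. -/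
def Fam.triv (S : Sys.{u, v} r) : Fam S where
  D := Unit
  det _ := 1
  det_β _ _ _ := rfl
  det_dim _ _ _ := rfl

theorem exists_rep (F : Fam S) {m a : S.I} {k : ℕ} (h : Pow S.Dec S.dim m k a) {t : ℕ} (x : S.G m) (hx : x ^ t = 1) :
    ∃ y : S.G a, y ^ t = 1 ∧ S.E y ⊆ S.E x ∧ F.det a y = F.det m x ^ k := by
  induction h with
  | zero a h =>
    refine ⟨1, one_pow _, ?_, by rw [map_one, pow_zero]⟩
    have h1 := S.E_card (1 : S.G a)
    rw [h, Nat.le_zero, Set.ncard_eq_zero (S.E_fin _)] at h1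
    rw [h1]
    exact Set.empty_subset _
  | succ k a b h hb ih =>
    obtain ⟨y, hy, hE, hdet⟩ := ih
    refine ⟨S.β h (x, y), ?_, ?_, ?_⟩
    · rw [← map_pow, Prod.pow_mk, hx, hy]
      exact map_one _
    · rw [S.E_β]
      exact Set.union_subset subset_rfl hE
    · rw [F.det_β, hdet, pow_succ']

theorem fact_lt {s N c : ℕ} (hs : s.Prime) (hN : s ≤ N) (h1 : N % s ≤ c) (h2 : c < s) :
    (N - c - 1).factorial.factorization s < N.factorial.factorization s := by
  have h0 : N % s ≤ N := Nat.mod_le N s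
  set d := N - N % s with hd
  have hsd : s ∣ d := Nat.dvd_sub_mod N
  have hdpos : 0 < d := by
    have := Nat.mod_lt N hs.pos
    omega
  have e1 : (N - c - 1).factorial.factorization s ≤ (d - 1).factorial.factorization s :=
    (Nat.factorization_le_iff_dvd (Nat.factorial_ne_zero _) (Nat.factorial_ne_zero _)).2
      (Nat.factorial_dvd_factorial (by omega)) s
  have e2 : d.factorial.factorization s ≤ N.factorial.factorization s :=
    (Nat.factorization_le_iff_dvd (Nat.factorial_ne_zero _) (Nat.factorial_ne_zero _)).2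
      (Nat.factorial_dvd_factorial (by omega)) s
  have e3 : d.factorial.factorization s = d.factorization s + (d - 1).factorial.factorization s := by
    obtain ⟨m, hm⟩ : ∃ m, d = m + 1 := ⟨d - 1, by omega⟩
    rw [hm, Nat.factorial_succ, Nat.factorization_mul (Nat.succ_ne_zero _) (Nat.factorial_ne_zero _), Finsupp.add_apply,
      Nat.add_sub_cancel]
  have e4 : 0 < d.factorization s := hs.factorization_pos_of_dvd hdpos.ne' hsd
  omega

theorem fact_zero {s c : ℕ} (hs : s.Prime) (h : c < s) : c.factorial.factorization s = 0 :=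
  Nat.factorization_eq_zero_of_not_dvd (fun h1 => by
    have := (hs.dvd_factorial).1 h1
    omega)

theorem fac_le {G : Type*} [Group G] [Finite G] (H : Subgroup G) (s : ℕ) :
    (Nat.card H).factorization s ≤ (Nat.card G).factorization s :=
  (Nat.factorization_le_iff_dvd Nat.card_pos.ne' Nat.card_pos.ne').2 (card_subgroup_dvd_card H) s

theorem fac_index {G : Type*} [Group G] [Finite G] (H : Subgroup G) (s : ℕ) :
    (Nat.card G).factorization s = (Nat.card H).factorization s + H.index.factorization s := by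
  rw [← card_mul_index H, Nat.factorization_mul Nat.card_pos.ne' index_ne_zero_of_finite, Finsupp.add_apply]

/-- **Case `β`**. -/
theorem beta (F : Fam S) {s t : ℕ} (hs : Good r s) (ht : Good r t) (hM : S.M s = S.M t) (c : S.I)
    (hN : s ≤ S.N (S.M t) c) (k : (ZMod t)ˣ) (hk : k ∉ S.H t) (c1 : ℕ) (h1 : S.N (S.M t) c % s ≤ c1)
    (h3 : c1 < s) (x : S.G (S.M t)) (hx : x ^ t = 1) (hx1 : x ≠ 1) :
    ∃ y : S.G c, y ^ t = 1 ∧ s ∣ (centralizer ({y} : Set (S.G c))).index ∧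
      F.det c y = F.det _ x ^ c1 * F.det _ x ^ (k : ZMod t).val ∧
      ∀ z : S.G (S.M t), z * x = x * z → ∃ w ∈ centralizer ({y} : Set (S.G c)), F.det c w = F.det _ z := by
  have hps : Fact s.Prime := ⟨hs.1⟩
  have hpt : Fact t.Prime := ⟨ht.1⟩
  set N := S.N (S.M t) c with hNdef
  obtain ⟨a, b, hab, hpow, hNa, hNb⟩ := S.splitN s hs.1 hs.2.1 hs.2.2 c c1 (by rw [hM]; omega)
  rw [hM] at hpow hNa hNb
  obtain ⟨b', hb', hNb'⟩ := S.split1 s hs.1 hs.2.1 hs.2.2 b (by rw [hM]; omega)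
  rw [hM] at hb' hNb'
  obtain ⟨y1, hy1, hE1, hdet1⟩ := exists_rep F hpow x hx
  have hkpos : 0 < (k : ZMod t).val := by
    rw [Nat.pos_iff_ne_zero, Ne, ZMod.val_eq_zero]
    exact k.ne_zero
  set x2 := x ^ (k : ZMod t).val with hx2
  have hx2t : x2 ^ t = 1 := by rw [hx2, ← pow_mul, mul_comm, pow_mul, hx, one_pow]
  have hx21 : x2 ≠ 1 := by
    intro h
    rw [hx2] at h
    have h4 := orderOf_dvd_of_pow_eq_one h
    rw [orderOf_eq_prime hx hx1] at h4
    have h5 := Nat.le_of_dvd hkpos h4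
    have h6 := ZMod.val_lt (k : ZMod t)
    omega
  have hd1 : Disjoint (S.E x2) (S.E (1 : S.G b')) := disjoint_one ht hx2t hx21 b'
  have hd2 : Disjoint (S.E y1) (S.E (S.β hb' (x2, 1))) := by
    rw [S.E_β, Set.disjoint_union_right]
    exact ⟨(disjoint_pow ht hx hx1 k hk).mono_left hE1, (disjoint_one ht hx hx1 b').mono_left hE1⟩
  set y : S.G c := S.β hab (y1, S.β hb' (x2, 1)) with hy
  refine ⟨y, ?_, ?_, ?_, ?_⟩
  · rw [hy, ← map_pow, Prod.pow_mk, hy1, ← map_pow, Prod.pow_mk, hx2t, one_pow,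
      show ((1 : S.G (S.M t)), (1 : S.G b')) = 1 from rfl, map_one]
    exact map_one _
  · have hc : Nat.card (centralizer ({y} : Set (S.G c))) = Nat.card (centralizer ({y1} : Set (S.G a))) *
        (Nat.card (centralizer ({x2} : Set (S.G (S.M t)))) * Nat.card (centralizer ({(1 : S.G b')} : Set (S.G b')))) := by
      rw [hy, card_centralizer_β hab y1 _ hd2, card_centralizer_β hb' x2 1 hd1]
    have hf : (Nat.card (centralizer ({y} : Set (S.G c)))).factorization s ≤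
        (Nat.card (S.G a)).factorization s + ((Nat.card (S.G (S.M t))).factorization s +
          (Nat.card (S.G b')).factorization s) := by
      rw [hc, Nat.factorization_mul Nat.card_pos.ne' (Nat.mul_pos Nat.card_pos Nat.card_pos).ne',
        Nat.factorization_mul Nat.card_pos.ne' Nat.card_pos.ne', Finsupp.add_apply, Finsupp.add_apply]
      exact Nat.add_le_add (fac_le _ _) (Nat.add_le_add (fac_le _ _) (fac_le _ _))
    have f1 := S.fac s hs.1 hs.2.1 hs.2.2 a
    have f2 := S.fac s hs.1 hs.2.1 hs.2.2 (S.M t)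
    have f3 := S.fac s hs.1 hs.2.1 hs.2.2 b'
    have f4 := S.fac s hs.1 hs.2.1 hs.2.2 c
    rw [hM, hNa] at f1
    rw [hM, S.N_M t ht.1 ht.2.1 ht.2.2] at f2
    rw [hM] at f3
    rw [hM, ← hNdef] at f4
    have e1 : S.N (S.M t) b' = N - c1 - 1 := by omega
    rw [e1] at f3
    have g1 := fact_zero hs.1 h3
    have g2 := fact_zero hs.1 (show 1 < s from hs.1.one_lt)
    have g3 := fact_lt hs.1 hN h1 h3
    rw [fac_index (centralizer ({y} : Set (S.G c))) s] at f4
    have g4 : N * S.v s = c1 * S.v s + (1 * S.v s + (N - c1 - 1) * S.v s) := by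
      rw [← add_mul, ← add_mul]
      congr 1
      omega
    exact Nat.dvd_of_factorization_pos (by omega)
  · rw [hy, F.det_β, F.det_β, hdet1, map_one, mul_one, hx2, map_pow]
  · intro z hz
    refine ⟨S.β hab (1, S.β hb' (z, 1)), ?_, ?_⟩
    · have hz2 : z * x2 = x2 * z := by
        have : Commute z x := hz
        exact this.pow_right _
      rw [mem_centralizer_singleton_iff, hy, ← map_mul, ← map_mul, Prod.mk_mul_mk, Prod.mk_mul_mk, ← map_mul,
        ← map_mul, Prod.mk_mul_mk, Prod.mk_mul_mk, hz2, one_mul, mul_one, mul_one]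
    · rw [F.det_β, F.det_β, map_one, map_one, one_mul, mul_one]

/-- Exponents outside `H t`. -/
theorem exists_not_mem {s t : ℕ} (hs : Good r s) (ht : Good r t) (hst : s < t) (hM : S.M s = S.M t) :
    ∃ k : (ZMod t)ˣ, k ∉ S.H t := by
  have hps : Fact s.Prime := ⟨hs.1⟩
  have hpt : Fact t.Prime := ⟨ht.1⟩
  by_contra h
  have h1 : S.H t = ⊤ := by
    rw [eq_top_iff]
    intro k _
    by_contra hk
    exact h ⟨k, hk⟩
  have h2 := S.H_card t ht.1 ht.2.1 ht.2.2
  rw [h1, card_top, ← hM, ← S.H_card s hs.1 hs.2.1 hs.2.2] at h2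
  have h3 : Nat.card (S.H s) ≤ Nat.card (ZMod s)ˣ := card_le_card_group _
  rw [Nat.card_eq_fintype_card (α := (ZMod t)ˣ), ZMod.card_units] at h2
  rw [Nat.card_eq_fintype_card (α := (ZMod s)ˣ), ZMod.card_units] at h3
  have := hs.1.two_le
  omega

/-- The Sylow `t`-subgroups of the minimal block are abelian. -/
theorem sylow_comm {t : ℕ} (ht : Good r t) (R : Sylow t (S.G (S.M t))) (u w : S.G (S.M t)) (hu : u ∈ R)
    (hw : w ∈ R) : u * w = w * u := by
  have hpt : Fact t.Prime := ⟨ht.1⟩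
  have hne : (R : Subgroup (S.G (S.M t))) ≠ ⊥ := by
    refine R.ne_bot_of_dvd_card ?_
    rw [dvd_iff ht, S.N_M t ht.1 ht.2.1 ht.2.2]
    exact one_ne_zero
  have hnt : Nontrivial R := (nontrivial_iff_ne_bot _).2 hne
  have hc : Nontrivial (center R) := R.isPGroup'.center_nontrivial
  have hd : t ∣ Nat.card (center R) := by
    obtain ⟨n, hn, hn'⟩ := (R.isPGroup'.to_subgroup (center R)).nontrivial_iff_card.1 hc
    rw [hn']
    exact dvd_pow_self t hn.ne'
  obtain ⟨z, hz⟩ := exists_prime_orderOf_dvd_card' t hd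
  set x : S.G (S.M t) := ((z : R) : S.G (S.M t)) with hxdef
  have hx : orderOf x = t := by
    rw [hxdef, Subgroup.orderOf_coe, Subgroup.orderOf_coe, hz]
  have hxt : x ^ t = 1 := by
    have := pow_orderOf_eq_one x
    rwa [hx] at this
  have hx1 : x ≠ 1 := by
    intro h
    rw [h, orderOf_one] at hx
    exact ht.1.one_lt.ne hx
  have hcz := mem_center_iff.1 z.2
  refine S.ab x u w (block ht hxt hx1).1 ?_ ?_
  · exact (congrArg Subtype.val (hcz ⟨u, hu⟩)).symm
  · exact (congrArg Subtype.val (hcz ⟨w, hw⟩)).symm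

/-- The centralizer of an element of order `t` of the minimal block contains a Sylow `t`-subgroup. -/
theorem not_dvd_index {t : ℕ} (ht : Good r t) (x : S.G (S.M t)) (hx : x ^ t = 1) :
    ¬ t ∣ (centralizer ({x} : Set (S.G (S.M t)))).index := by
  have hpt : Fact t.Prime := ⟨ht.1⟩
  have h1 : IsPGroup t (zpowers x) := by
    rintro ⟨y, hy⟩
    obtain ⟨i, rfl⟩ := mem_zpowers_iff.1 hy
    refine ⟨1, Subtype.ext ?_⟩
    show (x ^ i) ^ t ^ 1 = 1
    rw [pow_one, ← zpow_natCast, ← zpow_mul, mul_comm, zpow_mul, zpow_natCast, hx, one_zpow]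
  obtain ⟨R, hR⟩ := h1.exists_le_sylow
  have h2 : (R : Subgroup (S.G (S.M t))) ≤ centralizer ({x} : Set (S.G (S.M t))) := by
    intro u hu
    rw [mem_centralizer_singleton_iff]
    exact sylow_comm ht R u x hu (hR (mem_zpowers x))
  intro h3
  exact R.not_dvd_index (h3.trans (index_dvd_of_le h2))

/-- A torus on a power of a block. -/
theorem exists_torus {m a : S.I} {k : ℕ} (h : Pow S.Dec S.dim m k a) (T : Subgroup (S.G m))
    (hT : ∀ x ∈ T, ∀ y ∈ T, x * y = y * x) :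
    ∃ T' : Subgroup (S.G a), (∀ x ∈ T', ∀ y ∈ T', x * y = y * x) ∧ Nat.card T' = Nat.card T ^ k := by
  induction h with
  | zero a h =>
    refine ⟨⊥, ?_, by rw [card_bot, pow_zero]⟩
    intro x hx y hy
    rw [mem_bot.1 hx, mem_bot.1 hy]
  | succ k a b h hb ih =>
    obtain ⟨T', hT', hcard⟩ := ih
    refine ⟨(T.prod T').map (S.β h), ?_, ?_⟩
    · rintro _ ⟨⟨u1, w1⟩, h1, rfl⟩ _ ⟨⟨u2, w2⟩, h2, rfl⟩
      rw [← map_mul, ← map_mul]
      congr 1
      exact Prod.ext (hT _ (mem_prod.1 h1).1 _ (mem_prod.1 h2).1) (hT' _ (mem_prod.1 h1).2 _ (mem_prod.1 h2).2)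
    · rw [card_map_of_injective (S.β_inj h), Nat.card_congr (Subgroup.prodEquiv _ _).toEquiv, Nat.card_prod, hcard,
        pow_succ']

/-- **Case `γ`** -/
theorem gamma {m : S.I} (T : Subgroup (S.G m)) (hT : ∀ x ∈ T, ∀ y ∈ T, x * y = y * x) (c : S.I) (π : Set ℕ)
    (hπ : ∀ s ∈ π, Good r s ∧ S.M s = m ∧ S.N m c < s ∧ ¬ s ∣ T.index) (hne : π.Nonempty) :
    ∃ T' : Subgroup (S.G c), (∀ x ∈ T', ∀ y ∈ T', x * y = y * x) ∧ ∀ s ∈ π, ¬ s ∣ T'.index := by
  obtain ⟨s0, hs0⟩ := hne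
  obtain ⟨hg0, hm0, -, -⟩ := hπ s0 hs0
  obtain ⟨a, b, hab, hpow, -, -⟩ := S.splitN s0 hg0.1 hg0.2.1 hg0.2.2 c (S.N m c) (by rw [hm0])
  rw [hm0] at hpow
  obtain ⟨T', hT', hcard⟩ := exists_torus hpow T hT
  refine ⟨(T'.prod ⊥).map (S.β hab), ?_, fun s hs hd => ?_⟩
  · rintro _ ⟨⟨u1, w1⟩, h1, rfl⟩ _ ⟨⟨u2, w2⟩, h2, rfl⟩
    rw [← map_mul, ← map_mul]
    congr 1
    refine Prod.ext (hT' _ (mem_prod.1 h1).1 _ (mem_prod.1 h2).1) ?_
    have e1 : w1 = 1 := mem_bot.1 (mem_prod.1 h1).2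
    have e2 : w2 = 1 := mem_bot.1 (mem_prod.1 h2).2
    show w1 * w2 = w2 * w1
    rw [e1, e2]
  · obtain ⟨hg, hm, hN, hi⟩ := hπ s hs
    have hcard' : Nat.card ((T'.prod (⊥ : Subgroup (S.G b))).map (S.β hab)) = Nat.card T ^ S.N m c := by
      rw [card_map_of_injective (S.β_inj hab), Nat.card_congr (Subgroup.prodEquiv _ _).toEquiv, Nat.card_prod, hcard,
        card_bot, mul_one]
    have f1 := S.fac s hg.1 hg.2.1 hg.2.2 c
    have f2 := S.fac s hg.1 hg.2.1 hg.2.2 m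
    have hNM := S.N_M s hg.1 hg.2.1 hg.2.2
    rw [hm] at f1 f2 hNM
    rw [fact_zero hg.1 hN, add_zero, fac_index ((T'.prod (⊥ : Subgroup (S.G b))).map (S.β hab)) s, hcard',
      Nat.factorization_pow, Finsupp.smul_apply, smul_eq_mul] at f1
    rw [hNM, fact_zero hg.1 hg.1.one_lt, add_zero, one_mul, fac_index T s,
      Nat.factorization_eq_zero_of_not_dvd hi, add_zero] at f2
    rw [f2] at f1
    have h5 := hg.1.factorization_pos_of_dvd index_ne_zero_of_finite hd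
    omega

end Sys

end Cfsg.Agent.H201.BlockSys
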