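import Cfsg.Agent.H533.Comm.Red

/-!
# Commutator closed normal sets of `p`-elements: the alternating groups (S3828)

`crow_alt` : for `n ≥ 5` the alternating group of degree `n` has no minimal configuration.
-/

set_option autoImplicit false

namespace Cfsg.Agent.H201.CommAlt

open Equiv Equiv.Perm Cfsg.Agent.H533.Comm MulAction

section perm

variable {α : Type*} [Fintype α] [DecidableEq α]

/-- For four points in a row of `C`, some conjugate of `C` by an even permutation differs from `C`
by a three-cycle moving `a`, `C a`, `C³ a`. -/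
theorem exists_even_sigma (C : Perm α) (a : α) (h1 : C a ≠ a) (h2 : C (C a) ≠ a) :
    ∃ σ ∈ alternatingGroup α,
      C⁻¹ * (σ * C * σ⁻¹) = swap (C a) a * swap (C a) (C (C (C a))) := by
  have e12 : C a ≠ C (C a) := fun h => h1 (C.injective h).symm
  have e13 : C a ≠ C (C (C a)) := fun h => h2 (C.injective h).symm
  have e23 : C (C a) ≠ C (C (C a)) := fun h => e12 (C.injective h)
  have key : ∀ x y : α, C⁻¹ * swap (C x) (C y) * C = swap x y := by
    intro x y
    rw [mul_assoc, inv_mul_eq_iff_eq_mul, mul_swap_eq_swap_mul]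
  have key' : ∀ σ : Perm α, C⁻¹ * (σ * C * σ⁻¹) = (C⁻¹ * σ * C) * σ⁻¹ := by
    intro σ; group
  refine ⟨swap (C a) (C (C a)) * swap (C (C a)) (C (C (C a))), ?_, ?_⟩
  · rw [mem_alternatingGroup, Perm.sign_mul, sign_swap e12, sign_swap e23]; rfl
  · rw [key', mul_inv_rev, swap_inv, swap_inv]
    have h4 : C⁻¹ * (swap (C a) (C (C a)) * swap (C (C a)) (C (C (C a)))) * C
        = swap a (C a) * swap (C a) (C (C a)) := by
      rw [← key a (C a), ← key (C a) (C (C a))]; group
    rw [h4, swap_comm a (C a), mul_assoc]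
    congr 1
    rw [← mul_assoc, swap_comm (C (C a)) (C (C (C a))), swap_comm (C a) (C (C a)),
      swap_comm (C a) (C (C (C a)))]
    rw [swap_comm (C (C a)) (C a)]
    have := swap_mul_swap_mul_swap (x := C (C (C a))) (y := C (C a)) (z := C a) e23.symm
      e13.symm
    rw [swap_comm (C (C a)) (C a)] at this
    rw [this, swap_comm]

/-- The commutator of `C` and a conjugate, for four points in a row. -/
theorem exists_commutator (C : Perm α) (a : α) (h1 : C a ≠ a) (h2 : C (C a) ≠ a)
    (h3 : C (C (C a)) ≠ a) :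
    ∃ σ ∈ alternatingGroup α,
      C⁻¹ * (σ * C * σ⁻¹)⁻¹ * C * (σ * C * σ⁻¹) ≠ 1 ∧
      ∀ x, x ≠ C⁻¹ a → x ≠ a → x ≠ C a → x ≠ C (C a) → x ≠ C (C (C a)) →
        (C⁻¹ * (σ * C * σ⁻¹)⁻¹ * C * (σ * C * σ⁻¹)) x = x := by
  have e12 : C a ≠ C (C a) := fun h => h1 (C.injective h).symm
  have e13 : C a ≠ C (C (C a)) := fun h => h2 (C.injective h).symm
  have e23 : C (C a) ≠ C (C (C a)) := fun h => e12 (C.injective h)
  obtain ⟨σ, hσ, ht⟩ := exists_even_sigma C a h1 h2
  refine ⟨σ, hσ, ?_⟩
  set t := swap (C a) a * swap (C a) (C (C (C a))) with htdef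
  have hd : σ * C * σ⁻¹ = C * t := by rw [← ht]; group
  have he : C⁻¹ * (σ * C * σ⁻¹)⁻¹ * C * (σ * C * σ⁻¹) = C⁻¹ * t⁻¹ * C * t := by
    rw [hd]; group
  rw [he]
  constructor
  · intro h
    -- `C t = t C` : compare at `C a`
    have h4 : C * t = t * C := by
      have : t * C = t * C * (C⁻¹ * t⁻¹ * C * t) := by rw [h, mul_one]
      rw [this]; group
    have h5 := congrArg (fun f : Perm α => f (C a)) h4
    simp only [Perm.mul_apply] at h5
    have h6 : t (C a) = C (C (C a)) := by
      rw [htdef, Perm.mul_apply, swap_apply_left, swap_apply_of_ne_of_ne e13.symm h3]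
    have h7 : t (C (C a)) = C (C a) := by
      rw [htdef, Perm.mul_apply, swap_apply_of_ne_of_ne e12.symm e23,
        swap_apply_of_ne_of_ne e12.symm h2]
    rw [h6, h7] at h5
    have h8 := C.injective (C.injective h5)
    exact h2 h8
  · intro x hx1 hx2 hx3 hx4 hx5
    have h4 : t x = x := by
      rw [htdef, Perm.mul_apply, swap_apply_of_ne_of_ne hx3 hx5, swap_apply_of_ne_of_ne hx3 hx2]
    have q1 : C x ≠ C a := fun h => hx2 (C.injective h)
    have q2 : C x ≠ C (C (C a)) := fun h => hx4 (C.injective h)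
    have q3 : C x ≠ a := by
      intro h; apply hx1; rw [← h]; simp
    have h5 : t⁻¹ (C x) = C x := by
      rw [Perm.inv_eq_iff_eq, htdef, Perm.mul_apply, swap_apply_of_ne_of_ne q1 q2,
        swap_apply_of_ne_of_ne q1 q3]
    simp only [Perm.mul_apply]
    rw [h4, h5]
    simp

end perm

section stab

variable {n : ℕ}

/-- Point stabilisers of the alternating group. -/
theorem exists_stab_equiv (a : Fin n) :
    Nonempty (stabilizer (alternatingGroup (Fin n)) a ≃* alternatingGroup {x : Fin n // x ≠ a}) := by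
  have hmem : ∀ (t : stabilizer (alternatingGroup (Fin n)) a) (x : Fin n),
      ((t : alternatingGroup (Fin n)) : Perm (Fin n)) x ≠ a ↔ x ≠ a := by
    intro t x
    rw [not_iff_not]
    have h1 : ((t : alternatingGroup (Fin n)) : Perm (Fin n)) a = a := t.2
    constructor
    · intro h
      exact ((t : alternatingGroup (Fin n)) : Perm (Fin n)).injective (h.trans h1.symm)
    · rintro rfl
      exact h1
  have hsign : ∀ t : stabilizer (alternatingGroup (Fin n)) a,
      Perm.sign (Perm.subtypePerm (p := fun x : Fin n => x ≠ a)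
        ((t : alternatingGroup (Fin n)) : Perm (Fin n)) (hmem t)) = 1 := by
    intro t
    have h0 : ∀ x, ((t : alternatingGroup (Fin n)) : Perm (Fin n)) x ≠ x → x ≠ a := by
      rintro x hx rfl
      exact hx t.2
    rw [Perm.sign_subtypePerm _ (hmem t) h0]
    exact Perm.mem_alternatingGroup.1 (t : alternatingGroup (Fin n)).2
  let f : stabilizer (alternatingGroup (Fin n)) a →* alternatingGroup {x : Fin n // x ≠ a} :=
    { toFun := fun t => ⟨Perm.subtypePerm (p := fun x : Fin n => x ≠ a)
        ((t : alternatingGroup (Fin n)) : Perm (Fin n)) (hmem t),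
        Perm.mem_alternatingGroup.2 (hsign t)⟩
      map_one' := by
        apply Subtype.ext
        ext x
        rfl
      map_mul' := fun s t => by
        apply Subtype.ext
        ext x
        rfl }
  have hf : ∀ (t : stabilizer (alternatingGroup (Fin n)) a) (x : {x : Fin n // x ≠ a}),
      (((f t : alternatingGroup {x : Fin n // x ≠ a}) : Perm {x : Fin n // x ≠ a}) x : Fin n)
        = ((t : alternatingGroup (Fin n)) : Perm (Fin n)) (x : Fin n) :=
    fun _ _ => rfl
  have hbij : Function.Bijective f := by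
    constructor
    · intro s t hst
      apply Subtype.ext
      apply Subtype.ext
      ext x
      by_cases hx : x = a
      · rw [hx]
        exact congrArg _ (s.2.trans t.2.symm)
      · have h1 := hf s ⟨x, hx⟩
        rw [hst, hf t ⟨x, hx⟩] at h1
        exact congrArg _ h1.symm
    · intro σ
      have h1 : Perm.ofSubtype (σ : Perm {x : Fin n // x ≠ a}) ∈ alternatingGroup (Fin n) := by
        rw [Perm.mem_alternatingGroup, Perm.sign_ofSubtype]
        exact Perm.mem_alternatingGroup.1 σ.2
      refine ⟨⟨⟨_, h1⟩, ?_⟩, ?_⟩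
      · exact Perm.ofSubtype_apply_of_not_mem _ (fun h => h rfl)
      · apply Subtype.ext
        ext x
        rw [hf]
        exact congrArg _ (Perm.ofSubtype_apply_coe _ x)
  exact ⟨MulEquiv.ofBijective f hbij⟩

theorem pCore_stab (hn : 6 ≤ n) (a : Fin n) {p : ℕ} [Fact p.Prime] :
    Cfsg.pCore p (stabilizer (alternatingGroup (Fin n)) a) = ⊥ := by
  obtain ⟨e⟩ := exists_stab_equiv a
  have hcard : Nat.card {x : Fin n // x ≠ a} = n - 1 := by
    rw [Nat.card_eq_fintype_card, Fintype.card_subtype_compl, Fintype.card_subtype_eq,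
      Fintype.card_fin]
  have hs : IsSimpleGroup (alternatingGroup {x : Fin n // x ≠ a}) :=
    alternatingGroup.isSimpleGroup (by omega)
  have hs' : IsSimpleGroup (stabilizer (alternatingGroup (Fin n)) a) := by
    have : Nontrivial (stabilizer (alternatingGroup (Fin n)) a) := e.symm.injective.nontrivial
    exact IsSimpleGroup.isSimpleGroup_of_surjective e.symm.toMonoidHom e.symm.surjective
  have hp := Cfsg.Agent.Lib.Cores.pCore_isPGroup (G := stabilizer (alternatingGroup (Fin n)) a) p
  have hnm := Cfsg.Agent.Lib.Cores.pCore_normal (G := stabilizer (alternatingGroup (Fin n)) a) p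
  rcases hnm.eq_bot_or_eq_top with h | h
  · exact h
  · exfalso
    rw [h] at hp
    have h1 : IsPGroup p (stabilizer (alternatingGroup (Fin n)) a) :=
      hp.of_equiv Subgroup.topEquiv
    have h2 : IsPGroup p (alternatingGroup {x : Fin n // x ≠ a}) := h1.of_equiv e
    have h3 : Nontrivial (Subgroup.center (alternatingGroup {x : Fin n // x ≠ a})) :=
      h2.center_nontrivial
    rw [alternatingGroup.center_eq_bot (by omega)] at h3
    exact (not_subsingleton_iff_nontrivial.mpr h3) inferInstance

theorem stab_ne_top (hn : 3 ≤ n) (a : Fin n) :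
    stabilizer (alternatingGroup (Fin n)) a ≠ ⊤ := by
  intro h
  -- a three-cycle moving `a`
  obtain ⟨b, hb⟩ : ∃ b : Fin n, b ≠ a := by
    have : Nontrivial (Fin n) := Fin.nontrivial_iff_two_le.2 (by omega)
    exact exists_ne a
  obtain ⟨c, hca, hcb⟩ : ∃ c : Fin n, c ≠ a ∧ c ≠ b := by
    by_contra hcon
    push Not at hcon
    have h1 : (Finset.univ : Finset (Fin n)) ⊆ {a, b} := by
      intro x _
      by_cases hx : x = a
      · simp [hx]
      · simp [hcon x hx]
    have h2 := Finset.card_le_card h1
    rw [Finset.card_univ, Fintype.card_fin] at h2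
    have h3 := Finset.card_le_two (a := a) (b := b)
    omega
  have h1 : swap a b * swap a c ∈ alternatingGroup (Fin n) := by
    rw [mem_alternatingGroup, Perm.sign_mul, sign_swap hb.symm, sign_swap hca.symm]; rfl
  have h2 : (⟨_, h1⟩ : alternatingGroup (Fin n)) ∈ stabilizer (alternatingGroup (Fin n)) a := by
    rw [h]; exact Subgroup.mem_top _
  have h3 : (swap a b * swap a c) a = a := h2
  rw [Perm.mul_apply, swap_apply_left, swap_apply_of_ne_of_ne hca hcb] at h3
  exact hca h3

/-- Nontrivial elements of `C` have no fixed points. -/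
theorem nofix (hn : 6 ≤ n) {p : ℕ} [Fact p.Prime] {C : Set (alternatingGroup (Fin n))}
    (h : Iso p (alternatingGroup (Fin n)) C) {c : alternatingGroup (Fin n)} (hc : c ∈ C)
    {a : Fin n} (ha : (c : Perm (Fin n)) a = a) : c = 1 :=
  have : IsSimpleGroup (alternatingGroup (Fin n)) :=
    alternatingGroup.isSimpleGroup (by simpa using (by omega : 5 ≤ n))
  h.core_kill (stab_ne_top (by omega) a) (pCore_stab hn a) hc ha

end stab

section embed

variable {n : ℕ}

/-- `x` acts on the points `ι i` as `x₀` on the `i`. -/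
def Ext {m : ℕ} (ι : Fin m ↪ Fin n) (x : Perm (Fin n)) (x₀ : Perm (Fin m)) : Prop :=
  ∀ i, x (ι i) = ι (x₀ i)

theorem Ext.mul {m : ℕ} {ι : Fin m ↪ Fin n} {x y : Perm (Fin n)} {x₀ y₀ : Perm (Fin m)}
    (hx : Ext ι x x₀) (hy : Ext ι y y₀) : Ext ι (x * y) (x₀ * y₀) := by
  intro i
  rw [Perm.mul_apply, Perm.mul_apply, hy, hx]

theorem Ext.inv {m : ℕ} {ι : Fin m ↪ Fin n} {x : Perm (Fin n)} {x₀ : Perm (Fin m)}
    (hx : Ext ι x x₀) : Ext ι x⁻¹ x₀⁻¹ := by
  intro i
  rw [Perm.inv_eq_iff_eq, hx]
  simp

theorem Ext.pow {m : ℕ} {ι : Fin m ↪ Fin n} {x : Perm (Fin n)} {x₀ : Perm (Fin m)}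
    (hx : Ext ι x x₀) (k : ℕ) : Ext ι (x ^ k) (x₀ ^ k) := by
  induction k with
  | zero => intro i; simp
  | succ k ih => rw [pow_succ, pow_succ]; exact ih.mul hx

/-- Words in `c` and a conjugate computed on a few points. -/
theorem word_embed {m : ℕ} {C : Set (alternatingGroup (Fin n))} {p : ℕ} [Fact p.Prime]
    (h : CSet p C) {c c' : alternatingGroup (Fin n)} (hc : c ∈ C) (hc' : c' ∈ C)
    (ι : Fin m ↪ Fin n) (c₀ c₀' g₀ : Perm (Fin m)) (hg₀ : sign g₀ = 1)
    (h1 : Ext ι c c₀) (h2 : Ext ι c' c₀') :
    ∃ e ∈ C, Ext ι e (c₀⁻¹ * (g₀ * c₀' * g₀⁻¹)⁻¹ * c₀ * (g₀ * c₀' * g₀⁻¹)) ∧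
      ∃ k : ℕ, (c₀⁻¹ * (g₀ * c₀' * g₀⁻¹)⁻¹ * c₀ * (g₀ * c₀' * g₀⁻¹)) ^ p ^ k = 1 := by
  set g : Perm (Fin n) := g₀.viaFintypeEmbedding ι with hg
  have hgs : g ∈ alternatingGroup (Fin n) := by
    rw [mem_alternatingGroup, hg, Perm.viaFintypeEmbedding_sign, hg₀]
  have hge : Ext ι g g₀ := fun i => Perm.viaFintypeEmbedding_apply_image g₀ ι i
  set G : alternatingGroup (Fin n) := ⟨g, hgs⟩ with hG
  have he := h.comm c hc _ (h.conj G c' hc')
  have hext : Ext ι ((c⁻¹ * (G * c' * G⁻¹)⁻¹ * c * (G * c' * G⁻¹) : alternatingGroup (Fin n)) :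
      Perm (Fin n)) (c₀⁻¹ * (g₀ * c₀' * g₀⁻¹)⁻¹ * c₀ * (g₀ * c₀' * g₀⁻¹)) :=
    ((h1.inv.mul ((hge.mul h2).mul hge.inv).inv).mul h1).mul ((hge.mul h2).mul hge.inv)
  refine ⟨_, he, hext, ?_⟩
  obtain ⟨k, hk⟩ := h.pel _ he
  refine ⟨k, ?_⟩
  have h3 := hext.pow (p ^ k)
  have h4 : ((c⁻¹ * (G * c' * G⁻¹)⁻¹ * c * (G * c' * G⁻¹) : alternatingGroup (Fin n)) :
      Perm (Fin n)) ^ p ^ k = 1 := by
    rw [← SubmonoidClass.coe_pow, ← hk, pow_orderOf_eq_one]
    rfl
  rw [h4] at h3
  ext i
  exact congrArg _ (ι.injective (h3 i)).symm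

theorem pow_ne_one_aux {G : Type*} [Group G] {x : G} {p q k : ℕ} (hp : p.Prime) (hq : q.Prime)
    (hpq : q ≠ p) (hx : x ≠ 1) (hxq : x ^ q = 1) : x ^ p ^ k ≠ 1 := by
  intro h
  apply hx
  have h1 : orderOf x ∣ q := orderOf_dvd_of_pow_eq_one hxq
  have h2 : orderOf x ∣ p ^ k := orderOf_dvd_of_pow_eq_one h
  have h3 : (p ^ k).Coprime q := Nat.Coprime.pow_left k ((Nat.coprime_primes hp hq).mpr hpq.symm)
  have h4 := Nat.eq_one_of_dvd_coprimes h3 h2 h1
  exact orderOf_eq_one_iff.mp h4

set_option maxRecDepth 20000 in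
/-- Two cycles of length three. -/
theorem no_two_three {C : Set (alternatingGroup (Fin n))} (h : CSet 3 C)
    {c : alternatingGroup (Fin n)} (hc : c ∈ C) (hc3 : c ^ 3 = 1)
    {a b : Fin n} (ha : (c : Perm (Fin n)) a ≠ a) (hb : (c : Perm (Fin n)) b ≠ b)
    (hab : b ≠ a) (hab1 : b ≠ (c : Perm (Fin n)) a)
    (hab2 : b ≠ (c : Perm (Fin n)) ((c : Perm (Fin n)) a)) : False := by
  have : Fact (Nat.Prime 3) := ⟨Nat.prime_three⟩
  obtain ⟨c, hcs⟩ := c
  change c a ≠ a at ha
  change c b ≠ b at hb
  change b ≠ c a at hab1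
  change b ≠ c (c a) at hab2
  have hccc : ∀ x, c (c (c x)) = x := by
    intro x
    have h1 := congrArg (fun f : alternatingGroup (Fin n) => (f : Perm (Fin n)) x) hc3
    simpa [pow_succ] using h1
  have ha2 : c (c a) ≠ a := by
    intro h1
    apply ha
    have h2 := hccc a
    rw [h1] at h2
    exact h2
  have hb2 : c (c b) ≠ b := by
    intro h1
    apply hb
    have h2 := hccc b
    rw [h1] at h2
    exact h2
  have ha3 : c a ≠ c (c a) := fun h1 => ha (c.injective h1).symm
  have hb3 : c b ≠ c (c b) := fun h1 => hb (c.injective h1).symm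
  have e1 : a ≠ c b := fun h1 => hab2 (by rw [h1, hccc])
  have e2 : a ≠ c (c b) := fun h1 => hab1 (by rw [h1, hccc])
  have e3 : c a ≠ c b := fun h1 => hab (c.injective h1).symm
  have e4 : c a ≠ c (c b) := fun h1 => e1 (c.injective h1)
  have e5 : c (c a) ≠ c b := fun h1 => hab1 (c.injective h1).symm
  have e6 : c (c a) ≠ c (c b) := fun h1 => e3 (c.injective h1)
  let ι : Fin 6 ↪ Fin n := ⟨![a, c a, c (c a), b, c b, c (c b)], by
    intro i j hij
    fin_cases i <;> fin_cases j <;> first
      | rfl
      | exact absurd hij.symm ha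
      | exact absurd hij ha
      | exact absurd hij.symm ha2
      | exact absurd hij ha2
      | exact absurd hij.symm ha3
      | exact absurd hij ha3
      | exact absurd hij.symm hb
      | exact absurd hij hb
      | exact absurd hij.symm hb2
      | exact absurd hij hb2
      | exact absurd hij.symm hb3
      | exact absurd hij hb3
      | exact absurd hij.symm hab
      | exact absurd hij hab
      | exact absurd hij.symm hab1
      | exact absurd hij hab1
      | exact absurd hij.symm hab2
      | exact absurd hij hab2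
      | exact absurd hij.symm e1
      | exact absurd hij e1
      | exact absurd hij.symm e2
      | exact absurd hij e2
      | exact absurd hij.symm e3
      | exact absurd hij e3
      | exact absurd hij.symm e4
      | exact absurd hij e4
      | exact absurd hij.symm e5
      | exact absurd hij e5
      | exact absurd hij.symm e6
      | exact absurd hij e6⟩
  obtain ⟨e, -, -, k, hk⟩ := word_embed h hc hc ι
    (swap 0 1 * swap 1 2 * (swap 3 4 * swap 4 5)) (swap 0 1 * swap 1 2 * (swap 3 4 * swap 4 5))
    (swap 1 3 * swap 2 4) (by decide) (by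
      intro i
      change c (ι i) = _
      fin_cases i
      · rfl
      · rfl
      · exact hccc a
      · rfl
      · rfl
      · exact hccc b) (by
      intro i
      change c (ι i) = _
      fin_cases i
      · rfl
      · rfl
      · exact hccc a
      · rfl
      · rfl
      · exact hccc b)
  exact pow_ne_one_aux (q := 2) Nat.prime_three Nat.prime_two (by norm_num)
    (by decide) (by decide) hk

set_option maxRecDepth 20000 in
/-- A cycle of length three and a fixed point. -/
theorem no_three_fix {C : Set (alternatingGroup (Fin n))} (h : CSet 3 C)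
    {c : alternatingGroup (Fin n)} (hc : c ∈ C) (hc3 : c ^ 3 = 1)
    {a b : Fin n} (ha : (c : Perm (Fin n)) a ≠ a) (hb : (c : Perm (Fin n)) b = b) : False := by
  have : Fact (Nat.Prime 3) := ⟨Nat.prime_three⟩
  obtain ⟨c, hcs⟩ := c
  change c a ≠ a at ha
  change c b = b at hb
  have hccc : ∀ x, c (c (c x)) = x := by
    intro x
    have h1 := congrArg (fun f : alternatingGroup (Fin n) => (f : Perm (Fin n)) x) hc3
    simpa [pow_succ] using h1
  have ha2 : c (c a) ≠ a := by
    intro h1
    apply ha
    have h2 := hccc a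
    rw [h1] at h2
    exact h2
  have ha3 : c a ≠ c (c a) := fun h1 => ha (c.injective h1).symm
  have e1 : a ≠ b := fun h1 => ha (by rw [h1]; exact hb)
  have e2 : c a ≠ b := fun h1 => e1 (c.injective (h1.trans hb.symm))
  have e3 : c (c a) ≠ b := fun h1 => e2 (c.injective (h1.trans hb.symm))
  let ι : Fin 4 ↪ Fin n := ⟨![a, c a, c (c a), b], by
    intro i j hij
    fin_cases i <;> fin_cases j <;> first
      | rfl
      | exact absurd hij.symm ha
      | exact absurd hij ha
      | exact absurd hij.symm ha2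
      | exact absurd hij ha2
      | exact absurd hij.symm ha3
      | exact absurd hij ha3
      | exact absurd hij.symm e1
      | exact absurd hij e1
      | exact absurd hij.symm e2
      | exact absurd hij e2
      | exact absurd hij.symm e3
      | exact absurd hij e3⟩
  obtain ⟨e, -, -, k, hk⟩ := word_embed h hc hc ι
    (swap 0 1 * swap 1 2) (swap 0 1 * swap 1 2)
    (swap 0 1 * swap 2 3) (by decide) (by
      intro i
      change c (ι i) = _
      fin_cases i
      · rfl
      · rfl
      · exact hccc a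
      · exact hb) (by
      intro i
      change c (ι i) = _
      fin_cases i
      · rfl
      · rfl
      · exact hccc a
      · exact hb)
  exact pow_ne_one_aux (q := 2) Nat.prime_three Nat.prime_two (by norm_num)
    (by decide) (by decide) hk

set_option maxRecDepth 20000 in
/-- A cycle of length five. -/
theorem no_five {C : Set (alternatingGroup (Fin n))} (h : CSet 5 C)
    {c : alternatingGroup (Fin n)} (hc : c ∈ C) (hc5 : c ^ 5 = 1)
    {a : Fin n} (ha : (c : Perm (Fin n)) a ≠ a) : False := by
  have : Fact (Nat.Prime 5) := ⟨Nat.prime_five⟩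
  have hc2 := h.sq rfl c hc
  obtain ⟨c, hcs⟩ := c
  change c a ≠ a at ha
  have hccc : ∀ x, c (c (c (c (c x)))) = x := by
    intro x
    have h1 := congrArg (fun f : alternatingGroup (Fin n) => (f : Perm (Fin n)) x) hc5
    simpa [pow_succ] using h1
  have ha2 : c (c a) ≠ a := by
    intro h1
    apply ha
    have h2 := hccc a
    rw [h1, h1] at h2
    exact h2
  have ha3 : c (c (c a)) ≠ a := by
    intro h1
    apply ha2
    have h2 := hccc a
    rw [h1] at h2
    exact h2
  have ha4 : c (c (c (c a))) ≠ a := by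
    intro h1
    apply ha
    have h2 := hccc a
    rw [h1] at h2
    exact h2
  have e12 : c a ≠ c (c a) := fun h1 => ha (c.injective h1).symm
  have e13 : c a ≠ c (c (c a)) := fun h1 => ha2 (c.injective h1).symm
  have e14 : c a ≠ c (c (c (c a))) := fun h1 => ha3 (c.injective h1).symm
  have e23 : c (c a) ≠ c (c (c a)) := fun h1 => e12 (c.injective h1)
  have e24 : c (c a) ≠ c (c (c (c a))) := fun h1 => e13 (c.injective h1)
  have e34 : c (c (c a)) ≠ c (c (c (c a))) := fun h1 => e23 (c.injective h1)
  let ι : Fin 5 ↪ Fin n := ⟨![a, c a, c (c a), c (c (c a)), c (c (c (c a)))], by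
    intro i j hij
    fin_cases i <;> fin_cases j <;> first
      | rfl
      | exact absurd hij.symm ha
      | exact absurd hij ha
      | exact absurd hij.symm ha2
      | exact absurd hij ha2
      | exact absurd hij.symm ha3
      | exact absurd hij ha3
      | exact absurd hij.symm ha4
      | exact absurd hij ha4
      | exact absurd hij.symm e12
      | exact absurd hij e12
      | exact absurd hij.symm e13
      | exact absurd hij e13
      | exact absurd hij.symm e14
      | exact absurd hij e14
      | exact absurd hij.symm e23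
      | exact absurd hij e23
      | exact absurd hij.symm e24
      | exact absurd hij e24
      | exact absurd hij.symm e34
      | exact absurd hij e34⟩
  have h1 : Ext ι c (swap 0 1 * swap 1 2 * swap 2 3 * swap 3 4) := by
    intro i
    fin_cases i
    · rfl
    · rfl
    · rfl
    · rfl
    · exact hccc a
  obtain ⟨e, -, -, k, hk⟩ := word_embed h hc hc2 ι _ _
    (swap 2 3 * swap 3 4) (by decide) h1 (h1.pow 2)
  exact pow_ne_one_aux (q := 3) Nat.prime_five Nat.prime_three (by norm_num)
    (by decide) (by decide) hk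

end embed

section row

theorem five_dec : ∀ x : Perm (Fin 5), sign x = 1 →
    x * x = 1 ∨ x ^ 3 = 1 ∧ (∃ b, x b = b) ∨ x ^ 5 = 1 := by
  decide +kernel

/-- **The row of the alternating groups.** -/
theorem crow_alt {n : ℕ} (hn : 5 ≤ n) {p : ℕ} [hp : Fact p.Prime] :
    CRow p (alternatingGroup (Fin n)) := by
  intro C h
  have hs : IsSimpleGroup (alternatingGroup (Fin n)) :=
    alternatingGroup.isSimpleGroup (by simpa using hn)
  have hna : ¬ IsMulCommutative (alternatingGroup (Fin n)) := by
    intro hcm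
    have h1 : Subgroup.center (alternatingGroup (Fin n)) = ⊤ := by
      rw [eq_top_iff]
      intro z _
      rw [Subgroup.mem_center_iff]
      intro g
      exact hcm.is_comm.comm g z
    rw [alternatingGroup.center_eq_bot (by simp; omega)] at h1
    exact bot_ne_top h1
  obtain ⟨c, hc, hc1⟩ := h.ne
  have hmv : ∃ a : Fin n, (c : Perm (Fin n)) a ≠ a := by
    by_contra hcon
    push Not at hcon
    exact hc1 (Subtype.ext (Equiv.ext hcon))
  obtain ⟨k, hk⟩ := h.pel c hc
  have hinv := h.no_involution hna hc hc1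
  rcases Nat.lt_or_ge n 6 with h6 | h6
  · -- degree five
    have h5 : n = 5 := by omega
    subst h5
    obtain ⟨a, ha⟩ := hmv
    rcases five_dec c (mem_alternatingGroup.mp c.2) with h1 | ⟨h1, b, hb⟩ | h1
    · exact hinv (Subtype.ext h1)
    · have h2 : c ^ 3 = 1 := Subtype.ext h1
      have h3 : p = 3 := by
        by_contra hne
        exact pow_ne_one_aux (k := k) hp.out Nat.prime_three (Ne.symm hne) hc1 h2
          (hk ▸ pow_orderOf_eq_one c)
      subst h3
      exact no_three_fix h.toCSet hc h2 ha hb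
    · have h2 : c ^ 5 = 1 := Subtype.ext h1
      have h3 : p = 5 := by
        by_contra hne
        exact pow_ne_one_aux (k := k) hp.out Nat.prime_five (Ne.symm hne) hc1 h2
          (hk ▸ pow_orderOf_eq_one c)
      subst h3
      exact no_five h.toCSet hc h2 ha
  · have hnf : ∀ e ∈ C, e ≠ 1 → ∀ a, (e : Perm (Fin n)) a ≠ a :=
      fun e he he1 a ha => he1 (nofix h6 h he ha)
    by_cases hex : ∃ a, (c : Perm (Fin n)) a ≠ a ∧
        (c : Perm (Fin n)) ((c : Perm (Fin n)) a) ≠ a ∧
        (c : Perm (Fin n)) ((c : Perm (Fin n)) ((c : Perm (Fin n)) a)) ≠ a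
    · obtain ⟨a, h1, h2, h3⟩ := hex
      obtain ⟨σ, hσ, hne, hfix⟩ := exists_commutator (c : Perm (Fin n)) a h1 h2 h3
      have he := h.comm c hc _ (h.conj ⟨σ, hσ⟩ c hc)
      obtain ⟨x, hx⟩ : ∃ x : Fin n, x ∉ ({(c : Perm (Fin n))⁻¹ a, a, (c : Perm (Fin n)) a,
          (c : Perm (Fin n)) ((c : Perm (Fin n)) a),
          (c : Perm (Fin n)) ((c : Perm (Fin n)) ((c : Perm (Fin n)) a))} : Finset (Fin n)) := by
        by_contra hcon
        push Not at hcon
        have h4 := Finset.card_le_card (s := Finset.univ) (fun x _ => hcon x)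
        rw [Finset.card_univ, Fintype.card_fin] at h4
        have h5 := Finset.card_le_five (a := (c : Perm (Fin n))⁻¹ a) (b := a)
          (c := (c : Perm (Fin n)) a) (d := (c : Perm (Fin n)) ((c : Perm (Fin n)) a))
          (e := (c : Perm (Fin n)) ((c : Perm (Fin n)) ((c : Perm (Fin n)) a)))
        omega
      simp only [Finset.mem_insert, Finset.mem_singleton, not_or] at hx
      refine hnf _ he ?_ x (hfix x hx.1 hx.2.1 hx.2.2.1 hx.2.2.2.1 hx.2.2.2.2)
      intro hcon
      exact hne (congrArg (fun f : alternatingGroup (Fin n) => (f : Perm (Fin n))) hcon)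
    · push Not at hex
      have hsix : c ^ 6 = 1 := by
        apply Subtype.ext
        ext x
        have h1 := hnf c hc hc1 x
        have h2 := hex x h1
        by_cases h3 : (c : Perm (Fin n)) ((c : Perm (Fin n)) x) = x
        · simp [pow_succ, h3]
        · have h4 := h2 h3
          simp [pow_succ, h4]
      have hdvd : p ^ k ∣ 6 := hk ▸ orderOf_dvd_of_pow_eq_one hsix
      have hk0 : k ≠ 0 := by
        rintro rfl
        rw [pow_zero, orderOf_eq_one_iff] at hk
        exact hc1 hk
      have hp6 : p ∣ 6 := (dvd_pow_self p hk0).trans hdvd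
      have hle := Nat.le_of_dvd (by norm_num) hp6
      have hk2 : k < 2 := by
        by_contra hcon
        push Not at hcon
        have h1 : p ^ 2 ∣ 6 := (pow_dvd_pow p hcon).trans hdvd
        have h2 := hp.out.two_le
        interval_cases p <;> omega
      have hk1 : k = 1 := by omega
      subst hk1
      rw [pow_one] at hk
      have hp23 : p = 2 ∨ p = 3 := by
        have h2 := hp.out.two_le
        have h3 := hp.out
        interval_cases p
        · left; rfl
        · right; rfl
        · omega
        · omega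
        · norm_num at h3
      rcases hp23 with rfl | rfl
      · apply hinv
        have := pow_orderOf_eq_one c
        rwa [hk, pow_two] at this
      · have hc3 : c ^ 3 = 1 := by rw [← hk]; exact pow_orderOf_eq_one c
        obtain ⟨a, ha⟩ := hmv
        obtain ⟨b, hb⟩ : ∃ b : Fin n, b ∉ ({a, (c : Perm (Fin n)) a,
            (c : Perm (Fin n)) ((c : Perm (Fin n)) a)} : Finset (Fin n)) := by
          by_contra hcon
          push Not at hcon
          have h4 := Finset.card_le_card (s := Finset.univ) (fun x _ => hcon x)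
          rw [Finset.card_univ, Fintype.card_fin] at h4
          have h5 := Finset.card_le_three (a := a) (b := (c : Perm (Fin n)) a)
            (c := (c : Perm (Fin n)) ((c : Perm (Fin n)) a))
          omega
        simp only [Finset.mem_insert, Finset.mem_singleton, not_or] at hb
        exact no_two_three h.toCSet hc hc3 ha (hnf c hc hc1 b) hb.1 hb.2.1 hb.2.2

end row

end Cfsg.Agent.H201.CommAlt
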