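import Cfsg.Agent.SylowG2.Coord
import Cfsg.Agent.H201.OddCent
import Cfsg.Agent.ClassificationK.GTwoModel

/-!
# Elements of odd order normalizing a 2-group of type `G_2(q)` (helper201, S3311)
-/

set_option autoImplicit false

namespace Cfsg.Agent.H201.GTwo

open Subgroup Cfsg.Agent.SylowG2.Coord Cfsg.Agent.H201.OddCent

variable {G : Type*} [Group G] {S : Subgroup G} {m : ℕ} {v : ZMod (2 ^ m) → ZMod (2 ^ m) → G} {r s : G}

/-- if the commutator of `x` and `t` commutes with `x` -/
theorem comm_of_comm {G : Type*} [Group G] {x t d : G} (hd : x * t * x⁻¹ = d * t) (hxd : x * d = d * x)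
    (ho : Odd (orderOf x)) (h2 : ∃ k : ℕ, d ^ 2 ^ k = 1) : x * t = t * x := by
  have hpow : ∀ m : ℕ, x ^ m * t * (x ^ m)⁻¹ = d ^ m * t := by
    intro m
    induction m with
    | zero => simp
    | succ m ih =>
      have hc : x * d ^ m = d ^ m * x := by
        have : Commute x d := hxd
        exact this.pow_right m
      calc x ^ (m + 1) * t * (x ^ (m + 1))⁻¹ = x * (x ^ m * t * (x ^ m)⁻¹) * x⁻¹ := by
            rw [pow_succ']; group
        _ = (x * d ^ m) * t * x⁻¹ := by rw [ih]; group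
        _ = d ^ m * (x * t * x⁻¹) := by rw [hc]; group
        _ = d ^ (m + 1) * t := by rw [hd, pow_succ]; group
  have h1 := hpow (orderOf x)
  rw [pow_orderOf_eq_one, one_mul, inv_one, mul_one] at h1
  have h3 : d ^ orderOf x = 1 := by
    have : 1 * t = d ^ orderOf x * t := by rw [one_mul]; exact h1
    exact (mul_right_cancel this).symm
  obtain ⟨k, hk⟩ := h2
  have h4 : orderOf d ∣ Nat.gcd (2 ^ k) (orderOf x) :=
    Nat.dvd_gcd (orderOf_dvd_of_pow_eq_one hk) (orderOf_dvd_of_pow_eq_one h3)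
  have h5 : Nat.gcd (2 ^ k) (orderOf x) = 1 := Nat.Coprime.pow_left k (Nat.coprime_two_left.2 ho)
  rw [h5, Nat.dvd_one, orderOf_eq_one_iff] at h4
  rw [h4, one_mul] at hd
  exact mul_inv_eq_iff_eq_mul.1 hd

theorem conj_v (h : TG2 S m v r s) {g : G} (hg : g ∈ S) (i j : ZMod (2 ^ m)) : ∃ k l, g * v i j * g⁻¹ = v k l := by
  obtain ⟨a, b, rfl | rfl | rfl | rfl⟩ := h.cases g hg
  · exact ⟨i, j, by rw [h.v_comm, mul_inv_cancel_right]⟩
  · refine ⟨j, i, ?_⟩
    rw [mul_assoc (v a b), h.r_v, ← mul_assoc, h.v_comm, mul_assoc (v j i), mul_inv_cancel_right]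
  · refine ⟨-i, -j, ?_⟩
    rw [mul_assoc (v a b), h.s_v, ← mul_assoc, h.v_comm, mul_assoc (v (-i) (-j)), mul_inv_cancel_right]
  · refine ⟨-j, -i, ?_⟩
    rw [mul_assoc (v a b), h.rs_v, ← mul_assoc, h.v_comm, mul_assoc (v (-j) (-i)), mul_inv_cancel_right]

theorem comm_mem (h : TG2 S m v r s) {x y : G} (hx : x ∈ S) (hy : y ∈ S) : ∃ k l, x * y * x⁻¹ * y⁻¹ = v k l := by
  have hB : ∀ g ∈ S, ∃ i j b, g = v i j * b ∧ (b = 1 ∨ b = r ∨ b = s ∨ b = r * s) := by
    intro g hg
    obtain ⟨a, b, h1 | h1 | h1 | h1⟩ := h.cases g hg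
    · exact ⟨a, b, 1, by rw [h1, mul_one], Or.inl rfl⟩
    · exact ⟨a, b, r, h1, Or.inr (Or.inl rfl)⟩
    · exact ⟨a, b, s, h1, Or.inr (Or.inr (Or.inl rfl))⟩
    · exact ⟨a, b, r * s, h1, Or.inr (Or.inr (Or.inr rfl))⟩
  have hBS : ∀ b, (b = 1 ∨ b = r ∨ b = s ∨ b = r * s) → b ∈ S := by
    rintro b (rfl | rfl | rfl | rfl)
    · exact S.one_mem
    · exact h.r_mem
    · exact h.s_mem
    · exact S.mul_mem h.r_mem h.s_mem
  have hBc : ∀ b c, (b = 1 ∨ b = r ∨ b = s ∨ b = r * s) → (c = 1 ∨ c = r ∨ c = s ∨ c = r * s) → b * c = c * b := by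
    have hrs := h.r_s
    have h1 : r * (r * s) = r * s * r := by rw [mul_assoc, hrs]
    have h2 : s * (r * s) = r * s * s := by rw [← mul_assoc, ← hrs]
    rintro b c (rfl | rfl | rfl | rfl) (rfl | rfl | rfl | rfl)
    · rfl
    · rw [mul_one, one_mul]
    · rw [mul_one, one_mul]
    · rw [mul_one, one_mul]
    · rw [mul_one, one_mul]
    · rfl
    · exact hrs
    · exact h1
    · rw [mul_one, one_mul]
    · exact hrs.symm
    · rfl
    · exact h2
    · rw [mul_one, one_mul]
    · exact h1.symm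
    · exact h2.symm
    · rfl
  obtain ⟨i, j, b, rfl, hb⟩ := hB x hx
  obtain ⟨i', j', c, rfl, hc⟩ := hB y hy
  obtain ⟨k1, l1, e1⟩ := conj_v h (hBS b hb) i' j'
  obtain ⟨k2, l2, e2⟩ := conj_v h (hBS c hc) (-i) (-j)
  refine ⟨i + k1 + k2 - i', j + l1 + l2 - j', ?_⟩
  have hbc : b * c * b⁻¹ = c := by rw [hBc b c hb hc, mul_inv_cancel_right]
  calc v i j * b * (v i' j' * c) * (v i j * b)⁻¹ * (v i' j' * c)⁻¹
      = v i j * (b * v i' j' * b⁻¹) * (b * c * b⁻¹) * (v i j)⁻¹ * c⁻¹ * (v i' j')⁻¹ := by group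
    _ = v i j * v k1 l1 * (c * v (-i) (-j) * c⁻¹) * (v i' j')⁻¹ := by rw [e1, hbc, h.v_inv i j]; group
    _ = v (i + k1 + k2 - i') (j + l1 + l2 - j') := by
      rw [e2, h.v_inv, h.v_mul, h.v_mul, h.v_mul, sub_eq_add_neg, sub_eq_add_neg]

/-- elements of odd order normalizing `S` centralize `S` -/
theorem oc_of_TG2 [Finite G] (hS : IsPGroup 2 S) (h : TG2 S m v r s) : OC S := by
  intro g hg ho
  have hmap : S.map (MulAut.conj g).toMonoidHom = S := by
    apply Subgroup.eq_of_le_of_card_ge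
    · rintro _ ⟨y, hy, rfl⟩
      exact hg y hy
    · rw [Subgroup.card_map_of_injective (MulAut.conj g).injective]
  have hgi : ∀ t ∈ S, ∃ t' ∈ S, t = g * t' * g⁻¹ := by
    intro t ht
    obtain ⟨t', ht', h⟩ := hmap.ge ht
    exact ⟨t', ht', h.symm⟩
  have h2 : (2 : ZMod (2 ^ m)) ≠ 0 := two_ne_zero' h.hm
  -- elements commuting with `v 1 (-1)` and `v 2 0`
  have hcen : ∀ y ∈ S, y * v 1 (-1) = v 1 (-1) * y → y * v 2 0 = v 2 0 * y → ∃ i j, y = v i j := by
    intro y hy h3 h4
    obtain ⟨i, j, rfl | rfl | rfl | rfl⟩ := h.cases y hy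
    · exact ⟨i, j, rfl⟩
    · exfalso
      have := h.comm_vr h3
      apply h2
      linear_combination this
    · exfalso
      have := (h.comm_vs h3).1
      apply h2
      linear_combination this
    · exfalso
      have := h.comm_vrs h4
      apply h2
      linear_combination this
  -- commutators
  have hc1 : ∃ x ∈ S, ∃ y ∈ S, v 1 (-1) = x * y * x⁻¹ * y⁻¹ := by
    refine ⟨r, h.r_mem, v 0 1, h.v_mem _ _, ?_⟩
    rw [h.r_v, mul_inv_cancel_right, h.v_inv, h.v_mul]
    exact h.v_congr (by ring) (by ring)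
  have hc2 : ∃ x ∈ S, ∃ y ∈ S, v 2 0 = x * y * x⁻¹ * y⁻¹ := by
    refine ⟨s, h.s_mem, v (-1) 0, h.v_mem _ _, ?_⟩
    rw [h.s_v, mul_inv_cancel_right, h.v_inv, h.v_mul]
    exact h.v_congr (by ring) (by ring)
  -- `g` normalizes `A`
  have hcomm : ∀ i j, ∀ w : G, (∃ x ∈ S, ∃ y ∈ S, w = x * y * x⁻¹ * y⁻¹) → (g * v i j * g⁻¹) * w = w * (g * v i j * g⁻¹) := by
    rintro i j w ⟨x, hx, y, hy, rfl⟩
    obtain ⟨x', hx', rfl⟩ := hgi x hx
    obtain ⟨y', hy', rfl⟩ := hgi y hy
    obtain ⟨k, l, hkl⟩ := comm_mem h hx' hy'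
    have e : g * x' * g⁻¹ * (g * y' * g⁻¹) * (g * x' * g⁻¹)⁻¹ * (g * y' * g⁻¹)⁻¹ = g * (x' * y' * x'⁻¹ * y'⁻¹) * g⁻¹ := by group
    rw [e, hkl]
    calc g * v i j * g⁻¹ * (g * v k l * g⁻¹) = g * (v i j * v k l) * g⁻¹ := by group
      _ = g * (v k l * v i j) * g⁻¹ := by rw [h.v_comm]
      _ = _ := by group
  have hA : ∀ i j, ∃ k l, g * v i j * g⁻¹ = v k l := fun i j =>
    hcen _ (hg _ (h.v_mem i j)) (hcomm i j _ hc1) (hcomm i j _ hc2)
  -- the centre
  have hz : g * v (half m) (half m) * g⁻¹ = v (half m) (half m) := by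
    obtain ⟨k, l, hkl⟩ := hA (half m) (half m)
    have hcc : ∀ t ∈ S, (g * v (half m) (half m) * g⁻¹) * t = t * (g * v (half m) (half m) * g⁻¹) := by
      intro t ht
      obtain ⟨t', ht', rfl⟩ := hgi t ht
      calc g * v (half m) (half m) * g⁻¹ * (g * t' * g⁻¹) = g * (v (half m) (half m) * t') * g⁻¹ := by group
        _ = g * (t' * v (half m) (half m)) * g⁻¹ := by rw [h.t_central ht']
        _ = _ := by group
    have hsq : v k l * v k l = 1 := by
      rw [← hkl]
      calc g * v (half m) (half m) * g⁻¹ * (g * v (half m) (half m) * g⁻¹) =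
          g * (v (half m) (half m) * v (half m) (half m)) * g⁻¹ := by group
        _ = 1 := by rw [h.t_sq]; group
    have hr : k = l := by
      have h5 := hcc r h.r_mem
      rw [hkl, h.r_v] at h5
      exact (h.v_eq (mul_right_cancel h5)).1
    have hne : v k l ≠ 1 := by
      intro h6
      apply h.t_ne_one
      calc v (half m) (half m) = g⁻¹ * (g * v (half m) (half m) * g⁻¹) * g := by group
        _ = 1 := by rw [hkl, h6]; group
    subst hr
    rcases (h.v_sq_one hsq).1 with h5 | h5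
    · exfalso
      apply hne
      rw [h5, h.v_zero]
    · rw [hkl, h5]
  have hz' : g * v (half m) (half m) = v (half m) (half m) * g := mul_inv_eq_iff_eq_mul.1 hz
  have hhh := half_add_half h.m_pos
  have hh0 := half_ne_zero h.m_pos
  -- the element `v (half m) 0`
  have hv1 : g * v (half m) 0 = v (half m) 0 * g := by
    obtain ⟨k, l, hkl⟩ := hA (half m) 0
    have hsq : v k l * v k l = 1 := by
      rw [← hkl]
      calc g * v (half m) 0 * g⁻¹ * (g * v (half m) 0 * g⁻¹) =
          g * (v (half m) 0 * v (half m) 0) * g⁻¹ := by group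
        _ = 1 := by rw [h.v_mul, hhh, add_zero, h.v_zero]; group
    have hswap : g * v 0 (half m) * g⁻¹ = v (half m + k) (half m + l) := by
      have : v 0 (half m) = v (half m) (half m) * v (half m) 0 := by
        rw [h.v_mul]
        exact h.v_congr (by rw [hhh]) (by rw [add_zero])
      rw [this, ← h.v_mul, ← hkl]
      calc g * (v (half m) (half m) * v (half m) 0) * g⁻¹ = (g * v (half m) (half m) * g⁻¹) * (g * v (half m) 0 * g⁻¹) := by
            group
        _ = _ := by rw [hz]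
    obtain ⟨hk, hl⟩ := h.v_sq_one hsq
    rcases hk with rfl | rfl <;> rcases hl with rfl | rfl
    · exfalso
      have h6 : v (half m) 0 = 1 := by
        calc v (half m) 0 = g⁻¹ * (g * v (half m) 0 * g⁻¹) * g := by group
          _ = 1 := by rw [hkl, h.v_zero]; group
      exact hh0 (h.v_inj _ _ h6).1
    · -- interchanged
      rw [add_zero, hhh] at hswap
      have h7 : (g * g) * v (half m) 0 = v (half m) 0 * (g * g) := by
        have : (g * g) * v (half m) 0 * (g * g)⁻¹ = g * (g * v (half m) 0 * g⁻¹) * g⁻¹ := by group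
        rw [hkl, hswap] at this
        exact mul_inv_eq_iff_eq_mul.1 this
      obtain ⟨k, hk⟩ := ho
      have h3 : Commute (g * g) (v (half m) 0) := h7
      have h4 : Commute ((g * g) ^ (k + 1)) (v (half m) 0) := h3.pow_left _
      have h5 : (g * g) ^ (k + 1) = g := by
        rw [← pow_two, ← pow_mul, show 2 * (k + 1) = (2 * k + 1) + 1 by ring, pow_succ, ← hk, pow_orderOf_eq_one, one_mul]
      rw [h5] at h4
      exact h4
    · exact mul_inv_eq_iff_eq_mul.1 hkl
    · exfalso
      have h6 : g * v (half m) 0 * g⁻¹ = g * v (half m) (half m) * g⁻¹ := by rw [hkl, hz]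
      have h7 := mul_left_cancel (mul_right_cancel h6)
      exact hh0 (h.v_eq h7).2.symm
  have hom : ∀ i j, v i j * v i j = 1 → g * v i j = v i j * g := by
    intro i j hsq
    have hv2 : g * v 0 (half m) = v 0 (half m) * g := by
      have : v 0 (half m) = v (half m) (half m) * v (half m) 0 := by
        rw [h.v_mul]
        exact h.v_congr (by rw [hhh]) (by rw [add_zero])
      rw [this, ← mul_assoc, hz', mul_assoc, hv1, mul_assoc]
    obtain ⟨hk, hl⟩ := h.v_sq_one hsq
    rcases hk with rfl | rfl <;> rcases hl with rfl | rfl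
    · rw [h.v_zero, mul_one, one_mul]
    · exact hv2
    · exact hv1
    · exact hz'
  have hpS : ∀ t ∈ S, ∃ k : ℕ, t ^ 2 ^ k = 1 := by
    intro t ht
    obtain ⟨k, hk⟩ := hS ⟨t, ht⟩
    exact ⟨k, congrArg Subtype.val hk⟩
  -- `g` centralizes `A`
  have hcA : ∀ k : ℕ, ∀ i j, (v i j) ^ 2 ^ k = 1 → g * v i j = v i j * g := by
    intro k
    induction k with
    | zero =>
      intro i j h3
      rw [pow_zero, pow_one] at h3
      rw [h3, mul_one, one_mul]
    | succ k ih =>
      intro i j h3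
      have h4 : (v i j * v i j) ^ 2 ^ k = 1 := by
        rw [← pow_two, ← pow_mul, ← pow_succ']
        exact h3
      rw [h.v_mul] at h4
      have h5 := ih _ _ h4
      rw [← h.v_mul] at h5
      obtain ⟨a, b, hab⟩ := hA i j
      have hd : v (a - i) (b - j) * v (a - i) (b - j) = 1 := by
        have h6 : v a b * v a b = v i j * v i j := by
          rw [← hab]
          calc g * v i j * g⁻¹ * (g * v i j * g⁻¹) = (g * (v i j * v i j)) * g⁻¹ := by group
            _ = v i j * v i j := by rw [h5]; group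
        rw [h.v_mul, h.v_mul] at h6
        obtain ⟨h7, h8⟩ := h.v_eq h6
        rw [h.v_mul, ← h.v_zero]
        exact h.v_congr (by linear_combination h7) (by linear_combination h8)
      refine comm_of_comm (d := v (a - i) (b - j)) ?_ (hom _ _ hd) ho ⟨1, by rw [pow_one, pow_two, hd]⟩
      rw [hab, h.v_mul]
      exact h.v_congr (by ring) (by ring)
  have hcA' : ∀ i j, g * v i j = v i j * g := by
    intro i j
    obtain ⟨k, hk⟩ := hpS _ (h.v_mem i j)
    exact hcA k i j hk
  -- `g` centralizes `S`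
  intro t ht
  have h3 : ∀ i j, (g * t * g⁻¹ * t⁻¹) * v i j = v i j * (g * t * g⁻¹ * t⁻¹) := by
    intro i j
    obtain ⟨k, l, hkl⟩ := conj_v h (S.inv_mem ht) i j
    rw [inv_inv] at hkl
    have h4 : t⁻¹ * v i j = v k l * t⁻¹ := by rw [← hkl]; group
    have h5 : v i j * t = t * v k l := by rw [← hkl]; group
    calc g * t * g⁻¹ * t⁻¹ * v i j = g * t * g⁻¹ * (t⁻¹ * v i j) := by group
      _ = g * t * (g⁻¹ * v k l) * t⁻¹ := by rw [h4]; group
      _ = g * t * (v k l * g⁻¹) * t⁻¹ := by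
        have : g⁻¹ * v k l = v k l * g⁻¹ := by
          rw [inv_mul_eq_iff_eq_mul, ← mul_assoc, hcA', mul_inv_cancel_right]
        rw [this]
      _ = g * (t * v k l) * g⁻¹ * t⁻¹ := by group
      _ = (g * v i j) * t * g⁻¹ * t⁻¹ := by rw [← h5]; group
      _ = _ := by rw [hcA']; group
  obtain ⟨i, j, hij⟩ := hcen _ (S.mul_mem (hg t ht) (S.inv_mem ht)) (h3 _ _) (h3 _ _)
  refine comm_of_comm (d := v i j) ?_ (hcA' i j) ho (hpS _ (h.v_mem i j))
  rw [← hij, inv_mul_cancel_right]

open Cfsg.Agent.ClassificationK.GTwoModel in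
/-- coordinates from the model -/
theorem exists_TG2 (hm : 2 ≤ m) (e : T (2 ^ m) ≃* S) : ∃ v r s, TG2 S m v r s := by
  have hval : ∀ x y : T (2 ^ m), ((e (x * y) : S) : G) = (e x : G) * (e y : G) := by
    intro x y
    rw [map_mul]; rfl
  refine ⟨fun i j => (e ⟨i, j, false, false⟩ : G), (e ⟨0, 0, false, true⟩ : G), (e ⟨0, 0, true, false⟩ : G), ?_⟩
  exact
    { hm := hm
      v_mem := fun _ _ => (e _).2
      r_mem := (e _).2
      s_mem := (e _).2
      v_zero := by
        have : (⟨0, 0, false, false⟩ : T (2 ^ m)) = 1 := rfl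
        rw [this, map_one]; rfl
      v_mul := by
        intro i j k l
        rw [← hval, T.mul_mk]
        simp
      v_inj := by
        intro i j h
        have h1 : e (⟨i, j, false, false⟩ : T (2 ^ m)) = 1 := Subtype.ext h
        rw [← map_one e] at h1
        have h2 := e.injective h1
        rw [T.one_def, T.mk.injEq] at h2
        exact ⟨h2.1, h2.2.1⟩
      r_v := by
        intro i j
        rw [← hval, ← hval, T.mul_mk, T.mul_mk]
        simp
      s_v := by
        intro i j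
        rw [← hval, ← hval, T.mul_mk, T.mul_mk]
        simp
      r_r := by
        rw [← hval, T.mul_mk]
        have : (⟨0 + sg (2 ^ m) false * (cond true 0 0), 0 + sg (2 ^ m) false * (cond true 0 0), xor false false,
          xor true true⟩ : T (2 ^ m)) = 1 := by simp [T.one_def]
        rw [this, map_one]; rfl
      s_s := by
        rw [← hval, T.mul_mk]
        have : (⟨0 + sg (2 ^ m) true * (cond false 0 0), 0 + sg (2 ^ m) true * (cond false 0 0), xor true true,
          xor false false⟩ : T (2 ^ m)) = 1 := by simp [T.one_def]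
        rw [this, map_one]; rfl
      r_s := by
        rw [← hval, ← hval, T.mul_mk, T.mul_mk]
        simp
      cases := by
        intro g hg
        obtain ⟨⟨i, j, a, b⟩, hx⟩ := e.surjective ⟨g, hg⟩
        have hx' : g = (e ⟨i, j, a, b⟩ : G) := by rw [hx]
        refine ⟨i, j, ?_⟩
        rw [hx', ← hval, ← hval, ← hval, ← hval, T.mul_mk, T.mul_mk, T.mul_mk, T.mul_mk]
        cases a <;> cases b
        · exact Or.inl rfl
        · exact Or.inr (Or.inl (by simp))
        · exact Or.inr (Or.inr (Or.inl (by simp)))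
        · exact Or.inr (Or.inr (Or.inr (by simp))) }

end Cfsg.Agent.H201.GTwo
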