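import Mathlib

/-!
# Eigenvalues of matrices over an algebraic closure (helper201)

`sp φ A` : the spectrum of the matrix `A` over `F`, seen over an algebraically closed field `K` by `φ : F →+* K`.
-/

set_option autoImplicit false

namespace Cfsg.Agent.H201.MatSpec

open Matrix Polynomial

variable {F K : Type*} [Field F] [Field K] (φ : F →+* K)
variable {m n : Type*} [Fintype m] [DecidableEq m] [Fintype n] [DecidableEq n]

/-- the eigenvalues of `A` in `K` -/
def sp (A : Matrix n n F) : Set K := spectrum K (A.map φ)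

variable {φ}

theorem mem_sp_iff_det {A : Matrix n n F} {z : K} : z ∈ sp φ A ↔ (z • (1 : Matrix n n K) - A.map φ).det = 0 := by
  unfold sp
  rw [spectrum.mem_iff, Algebra.algebraMap_eq_smul_one, Matrix.isUnit_iff_isUnit_det, isUnit_iff_ne_zero, not_not]

theorem mem_sp_iff {A : Matrix n n F} {z : K} : z ∈ sp φ A ↔ A.charpoly.eval₂ φ z = 0 := by
  unfold sp
  rw [Matrix.mem_spectrum_iff_isRoot_charpoly, Matrix.charpoly_map, IsRoot.def, eval_map]

theorem sp_finite (A : Matrix n n F) : (sp φ A).Finite := Matrix.finite_spectrum _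

theorem sp_ncard_le (A : Matrix n n F) : (sp φ A).ncard ≤ Fintype.card n := by
  classical
  have h1 : sp φ A ⊆ ((A.map φ).charpoly.roots.toFinset : Set K) := by
    intro z hz
    have h2 := Matrix.mem_spectrum_iff_isRoot_charpoly.1 hz
    rw [Finset.mem_coe, Multiset.mem_toFinset, mem_roots ((A.map φ).charpoly_monic.ne_zero)]
    exact h2
  calc (sp φ A).ncard ≤ ((A.map φ).charpoly.roots.toFinset : Set K).ncard :=
        Set.ncard_le_ncard h1 (Finset.finite_toSet _)
    _ = (A.map φ).charpoly.roots.toFinset.card := Set.ncard_coe_finset _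
    _ ≤ Multiset.card (A.map φ).charpoly.roots := Multiset.toFinset_card_le _
    _ ≤ (A.map φ).charpoly.natDegree := card_roots' _
    _ = Fintype.card n := Matrix.charpoly_natDegree_eq_dim _

theorem sp_one : sp φ (1 : Matrix n n F) ⊆ {1} := by
  intro z hz
  have h0 : z • (1 : Matrix n n K) - 1 = (z - 1) • (1 : Matrix n n K) := by rw [sub_smul, one_smul]
  rw [mem_sp_iff_det, Matrix.map_one _ (map_zero φ) (map_one φ), h0, Matrix.det_smul, Matrix.det_one,
    mul_one] at hz
  rw [Set.mem_singleton_iff]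
  by_contra hne
  exact pow_ne_zero _ (sub_ne_zero.2 hne) hz

theorem map_pow (A : Matrix n n F) (j : ℕ) : (A ^ j).map φ = (A.map φ) ^ j := by
  have := _root_.map_pow φ.mapMatrix A j
  exact this

theorem sp_pow [IsAlgClosed K] (A : Matrix n n F) {j : ℕ} (hj : 0 < j) :
    sp φ (A ^ j) = (fun z => z ^ j) '' sp φ A := by
  unfold sp
  rw [map_pow]
  exact spectrum.map_pow_of_pos _ hj

theorem sp_fromBlocks (A : Matrix m m F) (B : Matrix n n F) :
    sp φ (fromBlocks A 0 0 B) = sp φ A ∪ sp φ B := by
  ext z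
  rw [Set.mem_union, mem_sp_iff, mem_sp_iff, mem_sp_iff, Matrix.charpoly_fromBlocks_zero₁₂, eval₂_mul, mul_eq_zero]

theorem sp_conj {P : Matrix m n F} {P' : Matrix n m F} (h1 : P * P' = 1) (h2 : P' * P = 1) (A : Matrix n n F) :
    sp φ (P * A * P') = sp φ A := by
  ext z
  rw [mem_sp_iff_det, mem_sp_iff_det]
  have e1 : P.map φ * P'.map φ = 1 := by
    rw [← Matrix.map_mul, h1, Matrix.map_one _ (map_zero φ) (map_one φ)]
  have e2 : P'.map φ * P.map φ = 1 := by
    rw [← Matrix.map_mul, h2, Matrix.map_one _ (map_zero φ) (map_one φ)]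
  have e3 : z • (1 : Matrix m m K) - (P * A * P').map φ =
      P.map φ * (z • (1 : Matrix n n K) - A.map φ) * P'.map φ := by
    rw [Matrix.mul_sub, Matrix.sub_mul, Matrix.map_mul, Matrix.map_mul, Matrix.mul_smul, Matrix.mul_one,
      Matrix.smul_mul, e1]
  rw [e3, Matrix.det_conj_of_mul_eq_one e1 e2]

theorem sp_transpose (A : Matrix n n F) : sp φ Aᵀ = sp φ A := by
  ext z
  rw [mem_sp_iff, mem_sp_iff, Matrix.charpoly_transpose]

/-- similar matrices -/
theorem sp_similar {A B P P' : Matrix n n F} (h1 : P * P' = 1) (h : P * A = B * P) : sp φ A = sp φ B := by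
  have h2 : P' * P = 1 := mul_eq_one_comm.1 h1
  rw [← sp_conj h1 h2 A, h, Matrix.mul_assoc, h1, Matrix.mul_one]

theorem sp_inv {A B : Matrix n n F} (h : A * B = 1) {z : K} (hz : z ∈ sp φ A) : z ≠ 0 ∧ z⁻¹ ∈ sp φ B := by
  have h' : B * A = 1 := mul_eq_one_comm.1 h
  have e1 : A.map φ * B.map φ = 1 := by
    rw [← Matrix.map_mul, h, Matrix.map_one _ (map_zero φ) (map_one φ)]
  have hz0 : z ≠ 0 := by
    rintro rfl
    rw [mem_sp_iff_det, zero_smul, zero_sub] at hz
    have h2 : (-(A.map φ) * -(B.map φ)).det = 1 := by rw [neg_mul_neg, e1, Matrix.det_one]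
    rw [Matrix.det_mul, hz, zero_mul] at h2
    exact zero_ne_one h2
  refine ⟨hz0, ?_⟩
  rw [mem_sp_iff_det] at hz ⊢
  have e2 : (z • (1 : Matrix n n K) - A.map φ) * ((-z⁻¹) • B.map φ) = z⁻¹ • (1 : Matrix n n K) - B.map φ := by
    rw [Matrix.sub_mul, Matrix.smul_mul, Matrix.one_mul, Matrix.mul_smul, e1, smul_smul, mul_neg,
      mul_inv_cancel₀ hz0, neg_one_smul, neg_smul, sub_neg_eq_add, add_comm, sub_eq_add_neg]
  rw [← e2, Matrix.det_mul, hz, zero_mul]

/-- the Frobenius automorphism -/
theorem sp_frob [Fintype F] (A : Matrix n n F) {z : K} (hz : z ∈ sp φ A) : z ^ Fintype.card F ∈ sp φ A := by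
  rw [mem_sp_iff] at hz ⊢
  have h1 := FiniteField.expand_card (K := F) A.charpoly
  have h2 := congrArg (Polynomial.eval₂ φ z) h1
  rw [Polynomial.expand_eq_comp_X_pow, eval₂_comp, eval₂_pow, eval₂_pow, eval₂_X, hz,
    zero_pow Fintype.card_ne_zero] at h2
  exact h2

/-- a power of the Frobenius endomorphism -/
theorem sp_map {p k : ℕ} [Fact p.Prime] [CharP F p] [CharP K p] (σ : F →+* F) (hσ : ∀ x, σ x = x ^ p ^ k)
    (A : Matrix n n F) {z : K} (hz : z ∈ sp φ A) : z ^ p ^ k ∈ sp φ (A.map σ) := by
  rw [mem_sp_iff] at hz ⊢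
  rw [Matrix.charpoly_map, eval₂_map]
  have h1 : φ.comp σ = (iterateFrobenius K p k).comp φ := by
    ext x
    rw [RingHom.comp_apply, RingHom.comp_apply, hσ, _root_.map_pow, iterateFrobenius_def]
  have h2 : z ^ p ^ k = iterateFrobenius K p k z := by rw [iterateFrobenius_def]
  rw [h1, h2, ← Polynomial.hom_eval₂, hz, map_zero]

/-- **Sylvester** -/
theorem sylvester [IsAlgClosed K] {A : Matrix m m F} {B : Matrix n n F} {X : Matrix m n F} (h : A * X = X * B)
    (hd : Disjoint (sp φ A) (sp φ B)) : X = 0 := by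
  rcases isEmpty_or_nonempty n with hn | hn
  · ext i j
    exact hn.elim j
  · set A' := A.map φ with hA'
    set B' := B.map φ with hB'
    set X' := X.map φ with hX'
    have h1 : A' * X' = X' * B' := by
      rw [hA', hB', hX', ← Matrix.map_mul, ← Matrix.map_mul, h]
    have h2 : ∀ p : K[X], aeval A' p * X' = X' * aeval B' p := by
      intro p
      induction p using Polynomial.induction_on' with
      | add p q hp hq => rw [map_add, map_add, Matrix.add_mul, Matrix.mul_add, hp, hq]
      | monomial k a =>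
        rw [aeval_monomial, aeval_monomial, Algebra.algebraMap_eq_smul_one, Algebra.algebraMap_eq_smul_one,
          smul_mul_assoc, smul_mul_assoc, one_mul, one_mul, Matrix.smul_mul, Matrix.mul_smul]
        congr 1
        induction k with
        | zero => rw [pow_zero, pow_zero, Matrix.one_mul, Matrix.mul_one]
        | succ k ih => rw [pow_succ, Matrix.mul_assoc, h1, ← Matrix.mul_assoc, ih, Matrix.mul_assoc, ← pow_succ]
    have h3 := h2 B'.charpoly
    rw [Matrix.aeval_self_charpoly, Matrix.mul_zero] at h3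
    have h4 : IsUnit (aeval A' B'.charpoly) := by
      by_contra hu
      rw [← spectrum.zero_mem_iff K, spectrum.map_polynomial_aeval_of_degree_pos] at hu
      · obtain ⟨z, hz, hz0⟩ := hu
        have hz0' : B'.charpoly.IsRoot z := hz0
        rw [← Matrix.mem_spectrum_iff_isRoot_charpoly] at hz0'
        exact Set.disjoint_left.1 hd hz hz0'
      · rw [Matrix.charpoly_degree_eq_dim]
        exact_mod_cast Fintype.card_pos
    obtain ⟨U, hU⟩ := h4
    have h5 : X' = 0 := by
      have h6 : (↑U⁻¹ : Matrix m m K) * (aeval A' B'.charpoly * X') = 0 := by rw [h3, Matrix.mul_zero]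
      rw [← Matrix.mul_assoc, ← hU, Units.inv_mul, Matrix.one_mul] at h6
      exact h6
    have h7 : X.map φ = (0 : Matrix m n F).map φ := by
      rw [Matrix.map_zero _ (map_zero φ)]
      exact h5
    exact Matrix.map_injective φ.injective h7

/-- `p'`-elements different from `1` have an eigenvalue different from `1`. -/
theorem exists_ne_one [IsAlgClosed K] {p : ℕ} [Fact p.Prime] [CharP F p] {t : ℕ} (ht : t.Prime) (htp : t ≠ p)
    (A : Matrix n n F) (hA : A ^ t = 1) (hA1 : A ≠ 1) : ∃ z ∈ sp φ A, z ≠ 1 := by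
  by_contra hcon
  push Not at hcon
  have hpK : CharP K p := charP_of_injective_ringHom φ.injective p
  set A' := A.map φ with hA'
  have h1 : A'.charpoly = (X - C (1 : K)) ^ Fintype.card n := by
    have hs := (IsAlgClosed.splits A'.charpoly).eq_prod_roots_of_monic A'.charpoly_monic
    have hr : A'.charpoly.roots = Multiset.replicate (Multiset.card A'.charpoly.roots) 1 := by
      rw [Multiset.eq_replicate]
      refine ⟨rfl, fun z hz => ?_⟩
      rw [mem_roots A'.charpoly_monic.ne_zero] at hz
      exact hcon z (Matrix.mem_spectrum_iff_isRoot_charpoly.2 hz)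
    have hc : Multiset.card A'.charpoly.roots = Fintype.card n := by
      rw [← (IsAlgClosed.splits A'.charpoly).natDegree_eq_card_roots, Matrix.charpoly_natDegree_eq_dim]
    rw [hs, hr, Multiset.map_replicate, Multiset.prod_replicate, hc]
  have h2 : (A' - 1) ^ Fintype.card n = 0 := by
    have := Matrix.aeval_self_charpoly A'
    rw [h1, _root_.map_pow, map_sub, aeval_X, aeval_C, map_one] at this
    exact this
  rcases isEmpty_or_nonempty n with hn | hn
  · exact hA1 (Matrix.ext fun i => hn.elim i)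
  have h3 : (A' - 1) ^ p ^ Fintype.card n = 0 := by
    have hle : Fintype.card n ≤ p ^ Fintype.card n := (Nat.lt_pow_self (Fact.out : p.Prime).one_lt).le
    rw [← Nat.add_sub_cancel' hle, pow_add, h2, zero_mul]
  have hchar : CharP (Matrix n n K) p := by infer_instance
  rw [sub_pow_char_pow_of_commute p _ (Commute.one_right A'), one_pow, sub_eq_zero] at h3
  have h4 : A ^ p ^ Fintype.card n = 1 := by
    have h5 : (A ^ p ^ Fintype.card n).map φ = (1 : Matrix n n F).map φ := by
      rw [map_pow, Matrix.map_one _ (map_zero φ) (map_one φ)]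
      exact h3
    exact Matrix.map_injective φ.injective h5
  have h5 : orderOf A ∣ Nat.gcd t (p ^ Fintype.card n) :=
    Nat.dvd_gcd (orderOf_dvd_of_pow_eq_one hA) (orderOf_dvd_of_pow_eq_one h4)
  have h6 : Nat.gcd t (p ^ Fintype.card n) = 1 :=
    Nat.Coprime.pow_right _ ((Nat.coprime_primes ht Fact.out).2 htp)
  rw [h6, Nat.dvd_one, orderOf_eq_one_iff] at h5
  exact hA1 h5

/-- Matrices commuting with a matrix with distinct eigenvalues commute. -/
theorem comm_of_ncard {A U V : Matrix n n F} (hA : (sp φ A).ncard = Fintype.card n) (hU : A * U = U * A)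
    (hV : A * V = V * A) : U * V = V * U := by
  set A' := A.map φ with hA'
  have hmem : ∀ z ∈ sp φ A, ∃ w : n → K, w ≠ 0 ∧ A' *ᵥ w = z • w := by
    intro z hz
    rw [mem_sp_iff_det] at hz
    obtain ⟨w, hw, hw0⟩ := Matrix.exists_mulVec_eq_zero_iff.2 hz
    refine ⟨w, hw, ?_⟩
    rw [Matrix.sub_mulVec, Matrix.smul_mulVec, Matrix.one_mulVec, sub_eq_zero] at hw0
    exact hw0.symm
  choose! b hb0 hb using hmem
  have hfin : Finite (sp φ A) := sp_finite A
  have hft : Fintype (sp φ A) := Fintype.ofFinite _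
  set b' : sp φ A → (n → K) := fun z => b z with hb'
  have hli : LinearIndependent K b' := by
    refine Module.End.eigenvectors_linearIndependent' (Matrix.toLin' A') (fun z : sp φ A => (z : K))
      Subtype.val_injective b' (fun z => ?_)
    rw [Module.End.hasEigenvector_iff, Module.End.mem_eigenspace_iff, Matrix.toLin'_apply]
    exact ⟨hb z z.2, hb0 z z.2⟩
  have hcard : Fintype.card (sp φ A) = Module.finrank K (n → K) := by
    rw [Module.finrank_fintype_fun_eq_card, ← hA, ← Nat.card_eq_fintype_card, Nat.card_coe_set_eq]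
  have hspan : Submodule.span K (Set.range b') = ⊤ := hli.span_eq_top_of_card_eq_finrank' hcard
  -- eigenspaces are one-dimensional
  have key : ∀ z ∈ sp φ A, ∀ w : n → K, A' *ᵥ w = z • w → ∃ c : K, w = c • b z := by
    intro z hz w hw
    have hw1 : w ∈ Submodule.span K (Set.range b') := hspan ▸ Submodule.mem_top
    obtain ⟨f, hf⟩ := (Submodule.mem_span_range_iff_exists_fun K).1 hw1
    have h1 : ∑ i, (f i * ((i : K) - z)) • b' i = 0 := by
      have h2 : A' *ᵥ w = ∑ i, (f i * (i : K)) • b' i := by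
        rw [← hf, Matrix.mulVec_sum]
        refine Finset.sum_congr rfl fun i _ => ?_
        rw [Matrix.mulVec_smul, hb i i.2, smul_smul]
      rw [hw, ← hf, Finset.smul_sum] at h2
      simp only [mul_sub, sub_smul, Finset.sum_sub_distrib]
      rw [← h2, sub_eq_zero]
      refine Finset.sum_congr rfl fun i _ => ?_
      rw [smul_smul, mul_comm]
    have h3 := Fintype.linearIndependent_iff.1 hli _ h1
    refine ⟨f ⟨z, hz⟩, ?_⟩
    rw [← hf, Finset.sum_eq_single ⟨z, hz⟩]
    · intro i _ hi
      have h4 := h3 i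
      rw [mul_eq_zero] at h4
      rcases h4 with h4 | h4
      · rw [h4, zero_smul]
      · exact absurd (Subtype.ext (sub_eq_zero.1 h4)) hi
    · intro h
      exact absurd (Finset.mem_univ _) h
  have hX : ∀ W : Matrix n n F, A * W = W * A → ∀ z ∈ sp φ A, ∃ c : K, W.map φ *ᵥ b z = c • b z := by
    intro W hW z hz
    refine key z hz _ ?_
    have h1 : A' * W.map φ = W.map φ * A' := by rw [hA', ← Matrix.map_mul, hW, Matrix.map_mul]
    rw [Matrix.mulVec_mulVec, h1, ← Matrix.mulVec_mulVec, hb z hz, Matrix.mulVec_smul]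
  have h2 : (U * V).map φ = (V * U).map φ := by
    apply Matrix.toLin'.injective
    refine LinearMap.ext_on_range (v := b') hspan (fun i => ?_)
    obtain ⟨c, hc⟩ := hX U hU i i.2
    obtain ⟨d, hd⟩ := hX V hV i i.2
    rw [Matrix.toLin'_apply, Matrix.toLin'_apply, Matrix.map_mul, Matrix.map_mul, ← Matrix.mulVec_mulVec,
      ← Matrix.mulVec_mulVec]
    show U.map φ *ᵥ (V.map φ *ᵥ b i) = V.map φ *ᵥ (U.map φ *ᵥ b i)
    rw [hc, hd, Matrix.mulVec_smul, Matrix.mulVec_smul, hc, hd, smul_smul, smul_smul, mul_comm]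
  exact Matrix.map_injective φ.injective h2

end Cfsg.Agent.H201.MatSpec
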