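import Cfsg.Agent.H201.MatSpec
import Cfsg.Agent.H201.BlockSys

/-!
# Systems of matrix groups (helper201)

A family `X : Fm F` of matrix groups `X.G c ≤ GL (X.ι c) F` (isometry groups) gives a `Sys r`:
`X.Dec a b c` : after a change of basis `X.G a × X.G b` is the group of block diagonal matrices in `X.G c`.
-/

set_option autoImplicit false

namespace Cfsg.Agent.H201.MatSys

open Matrix BlockSys MatSpec

/-- base change -/
structure BC (m n F : Type) [Field F] [Fintype m] [Fintype n] [DecidableEq m] [DecidableEq n] where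
  P : Matrix m n F
  P' : Matrix n m F
  h1 : P * P' = 1
  h2 : P' * P = 1

section
variable {F : Type} [Field F]
variable {m n a b : Type} [Fintype m] [DecidableEq m] [Fintype n] [DecidableEq n] [Fintype a] [DecidableEq a]
  [Fintype b] [DecidableEq b]

/-- conjugation by a base change -/
def BC.hom (e : BC m n F) : Matrix n n F →* Matrix m m F where
  toFun A := e.P * A * e.P'
  map_one' := by rw [Matrix.mul_one, e.h1]
  map_mul' A B := by
    have h : e.P * (A * B) * e.P' = e.P * A * (e.P' * e.P) * B * e.P' := by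
      rw [e.h2, Matrix.mul_one, ← Matrix.mul_assoc e.P A B]
    rw [h]
    simp only [Matrix.mul_assoc]

/-- block diagonal matrices -/
def diagHom (F a b : Type) [Field F] [Fintype a] [DecidableEq a] [Fintype b] [DecidableEq b] :
    Matrix a a F × Matrix b b F →* Matrix (a ⊕ b) (a ⊕ b) F where
  toFun x := fromBlocks x.1 0 0 x.2
  map_one' := fromBlocks_one
  map_mul' x y := by
    rw [fromBlocks_multiply]
    simp

/-- block diagonal matrices after a base change -/
noncomputable def BC.gl (e : BC m (a ⊕ b) F) : GL a F × GL b F →* GL m F :=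
  (Units.map (e.hom.comp (diagHom F a b))).comp (MulEquiv.prodUnits (M := Matrix a a F) (N := Matrix b b F)).symm.toMonoidHom

theorem BC.coe_gl (e : BC m (a ⊕ b) F) (x : GL a F) (y : GL b F) :
    (e.gl (x, y) : Matrix m m F) = e.P * fromBlocks (x : Matrix a a F) 0 0 (y : Matrix b b F) * e.P' := rfl

theorem BC.gl_injective (e : BC m (a ⊕ b) F) : Function.Injective e.gl := by
  rintro ⟨x, y⟩ ⟨x', y'⟩ h
  have h1 := congrArg (fun g : GL m F => e.P' * (g : Matrix m m F) * e.P) h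
  simp only [BC.coe_gl] at h1
  have h2 : ∀ A : Matrix (a ⊕ b) (a ⊕ b) F, e.P' * (e.P * A * e.P') * e.P = A := by
    intro A
    rw [Matrix.mul_assoc, Matrix.mul_assoc (e.P * A), e.h2, Matrix.mul_one, ← Matrix.mul_assoc, e.h2, Matrix.one_mul]
  rw [h2, h2, fromBlocks_inj] at h1
  exact Prod.ext (Units.ext h1.1) (Units.ext h1.2.2.2)

/-- the determinant of a block diagonal matrix -/
theorem BC.det_gl (e : BC m (a ⊕ b) F) (x : GL a F) (y : GL b F) :
    (e.gl (x, y) : Matrix m m F).det = (x : Matrix a a F).det * (y : Matrix b b F).det := by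
  rw [BC.coe_gl, Matrix.det_conj_of_mul_eq_one e.h1 e.h2, det_fromBlocks_zero₁₂]

theorem BC.sp_gl {K : Type*} [Field K] (φ : F →+* K) (e : BC m (a ⊕ b) F) (x : GL a F) (y : GL b F) :
    sp φ (e.gl (x, y) : Matrix m m F) = sp φ (x : Matrix a a F) ∪ sp φ (y : Matrix b b F) := by
  rw [BC.coe_gl, sp_conj e.h1 e.h2, sp_fromBlocks]

/-- matrices commuting with a block diagonal matrix with disjoint spectra -/
theorem BC.exists_of_comm {K : Type*} [Field K] [IsAlgClosed K] (φ : F →+* K) (e : BC m (a ⊕ b) F) (x : GL a F)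
    (y : GL b F) (hd : Disjoint (sp φ (x : Matrix a a F)) (sp φ (y : Matrix b b F))) (g : GL m F)
    (hg : g * e.gl (x, y) = e.gl (x, y) * g) : ∃ u v, g = e.gl (u, v) := by
  have key : ∀ g : GL m F, g * e.gl (x, y) = e.gl (x, y) * g →
      ∃ (A : Matrix a a F) (B : Matrix b b F), (g : Matrix m m F) = e.P * fromBlocks A 0 0 B * e.P' := by
    intro g hg
    set B := e.P' * (g : Matrix m m F) * e.P with hB
    have hgB : (g : Matrix m m F) = e.P * B * e.P' := by
      rw [hB, ← Matrix.mul_assoc, ← Matrix.mul_assoc, e.h1, Matrix.one_mul, Matrix.mul_assoc, e.h1, Matrix.mul_one]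
    have h1 : (g : Matrix m m F) * (e.gl (x, y) : Matrix m m F) = (e.gl (x, y) : Matrix m m F) * (g : Matrix m m F) :=
      congrArg Units.val hg
    rw [BC.coe_gl, hgB] at h1
    have h2 : B * fromBlocks (x : Matrix a a F) 0 0 (y : Matrix b b F) =
        fromBlocks (x : Matrix a a F) 0 0 (y : Matrix b b F) * B := by
      have h3 := congrArg (fun A => e.P' * A * e.P) h1
      have h4 : ∀ A A' : Matrix (a ⊕ b) (a ⊕ b) F, e.P' * (e.P * A * e.P' * (e.P * A' * e.P')) * e.P = A * A' := by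
        intro A A'
        have h5 : e.P * A * e.P' * (e.P * A' * e.P') = e.P * (A * A') * e.P' := by
          have := e.hom.map_mul A A'
          exact this.symm
        rw [h5, Matrix.mul_assoc, Matrix.mul_assoc (e.P * (A * A')), e.h2, Matrix.mul_one, ← Matrix.mul_assoc, e.h2,
          Matrix.one_mul]
      simp only [h4] at h3
      exact h3
    rw [← fromBlocks_toBlocks B, fromBlocks_multiply, fromBlocks_multiply, fromBlocks_inj] at h2
    obtain ⟨-, h12, h21, -⟩ := h2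
    simp only [Matrix.mul_zero, Matrix.zero_mul, add_zero, zero_add] at h12 h21
    have e12 := sylvester (φ := φ) h12.symm hd
    have e21 := sylvester (φ := φ) h21.symm hd.symm
    refine ⟨B.toBlocks₁₁, B.toBlocks₂₂, ?_⟩
    rw [hgB]
    congr 2
    rw [← fromBlocks_toBlocks B, e12, e21]
    simp
  obtain ⟨A, B, hAB⟩ := key g hg
  have hg' : g⁻¹ * e.gl (x, y) = e.gl (x, y) * g⁻¹ := by
    rw [inv_mul_eq_iff_eq_mul, ← mul_assoc, hg, mul_inv_cancel_right]
  obtain ⟨A', B', hAB'⟩ := key g⁻¹ hg'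
  have hm : ∀ (A A' : Matrix a a F) (B B' : Matrix b b F),
      (e.P * fromBlocks A 0 0 B * e.P') * (e.P * fromBlocks A' 0 0 B' * e.P') = 1 → A * A' = 1 ∧ B * B' = 1 := by
    intro A A' B B' h
    have h5 : e.P * fromBlocks A 0 0 B * e.P' * (e.P * fromBlocks A' 0 0 B' * e.P') =
        e.P * (fromBlocks A 0 0 B * fromBlocks A' 0 0 B') * e.P' := by
      have := e.hom.map_mul (fromBlocks A 0 0 B) (fromBlocks A' 0 0 B')
      exact this.symm
    rw [h5] at h
    have h6 : fromBlocks A 0 0 B * fromBlocks A' 0 0 B' = 1 := by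
      have h7 := congrArg (fun A => e.P' * A * e.P) h
      simp only [Matrix.mul_one, e.h2] at h7
      rw [← h7, Matrix.mul_assoc, Matrix.mul_assoc (e.P * _), e.h2, Matrix.mul_one, ← Matrix.mul_assoc, e.h2,
        Matrix.one_mul]
    rw [fromBlocks_multiply, ← fromBlocks_one, fromBlocks_inj] at h6
    simp only [Matrix.mul_zero, add_zero, zero_add] at h6
    exact ⟨h6.1, h6.2.2.2⟩
  have h1 : (g : Matrix m m F) * (g⁻¹ : GL m F) = 1 := by rw [← Units.val_mul, mul_inv_cancel, Units.val_one]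
  have h2 : ((g⁻¹ : GL m F) : Matrix m m F) * (g : Matrix m m F) = 1 := by
    rw [← Units.val_mul, inv_mul_cancel, Units.val_one]
  rw [hAB, hAB'] at h1
  rw [hAB, hAB'] at h2
  obtain ⟨u1, w1⟩ := hm _ _ _ _ h1
  obtain ⟨u2, w2⟩ := hm _ _ _ _ h2
  refine ⟨⟨A, A', u1, u2⟩, ⟨B, B', w1, w2⟩, Units.ext ?_⟩
  rw [BC.coe_gl]
  exact hAB
end

/-- A family of matrix groups. -/
structure Fm (F : Type) [Field F] where
  I : Type
  ι : I → Type
  [ft : ∀ c, Fintype (ι c)]
  [de : ∀ c, DecidableEq (ι c)]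
  G : ∀ c, Subgroup (GL (ι c) F)

attribute [instance] Fm.ft Fm.de

variable {F : Type} [Field F]

/-- block decompositions -/
def Fm.Dec (X : Fm F) (a b c : X.I) : Prop :=
  ∃ e : BC (X.ι c) (X.ι a ⊕ X.ι b) F, ∀ (x : GL (X.ι a) F) (y : GL (X.ι b) F),
    (x ∈ X.G a ∧ y ∈ X.G b) ↔ e.gl (x, y) ∈ X.G c

namespace Fm

variable (X : Fm F)

noncomputable def bc {a b c : X.I} (h : X.Dec a b c) : BC (X.ι c) (X.ι a ⊕ X.ι b) F := h.choose

theorem bc_spec {a b c : X.I} (h : X.Dec a b c) (x : GL (X.ι a) F) (y : GL (X.ι b) F) :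
    (x ∈ X.G a ∧ y ∈ X.G b) ↔ (X.bc h).gl (x, y) ∈ X.G c := h.choose_spec x y

noncomputable def β {a b c : X.I} (h : X.Dec a b c) : X.G a × X.G b →* X.G c :=
  ((X.bc h).gl.comp ((X.G a).subtype.prodMap (X.G b).subtype)).codRestrict (X.G c)
    (fun x => (X.bc_spec h _ _).1 ⟨x.1.2, x.2.2⟩)

theorem coe_β {a b c : X.I} (h : X.Dec a b c) (x : X.G a) (y : X.G b) :
    (X.β h (x, y) : GL (X.ι c) F) = (X.bc h).gl ((x : GL (X.ι a) F), (y : GL (X.ι b) F)) := rfl

/-- **The system of a family of matrix groups.** -/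
noncomputable def toSys [Finite F] (r : ℕ) [Fact r.Prime] [CharP F r] (H : ∀ t : ℕ, Subgroup (ZMod t)ˣ)
    (E_H : ∀ (c : X.I) (x : X.G c) (t : ℕ), t.Prime → ∀ h ∈ H t,
      ∀ z ∈ sp (algebraMap F (AlgebraicClosure F)) ((x : GL (X.ι c) F) : Matrix (X.ι c) (X.ι c) F),
        z ^ t = 1 → z ^ (h : ZMod t).val ∈
          sp (algebraMap F (AlgebraicClosure F)) ((x : GL (X.ι c) F) : Matrix (X.ι c) (X.ι c) F))
    (M : ℕ → X.I) (N : X.I → X.I → ℕ) (v : ℕ → ℕ)
    (v_pos : ∀ s : ℕ, s.Prime → s ≠ 2 → s ≠ r → 0 < v s)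
    (fac : ∀ s : ℕ, s.Prime → s ≠ 2 → s ≠ r → ∀ c : X.I,
      (Nat.card (X.G c)).factorization s = N (M s) c * v s + (N (M s) c).factorial.factorization s)
    (N_M : ∀ s : ℕ, s.Prime → s ≠ 2 → s ≠ r → N (M s) (M s) = 1)
    (split1 : ∀ s : ℕ, s.Prime → s ≠ 2 → s ≠ r → ∀ c : X.I, N (M s) c ≠ 0 →
      ∃ c' : X.I, X.Dec (M s) c' c ∧ N (M s) c' + 1 = N (M s) c)
    (splitN : ∀ s : ℕ, s.Prime → s ≠ 2 → s ≠ r → ∀ (c : X.I) (k : ℕ), k ≤ N (M s) c →
      ∃ a b : X.I, X.Dec a b c ∧ Pow X.Dec (fun c => Fintype.card (X.ι c)) (M s) k a ∧ N (M s) a = k ∧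
        N (M s) b + k = N (M s) c)
    (H_card : ∀ s : ℕ, s.Prime → s ≠ 2 → s ≠ r → Nat.card (H s) = Fintype.card (X.ι (M s)))
    (zero : ∀ s t : ℕ, s.Prime → s ≠ 2 → s ≠ r → t.Prime → t ≠ 2 → t ≠ r →
      Fintype.card (X.ι (M s)) < Fintype.card (X.ι (M t)) → ∀ c : X.I, N (M s) c = 0 → N (M t) c = 0) :
    Sys.{0, 0} r where
  I := X.I
  G c := X.G c
  fin c := by
    have : Finite (GL (X.ι c) F) := by
      have : Finite (Matrix (X.ι c) (X.ι c) F) := inferInstance
      exact inferInstance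
    exact inferInstance
  K := AlgebraicClosure F
  E {c} x := sp (algebraMap F (AlgebraicClosure F)) ((x : GL (X.ι c) F) : Matrix (X.ι c) (X.ι c) F)
  dim c := Fintype.card (X.ι c)
  E_fin x := sp_finite _
  E_card x := sp_ncard_le _
  E_one c := sp_one
  E_pow {c} x j hj := by
    rw [SubmonoidClass.coe_pow, Units.val_pow_eq_pow_val]
    exact sp_pow _ hj
  E_ne {c} x t ht htr hx hx1 := by
    refine exists_ne_one (p := r) ht htr _ ?_ ?_
    · rw [← Units.val_pow_eq_pow_val, ← SubmonoidClass.coe_pow, hx]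
      rfl
    · intro h
      exact hx1 (Subtype.ext (Units.ext h))
  H := H
  E_H {c} x t := E_H c x t
  ab {c} x u v hx hu hv := by
    apply Subtype.ext
    apply Units.ext
    exact comm_of_ncard hx (congrArg (fun g : X.G c => ((g : GL (X.ι c) F) : Matrix (X.ι c) (X.ι c) F)) hu)
      (congrArg (fun g : X.G c => ((g : GL (X.ι c) F) : Matrix (X.ι c) (X.ι c) F)) hv)
  Dec := X.Dec
  β h := X.β h
  β_inj {a b c} h := by
    rintro ⟨x, y⟩ ⟨x', y'⟩ hxy
    have h1 := congrArg Subtype.val hxy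
    rw [coe_β, coe_β] at h1
    have h2 := (X.bc h).gl_injective h1
    exact Prod.ext (Subtype.ext (congrArg Prod.fst h2)) (Subtype.ext (congrArg Prod.snd h2))
  E_β {a b c} h x y := by
    rw [coe_β]
    exact BC.sp_gl _ _ _ _
  cp {a b c} h x y g hd hg := by
    have h1 := congrArg Subtype.val hg
    rw [Subgroup.coe_mul, Subgroup.coe_mul, coe_β] at h1
    obtain ⟨u, v, huv⟩ := (X.bc h).exists_of_comm _ _ _ hd _ h1
    obtain ⟨hu, hv⟩ := (X.bc_spec h u v).2 (huv ▸ g.2)
    exact ⟨⟨u, hu⟩, ⟨v, hv⟩, Subtype.ext huv⟩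
  M := M
  N := N
  v := v
  v_pos := v_pos
  fac := fac
  N_M := N_M
  split1 := split1
  splitN := splitN
  H_card := H_card
  zero := zero

end Fm

end Cfsg.Agent.H201.MatSys
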