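import Cfsg.Agent.H201.MatSys
import Cfsg.Agent.H201.BlockDet
import Cfsg.Agent.H749.Val

/-!
# Systems of matrix groups indexed by natural numbers (helper201)

`GL_n`, `GU_n`, `Sp_{2n}`.
-/

set_option autoImplicit false

namespace Cfsg.Agent.H201.MatSys

open Matrix BlockSys MatSpec Cfsg.Agent.H630.NH

/-- the subgroup of exponents generated by the integers in `Λ` -/
def Hs (Λ : Set ℤ) (t : ℕ) : Subgroup (ZMod t)ˣ := Subgroup.closure {u | ∃ c ∈ Λ, (u : ZMod t) = (c : ZMod t)}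

theorem mem_of_mem_Hs {K : Type*} [Field K] {Λ : Set ℤ} {S : Set K} (hS : ∀ z ∈ S, z ≠ 0 ∧ ∀ c ∈ Λ, z ^ c ∈ S)
    {t : ℕ} (ht : t.Prime) {h : (ZMod t)ˣ} (hh : h ∈ Hs Λ t) : ∀ z ∈ S, z ^ t = 1 → z ^ (h : ZMod t).val ∈ S := by
  have hp : Fact t.Prime := ⟨ht⟩
  have hone : ∀ z ∈ S, z ^ t = 1 → z ^ ((1 : (ZMod t)ˣ) : ZMod t).val ∈ S := by
    intro z hz _
    rw [Units.val_one, ZMod.val_one, pow_one]
    exact hz
  have hpow : ∀ (z : K), z ^ t = 1 → ∀ n : ℕ, z ^ n = z ^ (n % t) := by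
    intro z hz n
    conv_lhs => rw [← Nat.div_add_mod n t, pow_add, pow_mul, hz, one_pow, one_mul]
  have hmul : ∀ a b : (ZMod t)ˣ, (∀ z ∈ S, z ^ t = 1 → z ^ (a : ZMod t).val ∈ S) →
      (∀ z ∈ S, z ^ t = 1 → z ^ (b : ZMod t).val ∈ S) → ∀ z ∈ S, z ^ t = 1 → z ^ ((a * b : (ZMod t)ˣ) : ZMod t).val ∈ S := by
    intro a b ha hb z hz hzt
    have h1 := ha z hz hzt
    have h2 := hb _ h1 (by rw [← pow_mul, mul_comm, pow_mul, hzt, one_pow])
    rw [← pow_mul, hpow z hzt, ← ZMod.val_mul] at h2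
    exact h2
  have hpw : ∀ a : (ZMod t)ˣ, (∀ z ∈ S, z ^ t = 1 → z ^ (a : ZMod t).val ∈ S) → ∀ k : ℕ,
      ∀ z ∈ S, z ^ t = 1 → z ^ ((a ^ k : (ZMod t)ˣ) : ZMod t).val ∈ S := by
    intro a ha k
    induction k with
    | zero =>
      rw [pow_zero]
      exact hone
    | succ k ih =>
      rw [pow_succ]
      exact hmul _ _ ih ha
  refine Subgroup.closure_induction (G := (ZMod t)ˣ)
    (p := fun h _ => ∀ z ∈ S, z ^ t = 1 → z ^ (h : ZMod t).val ∈ S) ?_ ?_ ?_ ?_ hh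
  · rintro u ⟨c, hc, huc⟩ z hz hzt
    have h1 := (hS z hz).2 c hc
    have h2 : z ^ c = z ^ (u : ZMod t).val := by
      have h3 : ((c - ((u : ZMod t).val : ℤ) : ℤ) : ZMod t) = 0 := by
        rw [Int.cast_sub, Int.cast_natCast, ZMod.natCast_zmod_val, huc, sub_self]
      obtain ⟨m, hm⟩ := (ZMod.intCast_zmod_eq_zero_iff_dvd _ _).1 h3
      have h4 : c = (u : ZMod t).val + t * m := by omega
      rw [h4, zpow_add₀ (hS z hz).1, _root_.zpow_mul, zpow_natCast, zpow_natCast, hzt, _root_.one_zpow, mul_one]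
    rw [← h2]
    exact h1
  · exact hone
  · intro a b _ _ ha hb
    exact hmul a b ha hb
  · intro a _ ha
    have h1 := hpw a ha (orderOf a - 1)
    have h2 : a⁻¹ = a ^ (orderOf a - 1) := by
      rw [inv_eq_iff_mul_eq_one, ← pow_succ', Nat.sub_add_cancel (orderOf_pos a), pow_orderOf_eq_one]
    rw [h2]
    exact h1

theorem card_Hs_singleton {C : ℤ} {t : ℕ} [Fact t.Prime] (h : ¬ (t : ℤ) ∣ C) :
    Nat.card (Hs {C} t) = orderOf (C : ZMod t) := by
  have h0 : (C : ZMod t) ≠ 0 := fun h' => h ((ZMod.intCast_zmod_eq_zero_iff_dvd _ _).1 h')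
  have h1 : Hs {C} t = Subgroup.zpowers (Units.mk0 _ h0) := by
    unfold Hs
    rw [Subgroup.zpowers_eq_closure]
    congr 1
    ext u
    constructor
    · rintro ⟨c, hc, hu⟩
      rw [Set.mem_singleton_iff] at hc
      rw [hc] at hu
      exact Units.ext hu
    · rintro hu
      rw [Set.mem_singleton_iff] at hu
      exact ⟨C, rfl, by rw [hu]; rfl⟩
  rw [h1, Nat.card_zpowers, ← orderOf_units]
  rfl

variable {F : Type} [Field F]

section
variable (ι : ℕ → Type) [∀ n, Fintype (ι n)] [∀ n, DecidableEq (ι n)] (G : ∀ n, Subgroup (GL (ι n) F))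

/-- a family indexed by the natural numbers -/
abbrev natFm : Fm F where
  I := ℕ
  ι := ι
  G := G

/-- the system of a family indexed by natural numbers -/
noncomputable def natSys [Finite F] (r : ℕ) [Fact r.Prime] [CharP F r] (w : ℕ)
    (hι : ∀ n, Fintype.card (ι n) = w * n) (C : ℤ) (hC : ∀ i : ℕ, i ≠ 0 → C ^ i ≠ 1)
    (hCs : ∀ s : ℕ, s.Prime → s ≠ r → ¬ (s : ℤ) ∣ C) (hDec : ∀ a b : ℕ, (natFm ι G).Dec a b (a + b)) (Λ : Set ℤ)
    (hΛ : ∀ (n : ℕ) (x : G n), ∀ z ∈ sp (algebraMap F (AlgebraicClosure F)) ((x : GL (ι n) F) : Matrix (ι n) (ι n) F),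
      ∀ c ∈ Λ, z ^ c ∈ sp (algebraMap F (AlgebraicClosure F)) ((x : GL (ι n) F) : Matrix (ι n) (ι n) F))
    (hcard : ∀ s : ℕ, s.Prime → s ≠ 2 → s ≠ r → Nat.card (Hs Λ s) = w * orderOf (C : ZMod s))
    (ord : ∀ n : ℕ, ∃ k : ℕ, Nat.card (G n) = r ^ k * (∏ i ∈ Finset.range n, (C ^ (i + 1) - 1)).natAbs) :
    Sys.{0, 0} r :=
  have hpos : ∀ s : ℕ, s.Prime → s ≠ 2 → s ≠ r → 0 < orderOf (C : ZMod s) := fun s hs _ hr => by
    have : Fact s.Prime := ⟨hs⟩
    exact H749.orderOf_pos_of (hCs s hs hr)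
  Fm.toSys (natFm ι G) r (Hs Λ)
    (fun (n : ℕ) (x : G n) t ht h hh z hz hzt => mem_of_mem_Hs (S := sp (algebraMap F (AlgebraicClosure F))
        ((x : GL (ι n) F) : Matrix (ι n) (ι n) F)) (fun z hz => ⟨(sp_inv (Units.mul_inv (x : GL (ι n) F)) hz).1,
          hΛ n x z hz⟩) ht hh z hz hzt)
    (fun s => orderOf (C : ZMod s)) (fun (e n : ℕ) => n / e) (fun s => H749.vp s (C ^ orderOf (C : ZMod s) - 1))
    (fun s hs h2 hr => by
      have : Fact s.Prime := ⟨hs⟩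
      refine H749.vp_pos (sub_ne_zero.2 (hC _ (hpos s hs h2 hr).ne')) ?_
      rw [H749.dvd_pow_sub_one_iff])
    (fun s hs h2 hr (n : ℕ) => by
      have : Fact s.Prime := ⟨hs⟩
      obtain ⟨k, hk⟩ := ord n
      have hne : (∏ i ∈ Finset.range n, (C ^ (i + 1) - 1)) ≠ 0 :=
        Finset.prod_ne_zero_iff.2 fun i _ => sub_ne_zero.2 (hC _ (Nat.succ_ne_zero i))
      have h1 := H749.vp_prod (p := s) h2 (x := C) rfl hC n
      have h3 : (r ^ k).factorization s = 0 := by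
        apply Nat.factorization_eq_zero_of_not_dvd
        intro hd
        exact hr ((Nat.prime_dvd_prime_iff_eq hs Fact.out).1 (hs.dvd_of_dvd_pow hd))
      rw [show Nat.card ((natFm ι G).G n) = Nat.card (G n) from rfl, hk,
        Nat.factorization_mul (pow_ne_zero _ (Fact.out : r.Prime).ne_zero) (Int.natAbs_ne_zero.2 hne),
        Finsupp.add_apply, h3, zero_add]
      exact h1)
    (fun s hs h2 hr => Nat.div_self (hpos s hs h2 hr))
    (fun s hs h2 hr (n : ℕ) hn => by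
      have h0 := hpos s hs h2 hr
      have h1 : orderOf (C : ZMod s) ≤ n := by
        by_contra hlt
        exact hn (Nat.div_eq_of_lt (not_le.1 hlt))
      refine ⟨n - orderOf (C : ZMod s), ?_, ?_⟩
      · have := hDec (orderOf (C : ZMod s)) (n - orderOf (C : ZMod s))
        rwa [Nat.add_sub_cancel' h1] at this
      · rw [← Nat.div_eq_sub_div h0 h1])
    (fun s hs h2 hr (n : ℕ) k hk => by
      have h0 := hpos s hs h2 hr
      have h1 : orderOf (C : ZMod s) * k ≤ n := (Nat.mul_le_mul_left _ hk).trans (Nat.mul_div_le _ _)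
      refine ⟨orderOf (C : ZMod s) * k, n - orderOf (C : ZMod s) * k, ?_, ?_, Nat.mul_div_cancel_left k h0, ?_⟩
      · have := hDec (orderOf (C : ZMod s) * k) (n - orderOf (C : ZMod s) * k)
        rwa [Nat.add_sub_cancel' h1] at this
      · clear h1 hk
        induction k with
        | zero => exact Pow.zero _ (by
            show Fintype.card (ι _) = 0
            rw [hι, Nat.mul_zero, Nat.mul_zero])
        | succ k ih =>
          refine Pow.succ k _ (orderOf (C : ZMod s) * k) ?_ ih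
          have := hDec (orderOf (C : ZMod s)) (orderOf (C : ZMod s) * k)
          rwa [add_comm, ← Nat.mul_succ] at this
      · rw [Nat.sub_mul_div]
        omega)
    (fun s hs h2 hr => by
      rw [hcard s hs h2 hr]
      exact (hι _).symm)
    (fun s t hs h2 hr ht ht2 htr hlt (n : ℕ) hn => by
      have h0 := hpos s hs h2 hr
      have h1 : n < orderOf (C : ZMod s) := by
        by_contra hle
        exact (Nat.div_pos (not_lt.1 hle) h0).ne' hn
      have h3 : w * orderOf (C : ZMod s) < w * orderOf (C : ZMod t) := by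
        rw [← hι, ← hι]
        exact hlt
      have h4 := Nat.lt_of_mul_lt_mul_left h3
      exact Nat.div_eq_of_lt (by omega))

/-- **The rows of a family indexed by natural numbers.** -/
theorem natSys_crossRow [Finite F] (r : ℕ) [Fact r.Prime] [CharP F r] (w : ℕ) (hw : 0 < w)
    (hι : ∀ n, Fintype.card (ι n) = w * n) (C : ℤ) (hC : ∀ i : ℕ, i ≠ 0 → C ^ i ≠ 1)
    (hCs : ∀ s : ℕ, s.Prime → s ≠ r → ¬ (s : ℤ) ∣ C) (hDec : ∀ a b : ℕ, (natFm ι G).Dec a b (a + b)) (Λ : Set ℤ)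
    (hΛ : ∀ (n : ℕ) (x : G n), ∀ z ∈ sp (algebraMap F (AlgebraicClosure F)) ((x : GL (ι n) F) : Matrix (ι n) (ι n) F),
      ∀ c ∈ Λ, z ^ c ∈ sp (algebraMap F (AlgebraicClosure F)) ((x : GL (ι n) F) : Matrix (ι n) (ι n) F))
    (hcard : ∀ s : ℕ, s.Prime → s ≠ 2 → s ≠ r → Nat.card (Hs Λ s) = w * orderOf (C : ZMod s))
    (ord : ∀ n : ℕ, ∃ k : ℕ, Nat.card (G n) = r ^ k * (∏ i ∈ Finset.range n, (C ^ (i + 1) - 1)).natAbs) (n : ℕ) :
    CrossRow r (G n) :=
  Sys.crossRow (S := natSys ι G r w hι C hC hCs hDec Λ hΛ hcard ord) (fun s t _ _ h => by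
    have h1 : Fintype.card (ι (orderOf (C : ZMod s))) = Fintype.card (ι (orderOf (C : ZMod t))) := h
    rw [hι, hι] at h1
    exact Nat.eq_of_mul_eq_mul_left hw h1) n

/-- the determinant -/
def detHom (n : ℕ) : G n →* Fˣ := Matrix.GeneralLinearGroup.det.comp (G n).subtype

theorem detHom_β {a b c : ℕ} (h : (natFm ι G).Dec a b c) (x : G a) (y : G b) :
    detHom ι G c ((natFm ι G).β h (x, y)) = detHom ι G a x * detHom ι G b y := by
  apply Units.ext
  exact BC.det_gl (a := ι a) (b := ι b) (m := ι c) (F := F) (Fm.bc (natFm ι G) h) _ _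

theorem detHom_dim (n : ℕ) (x : G n) (h : Fintype.card (ι n) = 0) : detHom ι G n x = 1 := by
  apply Units.ext
  have : IsEmpty (ι n) := Fintype.card_eq_zero_iff.1 h
  exact Matrix.det_isEmpty

/-- The determinant. -/
noncomputable def detFam [Finite F] (r : ℕ) [Fact r.Prime] [CharP F r] (w : ℕ)
    (hι : ∀ n, Fintype.card (ι n) = w * n) (C : ℤ) (hC : ∀ i : ℕ, i ≠ 0 → C ^ i ≠ 1)
    (hCs : ∀ s : ℕ, s.Prime → s ≠ r → ¬ (s : ℤ) ∣ C) (hDec : ∀ a b : ℕ, (natFm ι G).Dec a b (a + b)) (Λ : Set ℤ)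
    (hΛ : ∀ (n : ℕ) (x : G n), ∀ z ∈ sp (algebraMap F (AlgebraicClosure F)) ((x : GL (ι n) F) : Matrix (ι n) (ι n) F),
      ∀ c ∈ Λ, z ^ c ∈ sp (algebraMap F (AlgebraicClosure F)) ((x : GL (ι n) F) : Matrix (ι n) (ι n) F))
    (hcard : ∀ s : ℕ, s.Prime → s ≠ 2 → s ≠ r → Nat.card (Hs Λ s) = w * orderOf (C : ZMod s))
    (ord : ∀ n : ℕ, ∃ k : ℕ, Nat.card (G n) = r ^ k * (∏ i ∈ Finset.range n, (C ^ (i + 1) - 1)).natAbs) :
    Sys.Fam (natSys ι G r w hι C hC hCs hDec Λ hΛ hcard ord) where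
  D := Fˣ
  det := detHom ι G
  det_β := detHom_β ι G
  det_dim := detHom_dim ι G

/-- **The rows of the kernel of the determinant.** -/
theorem natSys_crossRow_ker [Finite F] (r : ℕ) [Fact r.Prime] [CharP F r]
    (hι : ∀ n, Fintype.card (ι n) = 1 * n) (C : ℤ) (hC : ∀ i : ℕ, i ≠ 0 → C ^ i ≠ 1)
    (hCs : ∀ s : ℕ, s.Prime → s ≠ r → ¬ (s : ℤ) ∣ C) (hDec : ∀ a b : ℕ, (natFm ι G).Dec a b (a + b)) (Λ : Set ℤ)
    (hΛ : ∀ (n : ℕ) (x : G n), ∀ z ∈ sp (algebraMap F (AlgebraicClosure F)) ((x : GL (ι n) F) : Matrix (ι n) (ι n) F),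
      ∀ c ∈ Λ, z ^ c ∈ sp (algebraMap F (AlgebraicClosure F)) ((x : GL (ι n) F) : Matrix (ι n) (ι n) F))
    (hcard : ∀ s : ℕ, s.Prime → s ≠ 2 → s ≠ r → Nat.card (Hs Λ s) = 1 * orderOf (C : ZMod s))
    (ord : ∀ n : ℕ, ∃ k : ℕ, Nat.card (G n) = r ^ k * (∏ i ∈ Finset.range n, (C ^ (i + 1) - 1)).natAbs)
    (U : Subgroup Fˣ) (hU : ∀ n (x : G n), Matrix.GeneralLinearGroup.det (x : GL (ι n) F) ∈ U)
    (hsurj : ∀ u ∈ U, ∃ x : G 1, Matrix.GeneralLinearGroup.det (x : GL (ι 1) F) = u)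
    (hcU : ∀ s : ℕ, s ∣ Nat.card U → (s : ℤ) ∣ C - 1) (n : ℕ) :
    CrossRow r (detHom ι G n).ker := by
  have hfin : Finite U := inferInstance
  refine @Sys.crossRow_ker _ (natSys ι G r 1 hι C hC hCs hDec Λ hΛ hcard ord)
    (detFam ι G r 1 hι C hC hCs hDec Λ hΛ hcard ord) (1 : ℕ) ?_ U hfin hU hsurj ?_ ?_ ?_ ?_ n
  · intro x y hxy
    have hinj : ∀ x y : G 1, Matrix.GeneralLinearGroup.det (x : GL (ι 1) F) =
        Matrix.GeneralLinearGroup.det (y : GL (ι 1) F) → x = y := by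
      intro x y hxy
      have h2 : ((x : GL (ι 1) F) : Matrix (ι 1) (ι 1) F).det = ((y : GL (ι 1) F) : Matrix (ι 1) (ι 1) F).det :=
        congrArg (fun u : Fˣ => (u : F)) hxy
      have hc1 : Fintype.card (ι 1) = 1 := by rw [hι]
      obtain ⟨i, hi⟩ := Fintype.card_eq_one_iff.1 hc1
      have hun : Unique (ι 1) := ⟨⟨i⟩, hi⟩
      rw [Matrix.det_unique, Matrix.det_unique] at h2
      apply Subtype.ext
      apply Units.ext
      ext a b
      have hdef : (default : ι 1) = i := hi _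
      rw [hi a, hi b, ← hdef]
      exact h2
    exact hinj x y hxy
  · intro s hs hd
    have hp : Fact s.Prime := ⟨hs.1⟩
    have h3 := hcU s hd
    have h4 : (C : ZMod s) = 1 := by
      have := (ZMod.intCast_zmod_eq_zero_iff_dvd _ _).2 h3
      rw [Int.cast_sub, Int.cast_one, sub_eq_zero] at this
      exact this
    show orderOf (C : ZMod s) = 1
    rw [h4, orderOf_one]
  · have h5 : ∀ c : ℕ, c / 1 = Fintype.card (ι c) := fun c => by rw [hι, Nat.div_one, one_mul]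
    exact h5
  · show Fintype.card (ι 1) = 1
    rw [hι]
  · intro s t _ _ h
    have h1 : Fintype.card (ι (orderOf (C : ZMod s))) = Fintype.card (ι (orderOf (C : ZMod t))) := h
    rw [hι, hι] at h1
    exact Nat.eq_of_mul_eq_mul_left one_pos h1

end

end Cfsg.Agent.H201.MatSys
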