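import Cfsg.Agent.FooteOdd.PSU
import Cfsg.Agent.S2934
import Cfsg.Agent.H334.Q8Case

/-!
# Elements of odd order normalizing a Sylow 2-subgroup of `GL_2` or `GU_2` are scalar (helper201, S3311)
-/

set_option autoImplicit false

namespace Cfsg.Agent.H201.RankTwo

open Subgroup Equiv
open Cfsg.Agent.FooteOdd

variable {K : Type*} [Field K]

/-- an element commuting with two noncommuting elements of `GL_2` is scalar -/
theorem scalar_of_comm {x a b : (Fin 2 → K) ≃ₗ[K] (Fin 2 → K)} (ha : x * a = a * x) (hb : x * b = b * x)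
    (hab : a * b ≠ b * a) : ∃ c : Kˣ, x = sc c := by
  by_contra hns
  obtain ⟨v, hv⟩ := exists_independent hns
  let e : Module.Basis (Fin 2) K (Fin 2 → K) := basisOfLinearIndependentOfCardEqFinrank hv (by simp)
  have he0 : e 0 = v := by simp [e]
  have he1 : e 1 = x v := by simp [e]
  have hrep : ∀ w : Fin 2 → K, w = (e.repr w 0) • v + (e.repr w 1) • x v := by
    intro w
    have := e.sum_repr w
    rw [Fin.sum_univ_two, he0, he1] at this
    exact this.symm
  have key : ∀ c : (Fin 2 → K) ≃ₗ[K] (Fin 2 → K), x * c = c * x →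
      ∀ w, c w = (e.repr (c v) 0) • w + (e.repr (c v) 1) • x w := by
    intro c hc
    have hcx : ∀ w, c (x w) = x (c w) := fun w => (LinearEquiv.congr_fun hc w).symm
    have h0 : c v = (e.repr (c v) 0) • v + (e.repr (c v) 1) • x v := hrep (c v)
    have h1 : c (x v) = (e.repr (c v) 0) • x v + (e.repr (c v) 1) • x (x v) := by
      rw [hcx]
      conv_lhs => rw [h0]
      rw [map_add, map_smul, map_smul]
    intro w
    conv_lhs => rw [hrep w]
    conv_rhs => rw [hrep w]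
    rw [map_add, map_smul, map_smul, map_add, map_smul, map_smul]
    conv_lhs => rw [h0, h1]
    module
  apply hab
  apply LinearEquiv.ext
  intro w
  rw [LinearEquiv.mul_apply, LinearEquiv.mul_apply, key a ha (b w), key b hb (a w), key a ha w, key b hb w, map_add, map_smul,
    map_smul, map_add, map_smul, map_smul]
  module

theorem perm_four : ∀ σ τ : Perm (Fin 4), σ * σ * σ = 1 → σ ≠ 1 → σ * τ = τ * σ → τ * τ * τ * τ = 1 → τ = 1 := by
  decide +kernel

theorem sq_ne [Finite K] (two : (2 : K) ≠ 0) (D : Subgroup Kˣ) (h : (-1 : Kˣ) ∈ D) :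
    ∃ c ∈ D, ∀ d ∈ D, d * d ≠ c := by
  by_contra hcon
  push Not at hcon
  let f : D → D := fun d => d * d
  have hs : Function.Surjective f := by
    rintro ⟨c, hc⟩
    obtain ⟨d, hd, h1⟩ := hcon c hc
    exact ⟨⟨d, hd⟩, Subtype.ext h1⟩
  have hi := Finite.injective_iff_surjective.2 hs
  have h1 : (⟨-1, h⟩ : D) = 1 := hi (by
    apply Subtype.ext
    show (-1 : Kˣ) * -1 = 1 * 1
    simp)
  have h2 : (-1 : K) = 1 := congrArg (fun u : D => ((u : Kˣ) : K)) h1
  apply two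
  linear_combination -h2

/-- **Elements of odd order normalizing a Sylow 2-subgroup of `GL_2` or `GU_2` are scalar.** -/
theorem rank_two [Finite K] (two : (2 : K) ≠ 0) (P : Subgroup ((Fin 2 → K) ≃ₗ[K] (Fin 2 → K))) (hP : IsPGroup 2 P)
    (D2 : Subgroup Kˣ) (hneg : (-1 : Kˣ) ∈ D2) (hdet : ∀ c ∈ D2, ∃ p ∈ P, LinearEquiv.det p = c)
    (hsc : ∀ c : Kˣ, sc c ∈ P → c ∈ D2)
    (hna : ∃ a ∈ P, ∃ b ∈ P, LinearEquiv.det a = 1 ∧ LinearEquiv.det b = 1 ∧ a * b ≠ b * a)
    {x : (Fin 2 → K) ≃ₗ[K] (Fin 2 → K)} (hx : ∀ p ∈ P, x * p * x⁻¹ ∈ P) (ho : Odd (orderOf x)) :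
    ∃ c : Kˣ, x = sc c := by
  have : Fact (Nat.Prime 2) := ⟨Nat.prime_two⟩
  have hfin : Finite ((Fin 2 → K) ≃ₗ[K] (Fin 2 → K)) := Finite.of_injective _ DFunLike.coe_injective
  obtain ⟨a, haP, b, hbP, had, hbd, hab⟩ := hna
  set Q : Subgroup ((Fin 2 → K) ≃ₗ[K] (Fin 2 → K)) := P ⊓ (LinearEquiv.det : _ →* Kˣ).ker with hQ
  have hQP : IsPGroup 2 Q := hP.to_le inf_le_left
  have haQ : a ∈ Q := ⟨haP, had⟩
  have hbQ : b ∈ Q := ⟨hbP, hbd⟩
  have hnorm : ∀ y : (Fin 2 → K) ≃ₗ[K] (Fin 2 → K), (∀ p ∈ P, y * p * y⁻¹ ∈ P) → y ∈ normalizer (Q : Set ((Fin 2 → K) ≃ₗ[K] (Fin 2 → K))) := by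
    intro y hy
    have h1 : ∀ p ∈ Q, y * p * y⁻¹ ∈ Q := by
      intro p hp
      refine ⟨hy p hp.1, ?_⟩
      have h2 : LinearEquiv.det p = 1 := hp.2
      show LinearEquiv.det (y * p * y⁻¹) = 1
      rw [map_mul, map_mul, h2, mul_one, map_inv, mul_inv_cancel]
    have hmap : Q.map (MulAut.conj y).toMonoidHom = Q := by
      apply Subgroup.eq_of_le_of_card_ge
      · rintro _ ⟨w, hw, rfl⟩
        exact h1 w hw
      · rw [Subgroup.card_map_of_injective (MulAut.conj y).injective]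
    rw [mem_normalizer_iff]
    intro w
    constructor
    · exact h1 w
    · intro hw
      obtain ⟨w', hw', hww⟩ := hmap.ge hw
      have : w = w' := (MulAut.conj y).injective hww.symm
      exact this ▸ hw'
  have hxN := hnorm x hx
  -- an element acting trivially on `Q` is scalar
  have hscal : ∀ (y : (Fin 2 → K) ≃ₗ[K] (Fin 2 → K)) (hy : y ∈ normalizer (Q : Set ((Fin 2 → K) ≃ₗ[K] (Fin 2 → K)))),
      Q.normalizerMonoidHom ⟨y, hy⟩ = 1 → ∃ c : Kˣ, y = sc c := by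
    intro y hy h1
    have h2 : ∀ q ∈ Q, y * q = q * y := by
      intro q hq
      have h3 : Q.normalizerMonoidHom ⟨y, hy⟩ ⟨q, hq⟩ = ⟨q, hq⟩ := by rw [h1]; rfl
      exact mul_inv_eq_iff_eq_mul.1 (congrArg Subtype.val h3)
    exact scalar_of_comm (h2 a haQ) (h2 b hbQ) hab
  set φ := Q.normalizerMonoidHom ⟨x, hxN⟩ with hφ
  by_cases hφ1 : φ = 1
  · exact hscal x hxN hφ1
  exfalso
  have hφn : φ ^ orderOf x = 1 := by
    rw [hφ, ← map_pow]
    have : (⟨x, hxN⟩ : normalizer (Q : Set ((Fin 2 → K) ≃ₗ[K] (Fin 2 → K)))) ^ orderOf x = 1 :=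
      Subtype.ext (pow_orderOf_eq_one x)
    rw [this, map_one]
  -- uniqueness of the involution
  have hinv : ∀ y : (Fin 2 → K) ≃ₗ[K] (Fin 2 → K), y * y = 1 → LinearEquiv.det y = 1 → y ≠ 1 → y = sc (-1) := by
    intro y hy hyd hy1
    obtain ⟨k, ε, hε, hk⟩ := gl_h1 two y hy
    have hd : LinearEquiv.det (k * y * k⁻¹) = 1 := by
      rw [map_mul, map_mul, hyd, mul_one, map_inv, mul_inv_cancel]
    rw [hk, det_dg, Fin.prod_univ_two] at hd
    have he : ε 0 = ε 1 := by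
      rcases hε 0 with h0 | h0 <;> rcases hε 1 with h1 | h1 <;> rw [h0, h1] at hd ⊢
      · rw [one_mul] at hd
        exact hd.symm
      · rw [mul_one] at hd
        exact hd
    have he' : dg ε = sc (ε 0) := by
      rw [sc]
      congr 1
      funext i
      fin_cases i
      · rfl
      · exact he.symm
    have hy2 : y = sc (ε 0) := by
      have : y = k⁻¹ * (k * y * k⁻¹) * k := by group
      rw [this, hk, he', mul_assoc, sc_comm, ← mul_assoc, inv_mul_cancel, one_mul]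
    rcases hε 0 with h0 | h0
    · exfalso
      apply hy1
      rw [hy2, h0, sc]
      exact map_one dg
    · rw [hy2, h0]
  obtain ⟨e⟩ := Cfsg.Agent.S2934.quaternion_of_ne (X := Q) hQP (by
    intro y z hy hz
    have h1 : ∀ y : Q, orderOf y = 2 → (y : (Fin 2 → K) ≃ₗ[K] (Fin 2 → K)) = sc (-1) := by
      intro y hy
      have h2 := pow_orderOf_eq_one y
      rw [hy, pow_two] at h2
      refine hinv _ (congrArg Subtype.val h2) y.2.2 fun h3 => ?_
      have h4 : y = 1 := Subtype.ext h3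
      rw [h4, orderOf_one] at hy
      omega
    exact Subtype.ext ((h1 y hy).trans (h1 z hz).symm)) φ ho hφn hφ1
  -- the automorphisms in `S_4`
  obtain ⟨g⟩ := Cfsg.Agent.H334.Q8Case.mulAut_equiv
  let θ : MulAut Q ≃* Perm (Fin 4) := (MulAut.congr e).trans g
  have hord : ∀ α : MulAut Q, α * α * α = 1 ∨ α * α * α * α = 1 := by
    intro α
    rcases Cfsg.Agent.H334.Q8Case.mulAut_order (MulAut.congr e α) with h | h
    · left
      apply (MulAut.congr e).injective
      rw [map_mul, map_mul, map_one, ← h]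
      simp only [pow_succ, pow_zero, one_mul]
    · right
      apply (MulAut.congr e).injective
      rw [map_mul, map_mul, map_mul, map_one, ← h]
      simp only [pow_succ, pow_zero, one_mul]
  have hφ3 : φ * φ * φ = 1 := by
    rcases hord φ with h | h
    · exact h
    · exfalso
      apply hφ1
      have h4 : φ ^ 2 ^ 2 = 1 := by
        rw [← h, show (2 ^ 2 : ℕ) = 4 by norm_num]; simp only [pow_succ, pow_zero, one_mul]
      have h5 : orderOf φ ∣ Nat.gcd (2 ^ 2) (orderOf x) :=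
        Nat.dvd_gcd (orderOf_dvd_of_pow_eq_one h4) (orderOf_dvd_of_pow_eq_one hφn)
      have h6 : Nat.gcd (2 ^ 2) (orderOf x) = 1 := Nat.Coprime.pow_left 2 (Nat.coprime_two_left.2 ho)
      rw [h6, Nat.dvd_one, orderOf_eq_one_iff] at h5
      exact h5
  have hx3 : ∃ c : Kˣ, x * x * x = sc c := by
    refine hscal (x * x * x) (mul_mem (mul_mem hxN hxN) hxN) ?_
    have : (⟨x * x * x, mul_mem (mul_mem hxN hxN) hxN⟩ : normalizer (Q : Set ((Fin 2 → K) ≃ₗ[K] (Fin 2 → K)))) =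
      ⟨x, hxN⟩ * ⟨x, hxN⟩ * ⟨x, hxN⟩ := rfl
    rw [this, map_mul, map_mul]
    exact hφ3
  obtain ⟨c3, hc3⟩ := hx3
  -- the element of `P` with nonsquare determinant commuting with `x`
  obtain ⟨c0, hc0, hns⟩ := sq_ne two D2 hneg
  obtain ⟨p, hpP, hpd⟩ := hdet c0 hc0
  have hfmem : ∀ q ∈ Q, p⁻¹ * (x * (p * q) * x⁻¹) ∈ Q := by
    intro q hq
    refine ⟨P.mul_mem (P.inv_mem hpP) (hx _ (P.mul_mem hpP hq.1)), ?_⟩
    have h2 : LinearEquiv.det q = 1 := hq.2
    show LinearEquiv.det (p⁻¹ * (x * (p * q) * x⁻¹)) = 1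
    rw [map_mul, map_mul, map_mul, map_mul, h2, mul_one, map_inv, map_inv]
    rw [mul_comm (LinearEquiv.det x) (LinearEquiv.det p), mul_assoc, mul_inv_cancel, mul_one, inv_mul_cancel]
  let f : Q → Q := fun q => ⟨p⁻¹ * (x * (p * q) * x⁻¹), hfmem q q.2⟩
  have hfval : ∀ q : Q, ((f q : Q) : (Fin 2 → K) ≃ₗ[K] (Fin 2 → K)) = p⁻¹ * (x * (p * q) * x⁻¹) := fun q => rfl
  have hf3 : ∀ q : Q, f (f (f q)) = q := by
    intro q
    apply Subtype.ext
    rw [hfval, hfval, hfval]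
    have h1 : p⁻¹ * (x * (p * (p⁻¹ * (x * (p * (p⁻¹ * (x * (p * (q : (Fin 2 → K) ≃ₗ[K] (Fin 2 → K))) * x⁻¹))) * x⁻¹))) * x⁻¹) =
        p⁻¹ * ((x * x * x) * (p * q) * (x * x * x)⁻¹) := by group
    rw [h1, hc3, sc_comm, mul_inv_cancel_right, inv_mul_cancel_left]
  have hfb : Function.Bijective f := by
    constructor
    · intro q r hqr
      rw [← hf3 q, ← hf3 r, hqr]
    · intro q
      exact ⟨f (f q), hf3 q⟩
  let σ : Perm Q := Equiv.ofBijective f hfb
  have hσ : σ ^ 3 ^ 1 = 1 := by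
    ext q
    have : (σ ^ 3 ^ 1) q = f (f (f q)) := by
      rw [pow_one, pow_succ, pow_succ, pow_one]
      rfl
    rw [this, hf3]
    rfl
  have hFQ : Fintype Q := Fintype.ofFinite _
  have hcard : Fintype.card Q = 8 := by
    rw [← Nat.card_eq_fintype_card, Cfsg.Agent.S2934.card_of_equiv e]
  have : Fact (Nat.Prime 3) := ⟨Nat.prime_three⟩
  obtain ⟨q, hq⟩ := Equiv.Perm.exists_fixed_point_of_prime (p := 3) (n := 1) (by rw [hcard]; norm_num) hσ
  have hq' : f q = q := hq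
  have hq2 : x * (p * q) * x⁻¹ = p * q := by
    have := congrArg Subtype.val hq'
    rw [hfval] at this
    rwa [inv_mul_eq_iff_eq_mul] at this
  set r : (Fin 2 → K) ≃ₗ[K] (Fin 2 → K) := p * q with hr
  have hrP : r ∈ P := mul_mem hpP q.2.1
  have hrd : LinearEquiv.det r = c0 := by
    have h2 : LinearEquiv.det (q : (Fin 2 → K) ≃ₗ[K] (Fin 2 → K)) = 1 := q.2.2
    rw [hr, map_mul, hpd, h2, mul_one]
  have hrx : x * r = r * x := mul_inv_eq_iff_eq_mul.1 hq2
  have hrN := hnorm r fun y hy => mul_mem (mul_mem hrP hy) (inv_mem hrP)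
  set χ := Q.normalizerMonoidHom ⟨r, hrN⟩ with hχ
  have hcomm : φ * χ = χ * φ := by
    rw [hφ, hχ, ← map_mul, ← map_mul]
    congr 1
    exact Subtype.ext hrx
  have hχ4 : χ * χ * χ * χ = 1 := by
    rcases hord χ with h | h
    · obtain ⟨k, hk⟩ := hP ⟨r, hrP⟩
      have hk' : r ^ 2 ^ k = 1 := congrArg Subtype.val hk
      have h1 : χ ^ 2 ^ k = 1 := by
        rw [hχ, ← map_pow]
        have : (⟨r, hrN⟩ : normalizer (Q : Set ((Fin 2 → K) ≃ₗ[K] (Fin 2 → K)))) ^ 2 ^ k = 1 := Subtype.ext hk'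
        rw [this, map_one]
      have h3 : χ ^ 3 = 1 := by rw [← h]; simp only [pow_succ, pow_zero, one_mul]
      have h5 : orderOf χ ∣ Nat.gcd (2 ^ k) 3 :=
        Nat.dvd_gcd (orderOf_dvd_of_pow_eq_one h1) (orderOf_dvd_of_pow_eq_one h3)
      have h6 : Nat.gcd (2 ^ k) 3 = 1 := Nat.Coprime.pow_left k (by norm_num)
      rw [h6, Nat.dvd_one, orderOf_eq_one_iff] at h5
      rw [h5]; simp
    · exact h
  have hθ : θ χ = 1 := by
    refine perm_four (θ φ) (θ χ) ?_ ?_ ?_ ?_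
    · rw [← map_mul, ← map_mul, hφ3, map_one]
    · intro h
      exact hφ1 (θ.injective (by rw [h, map_one]))
    · have := congrArg θ hcomm
      rwa [map_mul, map_mul] at this
    · rw [← map_mul, ← map_mul, ← map_mul, hχ4, map_one]
  have hχ1 : χ = 1 := θ.injective (by rw [hθ, map_one])
  obtain ⟨d, hd⟩ := hscal r hrN hχ1
  have hdD : d ∈ D2 := hsc d (hd ▸ hrP)
  refine hns d hdD ?_
  rw [← hrd, hd, sc, det_dg, Fin.prod_univ_two]

end Cfsg.Agent.H201.RankTwo
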