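import Cfsg.Agent.H201.NatSys
import Cfsg.Agent.LieClassical.GUOrder
import Cfsg.Agent.S0277

/-!
# The rows of the unitary groups (helper201)
-/

set_option autoImplicit false

namespace Cfsg.Agent.H201.RowSU

open Matrix Cfsg.Agent.H201.MatSys Cfsg.Agent.H201.MatSpec Cfsg.Agent.H630.NH Cfsg.Agent.LieClassical

section
variable {F : Type} [Field F] {m n : Type} [Fintype m] [DecidableEq m] [Fintype n] [DecidableEq n]

/-- base change by a permutation -/
def bcEquiv (e : n ≃ m) : BC m n F where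
  P := (1 : Matrix m m F).submatrix id e
  P' := (1 : Matrix m m F).submatrix e id
  h1 := by
    rw [Matrix.submatrix_mul_equiv, Matrix.mul_one, Matrix.submatrix_id_id]
  h2 := by
    have h := Matrix.submatrix_mul_equiv (1 : Matrix m m F) (1 : Matrix m m F) e (Equiv.refl m) e
    simp only [Equiv.coe_refl] at h
    rw [h, Matrix.mul_one, Matrix.submatrix_one_equiv]

theorem bcEquiv_hom (e : n ≃ m) (A : Matrix n n F) :
    (bcEquiv (F := F) e).P * A * (bcEquiv (F := F) e).P' = A.submatrix e.symm e.symm := by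
  ext i j
  simp only [bcEquiv, Matrix.mul_apply, Matrix.submatrix_apply, id, Matrix.one_apply]
  simp only [ite_mul, one_mul, zero_mul, mul_ite, mul_one, mul_zero]
  rw [Finset.sum_eq_single (e.symm j), Finset.sum_eq_single (e.symm i)]
  · simp
  · intro b _ hb
    rw [if_neg]
    intro h
    exact hb (by rw [h, e.symm_apply_apply])
  · intro h
    exact absurd (Finset.mem_univ _) h
  · intro b _ hb
    rw [if_neg]
    intro h
    exact hb (by rw [← h, e.symm_apply_apply])
  · intro h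
    exact absurd (Finset.mem_univ _) h
end

variable {F : Type} [Field F] [Fintype F] {q : ℕ}

theorem mem_iff (hF : Fintype.card F = q ^ 2) {n : ℕ} (g : GL (Fin n) F) :
    g ∈ Cfsg.GU n F q ↔ (g : Matrix (Fin n) (Fin n) F)ᵀ * (g : Matrix (Fin n) (Fin n) F).map (GUOrder.frob hF) = 1 := by
  rw [GUOrder.mem_GU_iff, GUOrder.mul_map_eq_one_iff hF]

theorem dec (hF : Fintype.card F = q ^ 2) (a b : ℕ) :
    (natFm (fun n => Fin n) (fun n => Cfsg.GU n F q)).Dec a b (a + b) := by
  refine ⟨bcEquiv finSumFinEquiv, fun x y => ?_⟩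
  rw [mem_iff hF, mem_iff hF, mem_iff hF, BC.coe_gl, bcEquiv_hom, Matrix.transpose_submatrix]
  have h1 : (((fromBlocks (x : Matrix (Fin a) (Fin a) F) 0 0 (y : Matrix (Fin b) (Fin b) F)).submatrix
      finSumFinEquiv.symm finSumFinEquiv.symm).map (GUOrder.frob hF)) =
      (fromBlocks ((x : Matrix (Fin a) (Fin a) F).map (GUOrder.frob hF)) 0 0
        ((y : Matrix (Fin b) (Fin b) F).map (GUOrder.frob hF))).submatrix finSumFinEquiv.symm finSumFinEquiv.symm := by
    rw [← Matrix.submatrix_map, fromBlocks_map, Matrix.map_zero _ (map_zero _), Matrix.map_zero _ (map_zero _)]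
  rw [h1, Matrix.submatrix_mul_equiv, fromBlocks_transpose, Matrix.transpose_zero, Matrix.transpose_zero,
    fromBlocks_multiply]
  simp only [Matrix.mul_zero, Matrix.zero_mul, add_zero, zero_add]
  constructor
  · rintro ⟨h2, h3⟩
    rw [h2, h3, fromBlocks_one, Matrix.submatrix_one_equiv]
  · intro h2
    have h3 := congrArg (fun A => Matrix.submatrix A (finSumFinEquiv (m := a) (n := b)) finSumFinEquiv) h2
    simp only [Matrix.submatrix_submatrix, Equiv.symm_comp_self, Matrix.submatrix_id_id,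
      Matrix.submatrix_one_equiv] at h3
    rw [← fromBlocks_one, fromBlocks_inj] at h3
    exact ⟨h3.1, h3.2.2.2⟩

theorem exists_pow (hF : Fintype.card F = q ^ 2) (r : ℕ) [Fact r.Prime] [CharP F r] : ∃ k : ℕ, q = r ^ k := by
  obtain ⟨n, hpp, hn⟩ := FiniteField.card F r
  have hdvd : q ∣ r ^ (n : ℕ) := by
    rw [← hn, hF]; exact dvd_pow_self q two_ne_zero
  obtain ⟨k, -, hk⟩ := (Nat.dvd_prime_pow hpp).1 hdvd
  exact ⟨k, hk⟩

theorem closure_exp (hF : Fintype.card F = q ^ 2) (r : ℕ) [Fact r.Prime] [CharP F r] (n : ℕ) (x : Cfsg.GU n F q) :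
    ∀ z ∈ sp (algebraMap F (AlgebraicClosure F)) ((x : GL (Fin n) F) : Matrix (Fin n) (Fin n) F),
      ∀ c ∈ ({-(q : ℤ)} : Set ℤ), z ^ c ∈
        sp (algebraMap F (AlgebraicClosure F)) ((x : GL (Fin n) F) : Matrix (Fin n) (Fin n) F) := by
  intro z hz c hc
  rw [Set.mem_singleton_iff] at hc
  subst hc
  obtain ⟨k, hk⟩ := exists_pow hF r
  have hchar : CharP (AlgebraicClosure F) r := charP_of_injective_ringHom (algebraMap F (AlgebraicClosure F)).injective r
  have h1 := sp_map (p := r) (k := k) (GUOrder.frob hF) (fun x => by rw [GUOrder.frob_apply, hk]) _ hz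
  rw [← sp_transpose, ← hk] at h1
  have h2 := (mem_iff hF (x : GL (Fin n) F)).1 x.2
  have h3 := congrArg Matrix.transpose h2
  rw [Matrix.transpose_mul, Matrix.transpose_transpose, Matrix.transpose_one] at h3
  have h4 := (sp_inv h3 h1).2
  rwa [_root_.zpow_neg, zpow_natCast]

theorem natAbs_prod (q : ℕ) (hq : 2 ≤ q) (n : ℕ) :
    ∏ i ∈ Finset.range n, (if Even i then q ^ (i + 1) + 1 else q ^ (i + 1) - 1) =
      (∏ i ∈ Finset.range n, ((-(q : ℤ)) ^ (i + 1) - 1)).natAbs := by
  rw [← Int.natAbsHom_apply, map_prod]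
  refine Finset.prod_congr rfl fun i _ => ?_
  rw [Int.natAbsHom_apply]
  have h1 : 1 ≤ q ^ (i + 1) := Nat.one_le_pow _ _ (by omega)
  split_ifs with h
  · have ho : Odd (i + 1) := h.add_one
    rw [ho.neg_pow, ← neg_add', Int.natAbs_neg]
    have : ((q : ℤ) ^ (i + 1) + 1) = ((q ^ (i + 1) + 1 : ℕ) : ℤ) := by push_cast; ring
    rw [this, Int.natAbs_natCast]
  · have he : Even (i + 1) := by
      rw [Nat.even_add_one]
      exact h
    rw [he.neg_pow]
    have : ((q : ℤ) ^ (i + 1) - 1) = ((q ^ (i + 1) - 1 : ℕ) : ℤ) := by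
      rw [Nat.cast_sub h1]
      push_cast
      ring
    rw [this, Int.natAbs_natCast]

theorem crossRow_ker (hF : Fintype.card F = q ^ 2) (r : ℕ) [Fact r.Prime] [CharP F r] (n : ℕ) :
    CrossRow r (GUOrder.detGU n F q).ker := by
  have hq := GUOrder.two_le hF
  obtain ⟨k, hk⟩ := exists_pow hF r
  have hr : r.Prime := Fact.out
  have hs : ∀ s : ℕ, s.Prime → s ≠ r → ¬ (s : ℤ) ∣ -(q : ℤ) := by
    intro s hs hsr hd
    rw [Int.dvd_neg, Int.natCast_dvd_natCast, hk] at hd
    exact hsr ((Nat.prime_dvd_prime_iff_eq hs hr).1 (hs.dvd_of_dvd_pow hd))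
  refine natSys_crossRow_ker (F := F) (fun n => Fin n) (fun n => Cfsg.GU n F q) r (fun n => by simp)
    (-(q : ℤ)) ?_ hs (dec hF) {-(q : ℤ)} (closure_exp hF r) ?_ ?_ (powMonoidHom (q + 1) : Fˣ →* Fˣ).ker ?_ ?_ ?_ n
  · intro i hi h
    have h1 := congrArg Int.natAbs h
    rw [Int.natAbs_pow, Int.natAbs_neg, Int.natAbs_natCast, Int.natAbs_one] at h1
    have h2 := Nat.one_lt_pow hi (show 1 < q by omega)
    omega
  · intro s hs1 _ hsr
    have : Fact s.Prime := ⟨hs1⟩
    rw [card_Hs_singleton (hs s hs1 hsr), one_mul]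
  · intro n
    refine ⟨k * (n * (n - 1) / 2), ?_⟩
    rw [S0277.result hF n, natAbs_prod q hq n, hk, ← pow_mul]
  · intro n x
    rcases Nat.eq_zero_or_pos n with rfl | hn
    · have h0 : Matrix.GeneralLinearGroup.det (x : GL (Fin 0) F) = 1 := by
        apply Units.ext
        exact Matrix.det_isEmpty
      rw [h0]
      exact one_mem _
    · rw [← GUOrder.range_detGU hF hn]
      exact ⟨x, rfl⟩
  · intro u hu
    rw [← GUOrder.range_detGU hF le_rfl] at hu
    exact hu
  · intro s hd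
    rw [GUOrder.card_ker_pow hF] at hd
    have h1 : (s : ℤ) ∣ ((q + 1 : ℕ) : ℤ) := Int.natCast_dvd_natCast.2 hd
    have h2 : -(q : ℤ) - 1 = -((q + 1 : ℕ) : ℤ) := by push_cast; ring
    rw [h2, Int.dvd_neg]
    exact h1

/-- **The row of `SU_n(q)` in cross characteristic** -/
theorem crossRow_SU (r : ℕ) [Fact r.Prime] (F : Type) [Field F] [Fintype F] [CharP F r] (n q : ℕ)
    (hF : Fintype.card F = q ^ 2) (_hn : 3 ≤ n) : CrossRow r ↥(SU n F q) := by
  refine (crossRow_ker hF r n).congr { GUOrder.kerEquiv (F := F) (q := q) n with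
    map_mul' := fun x y => Subtype.ext (Subtype.ext rfl) }

end Cfsg.Agent.H201.RowSU
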