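import Cfsg.Agent.H201.SysTwo

/-!
# `PSL_4(q)`, `PSL_5(q)`, `q = 3 mod 4`, and `PSU_4(q)`, `PSU_5(q)`, `q = 1 mod 4` (helper201, S3311)
-/

set_option autoImplicit false

namespace Cfsg.Agent.H201.SysRows

open Subgroup Equiv Cfsg
open Cfsg.Agent.FooteOdd Cfsg.Agent.H201.OddCent
open Cfsg.Agent.LieClassical.GUOrder (frob frob_apply frob_frob two_le)
open Cfsg.Agent.LieClassical.SUBasic (mem_center_SU_iff)
open Matrix (SpecialLinearGroup ProjectiveSpecialLinearGroup)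

variable {K : Type*} [Field K]

theorem m2_anti (α β : K) (h1 : (0 : K) * (-0) - (-1) * 1 = 1) (h2 : α * (-α) - β * β = 1) :
    m2 0 (-1) 1 (-0) h1 * m2 α β β (-α) h2 = sc (-1) * (m2 α β β (-α) h2 * m2 0 (-1) 1 (-0) h1) := by
  apply LinearEquiv.ext
  intro v
  rw [LinearEquiv.mul_apply, LinearEquiv.mul_apply, LinearEquiv.mul_apply, m2_apply, m2_apply, m2_apply, m2_apply, sc_apply]
  funext i
  fin_cases i
  · simp
    ring
  · simp

theorem pm_of {c : Kˣ} {n : ℕ} (hn : n % 4 = 2) (h : c ^ n = 1) (h2 : ∃ k : ℕ, c ^ 2 ^ k = 1) : c = 1 ∨ c = -1 := by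
  obtain ⟨k, hk⟩ := h2
  obtain ⟨j, -, hj⟩ := (Nat.dvd_prime_pow Nat.prime_two).1 (orderOf_dvd_of_pow_eq_one hk)
  have hd := orderOf_dvd_of_pow_eq_one h
  rw [hj] at hd
  have hj1 : j ≤ 1 := by
    by_contra hcon
    have h4 : 2 ^ 2 ∣ n := (pow_dvd_pow 2 (by omega)).trans hd
    omega
  have hsq : c ^ 2 = 1 := by
    apply orderOf_dvd_iff_pow_eq_one.1
    rw [hj]
    calc 2 ^ j ∣ 2 ^ 1 := pow_dvd_pow 2 hj1
      _ = 2 := by norm_num
  have h3 : (c : K) * c = 1 := by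
    have := congrArg Units.val hsq
    rw [Units.val_pow_eq_pow_val, pow_two] at this
    exact this
  rcases mul_self_eq_one_iff.1 h3 with h | h
  · left
    exact Units.ext h
  · right
    apply Units.ext
    rw [h]
    simp

/-- `PSL_4(q)`, `PSL_5(q)`, `q = 3 mod 4` -/
theorem psl_oc {r : ℕ} (hr : r ≤ 1) {F : Type*} [Field F] [Fintype F] (hF : Fintype.card F % 4 = 3)
    (S : Sylow 2 (ProjectiveSpecialLinearGroup (Fin (4 + r)) F)) : OC (S : Subgroup (ProjectiveSpecialLinearGroup (Fin (4 + r)) F)) := by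
  classical
  have two : (2 : F) ≠ 0 := two_of_odd (Nat.odd_iff.2 (by omega))
  have hsub : Subsingleton (Fin r) := Fin.subsingleton_iff_le_one.2 hr
  have hnn : Nonempty (Fin (4 + r)) := ⟨⟨0, by omega⟩⟩
  have hne2 : Nonempty (Fin 2) := ⟨0⟩
  set s := glSys F two 2 r hr with hs
  have hcard : Fintype.card (Ix (Fin 2) (Fin r)) = 4 + r := by
    simp
  let e : Ix (Fin 2) (Fin r) ≃ Fin (4 + r) := Fintype.equivFinOfCardEq hcard
  have hΓ : s.Γ ≤ (LinearEquiv.det : _ →* Fˣ).ker := inf_le_right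
  have hΓ' : ∀ g, g ∈ (LinearEquiv.det : ((Ix (Fin 2) (Fin r) → F) ≃ₗ[F] _) →* Fˣ).ker → g ∈ s.Γ :=
    fun g hg => ⟨mem_top _, hg⟩
  let ψ : ↥s.Γ →* ProjectiveSpecialLinearGroup (Fin (4 + r)) F :=
    (QuotientGroup.mk' (center (SpecialLinearGroup (Fin (4 + r)) F))).comp (toSL.comp ((reKer e).comp (inclusion hΓ)))
  have hf1 : Finite ((Ix (Fin 2) (Fin r) → F) ≃ₗ[F] (Ix (Fin 2) (Fin r) → F)) := Finite.of_injective _ DFunLike.coe_injective
  have hfin : Finite (ProjectiveSpecialLinearGroup (Fin (4 + r)) F) :=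
    Finite.of_surjective (QuotientGroup.mk' (center (SpecialLinearGroup (Fin (4 + r)) F))) (QuotientGroup.mk'_surjective _)
  obtain ⟨T⟩ : Nonempty (Sylow 2 s.Γ) := inferInstance
  refine OC.of_surj ψ ?_ ?_ (T := T) (SysTwo.sys_oc two s ?_ ?_ ?_ T) S
  · intro x
    obtain ⟨A, rfl⟩ := QuotientGroup.mk'_surjective _ x
    obtain ⟨g, rfl⟩ := toSL_surjective A
    obtain ⟨h, rfl⟩ := reKer_surjective e g
    exact ⟨⟨h, hΓ' _ h.2⟩, rfl⟩
  · intro g hg x
    have h1 : ∃ c : Fˣ, (g : (Ix (Fin 2) (Fin r) → F) ≃ₗ[F] _) = sc c := by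
      change (QuotientGroup.mk' (center (SpecialLinearGroup (Fin (4 + r)) F))) (toSL (reKer e (inclusion hΓ g))) = 1 at hg
      rw [QuotientGroup.mk'_apply, QuotientGroup.eq_one_iff, toSL_mem_center, reKer_scalar] at hg
      exact hg
    obtain ⟨c, hc⟩ := h1
    apply Subtype.ext
    show (g : (Ix (Fin 2) (Fin r) → F) ≃ₗ[F] _) * x.1 = x.1 * g.1
    rw [hc, sc_comm]
  · intro c _ h2
    have h1 : c ^ (Fintype.card F - 1) = 1 := by
      rw [← Fintype.card_units]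
      exact pow_card_eq_one
    exact pm_of (n := Fintype.card F - 1) (by omega) h1 h2
  · intro c _
    exact mem_top _
  · obtain ⟨α, β, h⟩ := exists_norm_eq two (c := (-1 : F)) (by norm_num) (-1)
    have h1 : (0 : F) * (-0) - (-1) * 1 = 1 := by ring
    have h2 : α * (-α) - β * β = 1 := by linear_combination -h
    exact ⟨_, mem_top _, _, mem_top _, det_m2 _ _ _ _ h1, det_m2 _ _ _ _ h2, m2_sq_of_trace _ _ _ h1,
      m2_sq_of_trace _ _ _ h2, m2_anti α β h1 h2⟩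

/-- `PSU_4(q)`, `PSU_5(q)`, `q = 1 mod 4` -/
theorem psu_oc {r : ℕ} (hr : r ≤ 1) {K : Type*} [Field K] [Fintype K] {q : ℕ} (hF : Fintype.card K = q ^ 2)
    (hq : q % 4 = 1) (S : Sylow 2 (PSU (4 + r) K q)) : OC (S : Subgroup (PSU (4 + r) K q)) := by
  have two : (2 : K) ≠ 0 := two_of_odd (by
    rw [hF]
    exact (Nat.odd_iff.2 (by omega) : Odd q).pow)
  have hn : 3 ≤ 4 + r := by omega
  have hsub : Subsingleton (Fin r) := Fin.subsingleton_iff_le_one.2 hr
  have hnn : Nonempty (Fin (4 + r)) := ⟨⟨0, by omega⟩⟩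
  have hne2 : Nonempty (Fin 2) := ⟨0⟩
  set s := guSys hF two 2 r hr with hs
  have hcard : Fintype.card (Ix (Fin 2) (Fin r)) = 4 + r := by
    simp
  let e : Ix (Fin 2) (Fin r) ≃ Fin (4 + r) := Fintype.equivFinOfCardEq hcard
  have hΓ : s.Γ ≤ (LinearEquiv.det : _ →* Kˣ).ker := inf_le_right
  have hfinSU : Finite (SU (4 + r) K q) := inferInstance
  have hfin : Finite (PSU (4 + r) K q) :=
    Finite.of_surjective (QuotientGroup.mk' (center (SU (4 + r) K q))) (QuotientGroup.mk'_surjective _)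
  have hf1 : Finite ((Ix (Fin 2) (Fin r) → K) ≃ₗ[K] (Ix (Fin 2) (Fin r) → K)) := Finite.of_injective _ DFunLike.coe_injective
  let φ : ↥s.Γ →* SU (4 + r) K q := MonoidHom.codRestrict (toSL.comp ((reKer e).comp (inclusion hΓ))) (SU (4 + r) K q) fun g => by
    change toSL (reKer e (inclusion hΓ g)) ∈ _
    rw [toSL_mem_SU hF]
    exact (cjE_mem_gu hF e _).2 g.2.1
  have hφ : Function.Surjective φ := by
    rintro ⟨A, hA⟩
    obtain ⟨g, rfl⟩ := toSL_surjective A
    obtain ⟨h, rfl⟩ := reKer_surjective e g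
    rw [toSL_mem_SU hF] at hA
    exact ⟨⟨h, (cjE_mem_gu hF e _).1 hA, h.2⟩, rfl⟩
  let ψ : ↥s.Γ →* PSU (4 + r) K q := (QuotientGroup.mk' (center (SU (4 + r) K q))).comp φ
  obtain ⟨T⟩ : Nonempty (Sylow 2 s.Γ) := inferInstance
  refine OC.of_surj ψ ?_ ?_ (T := T) (SysTwo.sys_oc two s ?_ ?_ ?_ T) S
  · intro x
    obtain ⟨A, rfl⟩ := QuotientGroup.mk'_surjective _ x
    obtain ⟨g, rfl⟩ := hφ A
    exact ⟨g, rfl⟩
  · intro g hg x
    have h1 : ∃ c : Kˣ, (g : (Ix (Fin 2) (Fin r) → K) ≃ₗ[K] _) = sc c := by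
      change (QuotientGroup.mk' (center (SU (4 + r) K q))) (φ g) = 1 at hg
      rw [QuotientGroup.mk'_apply, QuotientGroup.eq_one_iff] at hg
      obtain ⟨c, hcn, hcq, hc⟩ := (mem_center_SU_iff hF hn _).1 hg
      have h2 : toSL (reKer e (inclusion hΓ g)) ∈ center (SpecialLinearGroup (Fin (4 + r)) K) := by
        rw [Matrix.SpecialLinearGroup.mem_center_iff]
        refine ⟨c, by rw [Fintype.card_fin]; exact hcn, ?_⟩
        have h2 := congrArg (fun X : SU (4 + r) K q => ((X : SpecialLinearGroup (Fin (4 + r)) K) : Matrix (Fin (4 + r)) (Fin (4 + r)) K)) hc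
        exact h2.symm
      rw [toSL_mem_center, reKer_scalar] at h2
      exact h2
    obtain ⟨c, hc⟩ := h1
    apply Subtype.ext
    show (g : (Ix (Fin 2) (Fin r) → K) ≃ₗ[K] _) * x.1 = x.1 * g.1
    rw [hc, sc_comm]
  · intro c hc h2
    have h1 : c ^ (q + 1) = 1 := hc
    exact pm_of (n := q + 1) (by omega) h1 h2
  · intro c hc
    have h1 := hc (Pi.single 0 1) (Pi.single 0 1)
    rw [sc_apply, hB_smul_left, hB_smul_right, hB_single_left] at h1
    simp only [Pi.single_eq_same, mul_one, frob_apply] at h1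
    show c ^ (q + 1) = 1
    apply Units.ext
    rw [Units.val_pow_eq_pow_val, pow_succ, h1, Units.val_one]
  · obtain ⟨δ, hδ0, hδ⟩ := exists_skew hF
    have hν : frob hF (δ * δ) = δ * δ := by rw [map_mul, hδ]; ring
    let K0 : Subfield K := (frob hF).eqLocusField (RingHom.id K)
    have hK0 : ∀ x : K0, frob hF (x : K) = x := fun x => x.2
    have hd : -(δ * δ)⁻¹ ∈ K0 := by
      show frob hF (-(δ * δ)⁻¹) = -(δ * δ)⁻¹
      rw [map_neg, map_inv₀, hν]
    have two0 : (2 : K0) ≠ 0 := by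
      intro h
      apply two
      exact congrArg Subtype.val h
    obtain ⟨α, β, h⟩ := exists_norm_eq two0 (c := (-1 : K0)) (by norm_num) ⟨_, hd⟩
    have hv : (α : K) * α - (-1) * ((β : K) * β) = -(δ * δ)⁻¹ := congrArg Subtype.val h
    have hv2 : (δ * α) * (δ * α) + (δ * β) * (δ * β) = -1 := by
      have : (δ * δ) * (δ * δ)⁻¹ = 1 := mul_inv_cancel₀ (mul_ne_zero hδ0 hδ0)
      linear_combination (δ * δ) * hv - this
    have hα : frob hF (δ * α) = -(δ * α) := by rw [map_mul, hδ, hK0]; ring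
    have hβ : frob hF (δ * β) = -(δ * β) := by rw [map_mul, hδ, hK0]; ring
    generalize δ * (α : K) = a at hv2 hα
    generalize δ * (β : K) = b at hv2 hβ
    have h1 : (0 : K) * (-0) - (-1) * 1 = 1 := by ring
    have h2 : a * (-a) - b * b = 1 := by linear_combination -hv2
    refine ⟨m2 0 (-1) 1 (-0) h1, ?_, m2 a b b (-a) h2, ?_, det_m2 _ _ _ _ h1, det_m2 _ _ _ _ h2, m2_sq_of_trace _ _ _ h1,
      m2_sq_of_trace _ _ _ h2, m2_anti a b h1 h2⟩
    · show m2 0 (-1) 1 (-0) h1 ∈ gu hF (Fin 2)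
      intro u v
      rw [hB_two, hB_two, m2_apply, m2_apply]
      simp
      ring
    · show m2 a b b (-a) h2 ∈ gu hF (Fin 2)
      intro u v
      rw [hB_two, hB_two, m2_apply, m2_apply]
      simp only [Matrix.cons_val_zero, Matrix.cons_val_one, map_add, map_mul, map_neg, hα, hβ]
      linear_combination (frob hF (u 0) * v 0 + frob hF (u 1) * v 1) * h2

end Cfsg.Agent.H201.SysRows
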