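import Cfsg.Agent.H201.Blocks

/-!
# Elements of odd order normalizing a Sylow 2-subgroup of `PSL_4`, `PSL_5`, `PSU_4`, `PSU_5` (helper201, S3311)
-/

set_option autoImplicit false

namespace Cfsg.Agent.H201.SysTwo

open Subgroup Equiv
open Cfsg.Agent.FooteOdd Cfsg.Agent.H201.OddCent
open Cfsg.Agent.ClosedTwo.Elem
open Matrix (SpecialLinearGroup ProjectiveSpecialLinearGroup)

variable {K : Type*} [Field K]

/-- two anticommuting elements of square `-1` generate a 2-group -/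
theorem isPGroup_pair {n : Type*} {a b : (n → K) ≃ₗ[K] (n → K)} (ha : a * a = sc (-1)) (hb : b * b = sc (-1))
    (hab : a * b = sc (-1) * (b * a)) : IsPGroup 2 (zpowers b ⊔ zpowers a : Subgroup ((n → K) ≃ₗ[K] (n → K))) := by
  have h4 : ∀ c : (n → K) ≃ₗ[K] (n → K), c * c = sc (-1) → c ^ 2 ^ 2 = 1 := by
    intro c hc
    rw [show (2 ^ 2 : ℕ) = 2 + 2 by norm_num, pow_add, pow_two, hc, ← sc_mul, neg_mul_neg, one_mul]
    exact map_one dg
  refine IsPGroup.to_sup_of_normal_left' (isPGroup_zpowers (h4 b hb)) (isPGroup_zpowers (h4 a ha)) ?_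
  rw [zpowers_le, mem_normalizer_iff]
  have hbi : a * b * a⁻¹ = b⁻¹ := by
    rw [hab, ← hb]
    have : b * b * (b * a) * a⁻¹ = b * b * b := by group
    rw [this, eq_inv_iff_mul_eq_one, mul_assoc, hb, ← sc_mul, neg_mul_neg, one_mul]
    exact map_one dg
  have hc : ∀ m : ℤ, a * b ^ m * a⁻¹ = b⁻¹ ^ m := by
    intro m
    rw [← hbi, conj_zpow]
  intro x
  constructor
  · intro hx
    obtain ⟨m, rfl⟩ := mem_zpowers_iff.1 hx
    rw [hc, inv_zpow]
    exact inv_mem (zpow_mem (mem_zpowers b) m)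
  · intro hx
    obtain ⟨m, hm⟩ := mem_zpowers_iff.1 hx
    have h2 : x = (b⁻¹) ^ m := by
      have h3 : a * (b⁻¹) ^ m * a⁻¹ = b ^ m := by
        rw [inv_zpow', hc, inv_zpow', neg_neg]
      rw [hm] at h3
      exact (mul_left_cancel (mul_right_cancel h3)).symm
    rw [h2, inv_zpow]
    exact inv_mem (zpow_mem (mem_zpowers b) m)

theorem sys_oc [Finite K] {r : ℕ} [Subsingleton (Fin r)] (two : (2 : K) ≠ 0) (s : Sys K (Fin 2) (Fin r))
    (hD : ∀ c ∈ s.D, (∃ k : ℕ, c ^ 2 ^ k = 1) → c = 1 ∨ c = -1)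
    (hsc : ∀ c : Kˣ, sc c ∈ s.L2 → c ∈ s.D)
    (hna : ∃ a ∈ s.L2, ∃ b ∈ s.L2, LinearEquiv.det a = 1 ∧ LinearEquiv.det b = 1 ∧ a * a = sc (-1) ∧ b * b = sc (-1) ∧
      a * b = sc (-1) * (b * a))
    (T : Sylow 2 s.Γ) : OC (T : Subgroup s.Γ) := by
  have hp : Fact (Nat.Prime 2) := ⟨Nat.prime_two⟩
  have hf1 : Finite ((Ix (Fin 2) (Fin r) → K) ≃ₗ[K] (Ix (Fin 2) (Fin r) → K)) := Finite.of_injective _ DFunLike.coe_injective
  have hf2 : Finite ((Fin 2 → K) ≃ₗ[K] (Fin 2 → K)) := Finite.of_injective _ DFunLike.coe_injective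
  -- the Sylow subgroups
  set SD : Sylow 2 ↥s.D := default with hSD
  set D2 : Subgroup Kˣ := (SD : Subgroup ↥s.D).map s.D.subtype with hD2
  have hD2le : D2 ≤ s.D := map_subtype_le _
  have hD2P : IsPGroup 2 ↥D2 := SD.2.map _
  have hD2card : Nat.card D2 = 2 ^ (Nat.card s.D).factorization 2 := by
    rw [hD2, card_map_of_injective (subtype_injective _)]
    exact SD.card_eq_multiplicity
  have hD2mem : ∀ c ∈ s.D, ∀ k : ℕ, c ^ 2 ^ k = 1 → c ∈ D2 := by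
    intro c hc k hk
    exact ⟨⟨c, hc⟩, mem_sylow_of_comm SD (n := k) (Subtype.ext hk), rfl⟩
  obtain ⟨nD, hnD⟩ := IsPGroup.iff_card.1 hD2P
  have hD2pow : ∀ c ∈ D2, c ^ 2 ^ nD = 1 := by
    intro c hc
    have := orderOf_dvd_natCard (⟨c, hc⟩ : ↥D2)
    rw [hnD] at this
    exact congrArg Subtype.val (orderOf_dvd_iff_pow_eq_one.1 this)
  have hD2pm : ∀ c ∈ D2, c = 1 ∨ c = -1 := fun c hc => hD c (hD2le hc) ⟨nD, hD2pow c hc⟩
  have hneg : (-1 : Kˣ) ∈ D2 := hD2mem _ s.neg 1 (by simp)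
  obtain ⟨SL, hSL⟩ : ∃ SL : Sylow 2 ↥s.L2, ∀ d : Fin 2 → Kˣ, (∀ i, d i ∈ D2) → ∀ h : dg d ∈ s.L2, (⟨dg d, h⟩ : ↥s.L2) ∈ (SL : Subgroup ↥s.L2) := by
    have h1 : IsPGroup 2 ↥((((Subgroup.pi Set.univ fun _ : Fin 2 => D2).map (dg : _ →* ((Fin 2 → K) ≃ₗ[K] (Fin 2 → K)))).subgroupOf s.L2)) := by
      rintro ⟨⟨x, hx⟩, ⟨d, hd, hdx⟩⟩
      refine ⟨nD, Subtype.ext (Subtype.ext ?_)⟩
      change x ^ 2 ^ nD = 1
      have hdx' : dg d = x := hdx
      rw [← hdx', ← map_pow]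
      have : d ^ 2 ^ nD = 1 := funext fun i => hD2pow _ (hd i (Set.mem_univ i))
      rw [this, map_one]
    obtain ⟨SL, hSL⟩ := h1.exists_le_sylow
    exact ⟨SL, fun d hd h => hSL ⟨d, fun i _ => hd i, rfl⟩⟩
  set P : Subgroup ((Fin 2 → K) ≃ₗ[K] (Fin 2 → K)) := (SL : Subgroup ↥s.L2).map s.L2.subtype with hP
  have hPle : P ≤ s.L2 := map_subtype_le _
  have hPP : IsPGroup 2 ↥P := SL.2.map _
  have hPcard : Nat.card P = 2 ^ (Nat.card s.L2).factorization 2 := by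
    rw [hP, card_map_of_injective (subtype_injective _)]
    exact SL.card_eq_multiplicity
  have hPdg : ∀ d : Fin 2 → Kˣ, (∀ i, d i ∈ D2) → dg d ∈ P := by
    intro d hd
    exact ⟨⟨dg d, s.diag2 d fun i => hD2le (hd i)⟩, hSL d hd _, rfl⟩
  obtain ⟨nP, hnP⟩ := IsPGroup.iff_card.1 hPP
  have hPpow : ∀ c ∈ P, c ^ 2 ^ nP = 1 := by
    intro c hc
    have := orderOf_dvd_natCard (⟨c, hc⟩ : ↥P)
    rw [hnP] at this
    exact congrArg Subtype.val (orderOf_dvd_iff_pow_eq_one.1 this)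
  have hPdet : ∀ p ∈ P, LinearEquiv.det p ∈ D2 := by
    intro p hp
    refine hD2mem _ (s.det2_mem p (hPle hp)) nP ?_
    rw [← map_pow, hPpow p hp, map_one]
  have hPsc : ∀ c : Kˣ, sc c ∈ P → c ∈ D2 := by
    intro c hc
    refine hD2mem c (hsc c (hPle hc)) nP ?_
    have h1 : (sc c : (Fin 2 → K) ≃ₗ[K] (Fin 2 → K)) ^ 2 ^ nP = 1 := hPpow _ hc
    rw [sc, ← map_pow] at h1
    have h2 := dg_injective (h1.trans (map_one dg).symm)
    exact congrFun h2 0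
  have hPna : ∃ a ∈ P, ∃ b ∈ P, LinearEquiv.det a = 1 ∧ LinearEquiv.det b = 1 ∧ a * b ≠ b * a := by
    obtain ⟨a, haL, b, hbL, had, hbd, haa, hbb, hab⟩ := hna
    have h1 : IsPGroup 2 ↥((zpowers b ⊔ zpowers a).subgroupOf s.L2) :=
      (isPGroup_pair haa hbb hab).comap_of_injective _ (subtype_injective _)
    obtain ⟨⟨k, hk⟩, hkk⟩ := exists_conj_le SL h1
    have ha1 := hkk ⟨a, haL⟩ (mem_subgroupOf.2 ((le_sup_right : zpowers a ≤ _) (mem_zpowers a)))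
    have hb1 := hkk ⟨b, hbL⟩ (mem_subgroupOf.2 ((le_sup_left : zpowers b ≤ _) (mem_zpowers b)))
    refine ⟨k * a * k⁻¹, ⟨_, ha1, rfl⟩, k * b * k⁻¹, ⟨_, hb1, rfl⟩, ?_, ?_, ?_⟩
    · rw [map_mul, map_mul, had, mul_one, map_inv, mul_inv_cancel]
    · rw [map_mul, map_mul, hbd, mul_one, map_inv, mul_inv_cancel]
    · intro h
      have h2 : a * b = b * a := by
        calc a * b = k⁻¹ * ((k * a * k⁻¹) * (k * b * k⁻¹)) * k := by group
          _ = k⁻¹ * ((k * b * k⁻¹) * (k * a * k⁻¹)) * k := by rw [h]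
          _ = b * a := by group
      rw [h2] at hab
      have h3 : (sc (-1) : (Fin 2 → K) ≃ₗ[K] (Fin 2 → K)) = 1 := by
        have : (1 : (Fin 2 → K) ≃ₗ[K] (Fin 2 → K)) * (b * a) = sc (-1) * (b * a) := by rw [one_mul]; exact hab
        exact (mul_right_cancel this).symm
      have h4 : (fun _ : Fin 2 => (-1 : Kˣ)) = 1 := dg_injective (h3.trans (map_one dg).symm)
      have h5 : (-1 : Kˣ) = 1 := congrFun h4 0
      have h6 : (-1 : K) = 1 := congrArg Units.val h5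
      apply two
      linear_combination -h6
  -- the Sylow subgroup of `L`
  have hRL : R (β := Fin r) P D2 (⊤ : Subgroup (Perm (Fin 2))) ≤ s.L := by
    rintro _ ⟨p, π, hπ, h1, h2, rfl⟩
    exact s.L.mul_mem (s.blk p (fun i => hPle (h1 i)) fun j => hD2le (h2 j)) (s.perm _)
  have hRcard : Nat.card ↥(R (β := Fin r) P D2 (⊤ : Subgroup (Perm (Fin 2)))) = 2 ^ (Nat.card s.L).factorization 2 := by
    have hf : (Nat.card (Perm (Fin 2))).factorization 2 = 1 := by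
      rw [Nat.card_perm, Nat.card_eq_fintype_card, Fintype.card_fin, Nat.factorial_two]
      exact Nat.Prime.factorization_self Nat.prime_two
    have hc : Nat.card (⊤ : Subgroup (Perm (Fin 2))) = 2 := by
      rw [Subgroup.card_top, Nat.card_perm, Nat.card_eq_fintype_card, Fintype.card_fin, Nat.factorial_two]
    rw [card_R, hPcard, hD2card, hc, s.h4, hf, ← pow_mul, ← pow_mul, ← pow_add, ← pow_succ]
    congr 1
    ring
  have hRP : IsPGroup 2 ↥(R (β := Fin r) P D2 (⊤ : Subgroup (Perm (Fin 2)))) := IsPGroup.of_card hRcard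
  have hRsub : Nat.card ↥((R (β := Fin r) P D2 (⊤ : Subgroup (Perm (Fin 2)))).subgroupOf s.L) = 2 ^ (Nat.card s.L).factorization 2 := by
    rw [← hRcard]
    exact Nat.card_congr (subgroupOfEquivOfLe hRL).toEquiv
  let SR : Sylow 2 ↥s.L := Sylow.ofCard _ hRsub
  have hSR : (SR : Subgroup ↥s.L) = (R (β := Fin r) P D2 (⊤ : Subgroup (Perm (Fin 2)))).subgroupOf s.L := rfl
  have key := Blocks.two_blocks (β := Fin r) two P hPP D2 hD2pm hneg hPdg hPdet hPsc hRP hPna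
  -- conjugate into it
  have hTL : IsPGroup 2 ↥(((T : Subgroup s.Γ).map s.Γ.subtype).subgroupOf s.L) :=
    (T.2.map _).comap_of_injective _ (subtype_injective _)
  obtain ⟨⟨k, hk⟩, hkT⟩ := exists_conj_le SR hTL
  have hkT' : ∀ t : s.Γ, t ∈ (T : Subgroup s.Γ) → k * t.1 * k⁻¹ ∈ R (β := Fin r) P D2 (⊤ : Subgroup (Perm (Fin 2))) ⊓
      (LinearEquiv.det : _ →* Kˣ).ker := by
    intro t ht
    have h1 := hkT ⟨t, (s.mem_Γ.1 t.2).1⟩ (mem_subgroupOf.2 ⟨t, ht, rfl⟩)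
    rw [hSR, mem_subgroupOf] at h1
    refine ⟨h1, ?_⟩
    have h2 := (s.mem_Γ.1 t.2).2
    show LinearEquiv.det (k * t.1 * k⁻¹) = 1
    rw [map_mul, map_mul, h2, mul_one, map_inv, mul_inv_cancel]
  -- the whole of the conjugate
  have hmax : ∀ y : s.Γ, k * y.1 * k⁻¹ ∈ R (β := Fin r) P D2 (⊤ : Subgroup (Perm (Fin 2))) ⊓
      (LinearEquiv.det : _ →* Kˣ).ker → y ∈ (T : Subgroup s.Γ) := by
    let U : Subgroup s.Γ := (R (β := Fin r) P D2 (⊤ : Subgroup (Perm (Fin 2))) ⊓ (LinearEquiv.det : _ →* Kˣ).ker).comap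
      ((MulAut.conj k).toMonoidHom.comp s.Γ.subtype)
    have hU : IsPGroup 2 U := (hRP.to_le inf_le_left).comap_of_injective _
      ((MulAut.conj k).injective.comp (subtype_injective _))
    have hTU : (T : Subgroup s.Γ) ≤ U := fun t ht => hkT' t ht
    have := T.is_maximal' hU hTU
    intro y hy
    rw [← this]
    exact hy
  intro g hg ho x hx
  have hmem : ∀ y ∈ R (β := Fin r) P D2 (⊤ : Subgroup (Perm (Fin 2))) ⊓ (LinearEquiv.det : _ →* Kˣ).ker,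
      ∃ t : s.Γ, t ∈ (T : Subgroup s.Γ) ∧ y = k * t.1 * k⁻¹ := by
    intro y hy
    have h1 : k⁻¹ * y * k ∈ s.Γ := by
      rw [s.mem_Γ]
      refine ⟨s.L.mul_mem (s.L.mul_mem (s.L.inv_mem hk) (hRL hy.1)) hk, ?_⟩
      have h2 : LinearEquiv.det y = 1 := hy.2
      rw [map_mul, map_mul, h2, mul_one, map_inv, inv_mul_cancel]
    have h3 : k * (k⁻¹ * y * k) * k⁻¹ = y := by group
    refine ⟨⟨_, h1⟩, hmax _ ?_, h3.symm⟩
    show k * (k⁻¹ * y * k) * k⁻¹ ∈ _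
    rw [h3]
    exact hy
  have h1 := key (k * g.1 * k⁻¹) (by
    intro y hy
    obtain ⟨t, ht, rfl⟩ := hmem y hy
    have h2 := hkT' _ (hg t ht)
    have h3 : k * g.1 * k⁻¹ * (k * t.1 * k⁻¹) * (k * g.1 * k⁻¹)⁻¹ = k * (g * t * g⁻¹ : s.Γ).1 * k⁻¹ := by
      show _ = k * (g.1 * t.1 * (g.1)⁻¹) * k⁻¹
      group
    rw [h3]
    exact h2) (by
    have h4 : orderOf (k * g.1 * k⁻¹) = orderOf g := by
      have := orderOf_injective ((MulAut.conj k).toMonoidHom.comp s.Γ.subtype)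
        ((MulAut.conj k).injective.comp (subtype_injective _)) g
      exact this
    rw [h4]
    exact ho) _ (hkT' x hx)
  apply Subtype.ext
  show (g : (Ix (Fin 2) (Fin r) → K) ≃ₗ[K] (Ix (Fin 2) (Fin r) → K)) * x = x * g
  calc (g : (Ix (Fin 2) (Fin r) → K) ≃ₗ[K] (Ix (Fin 2) (Fin r) → K)) * x
      = k⁻¹ * ((k * g.1 * k⁻¹) * (k * x.1 * k⁻¹)) * k := by group
    _ = k⁻¹ * ((k * x.1 * k⁻¹) * (k * g.1 * k⁻¹)) * k := by rw [h1]
    _ = x.1 * g := by group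

end Cfsg.Agent.H201.SysTwo
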