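import Cfsg.Agent.H28.T5RankOne

/-!
# The middle row of `Sz(32)` for `p = 5` (core T5, S2275)

An inner automorphism of order five and a field automorphism of order five: the fifth power of
`conj (u(0,1) w u(0,x)) φ` is an involution, where `φ` is the Frobenius automorphism and
`x ^ 5 = x ^ 2 + 1`.
-/

set_option autoImplicit false
set_option linter.unusedVariables false
set_option linter.unusedSimpArgs false

namespace Cfsg.Agent.H201.SzThirtyTwo

section mat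

variable {F : Type*} [Field F]

theorem step1 {x : F} (hx : x ^ 5 = x ^ 2 + 1) (h2 : (2 : F) = 0) :
    (!![0, 0, 0, 1;
      0, 0, 1, 0;
      0, 1, 0, 1 + x;
      1, 0, 1 + x, x ^ 2 + x ^ 3] : Matrix (Fin 4) (Fin 4) F) *
     !![0, 0, 0, 1;
      0, 0, 1, 0;
      0, 1, 0, 1 + x ^ 2;
      1, 0, 1 + x ^ 2, x + x ^ 3 + x ^ 4] =
     !![1, 0, 1 + x ^ 2, x + x ^ 3 + x ^ 4;
      0, 1, 0, 1 + x ^ 2;
      1 + x, 0, x + x ^ 2 + x ^ 3, 1 + x + x ^ 3;
      x ^ 2 + x ^ 3, 1 + x, 1 + x ^ 3 + x ^ 4, 1 + x + x ^ 2] := by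
  ext i j
  fin_cases i <;> fin_cases j
  · simp [Matrix.mul_apply, Fin.sum_univ_four]
    try linear_combination (0) * hx + (0) * h2
  · simp [Matrix.mul_apply, Fin.sum_univ_four]
    try linear_combination (0) * hx + (0) * h2
  · simp [Matrix.mul_apply, Fin.sum_univ_four]
    try linear_combination (0) * hx + (0) * h2
  · simp [Matrix.mul_apply, Fin.sum_univ_four]
    try linear_combination (0) * hx + (0) * h2
  · simp [Matrix.mul_apply, Fin.sum_univ_four]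
    try linear_combination (0) * hx + (0) * h2
  · simp [Matrix.mul_apply, Fin.sum_univ_four]
    try linear_combination (0) * hx + (0) * h2
  · simp [Matrix.mul_apply, Fin.sum_univ_four]
    try linear_combination (0) * hx + (0) * h2
  · simp [Matrix.mul_apply, Fin.sum_univ_four]
    try linear_combination (0) * hx + (0) * h2
  · simp [Matrix.mul_apply, Fin.sum_univ_four]
    try linear_combination (0) * hx + (0) * h2
  · simp [Matrix.mul_apply, Fin.sum_univ_four]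
    try linear_combination (0) * hx + (0) * h2
  · simp [Matrix.mul_apply, Fin.sum_univ_four]
    try linear_combination (0) * hx + (1) * h2
  · simp [Matrix.mul_apply, Fin.sum_univ_four]
    try linear_combination (1) * hx + (x ^ 2 + x ^ 4) * h2
  · simp [Matrix.mul_apply, Fin.sum_univ_four]
    try linear_combination (0) * hx + (0) * h2
  · simp [Matrix.mul_apply, Fin.sum_univ_four]
    try linear_combination (0) * hx + (0) * h2
  · simp [Matrix.mul_apply, Fin.sum_univ_four]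
    try linear_combination (1) * hx + (x ^ 2) * h2
  · simp [Matrix.mul_apply, Fin.sum_univ_four]
    try linear_combination (1 + (2) * x + x ^ 2) * hx + (1 + x + x ^ 2 + (2) * x ^ 3 + x ^ 4) * h2

theorem step2 {x : F} (hx : x ^ 5 = x ^ 2 + 1) (h2 : (2 : F) = 0) :
    (!![1, 0, 1 + x ^ 2, x + x ^ 3 + x ^ 4;
      0, 1, 0, 1 + x ^ 2;
      1 + x, 0, x + x ^ 2 + x ^ 3, 1 + x + x ^ 3;
      x ^ 2 + x ^ 3, 1 + x, 1 + x ^ 3 + x ^ 4, 1 + x + x ^ 2] : Matrix (Fin 4) (Fin 4) F) *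
     !![0, 0, 0, 1;
      0, 0, 1, 0;
      0, 1, 0, 1 + x ^ 4;
      1, 0, 1 + x ^ 4, 1 + x] =
     !![x + x ^ 3 + x ^ 4, 1 + x ^ 2, x + x ^ 2, 1 + x ^ 2 + x ^ 4;
      1 + x ^ 2, 0, x + x ^ 2 + x ^ 3 + x ^ 4, 1 + x + x ^ 2 + x ^ 3;
      1 + x + x ^ 3, x + x ^ 2 + x ^ 3, x + x ^ 3, 1 + x + x ^ 3;
      1 + x + x ^ 2, 1 + x ^ 3 + x ^ 4, 1 + x + x ^ 3 + x ^ 4, 1 + x ^ 2 + x ^ 4] := by
  ext i j
  fin_cases i <;> fin_cases j
  · simp [Matrix.mul_apply, Fin.sum_univ_four]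
    try linear_combination (0) * hx + (0) * h2
  · simp [Matrix.mul_apply, Fin.sum_univ_four]
    try linear_combination (0) * hx + (0) * h2
  · simp [Matrix.mul_apply, Fin.sum_univ_four]
    try linear_combination (2 + x ^ 2 + x ^ 3) * hx + (1 + x ^ 2 + x ^ 3 + x ^ 4) * h2
  · simp [Matrix.mul_apply, Fin.sum_univ_four]
    try linear_combination (1 + x) * hx + (1 + x + x ^ 2 + x ^ 3 + x ^ 4) * h2
  · simp [Matrix.mul_apply, Fin.sum_univ_four]
    try linear_combination (0) * hx + (0) * h2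
  · simp [Matrix.mul_apply, Fin.sum_univ_four]
    try linear_combination (0) * hx + (0) * h2
  · simp [Matrix.mul_apply, Fin.sum_univ_four]
    try linear_combination (x) * hx + (1) * h2
  · simp [Matrix.mul_apply, Fin.sum_univ_four]
    try linear_combination (0) * hx + (0) * h2
  · simp [Matrix.mul_apply, Fin.sum_univ_four]
    try linear_combination (0) * hx + (0) * h2
  · simp [Matrix.mul_apply, Fin.sum_univ_four]
    try linear_combination (0) * hx + (0) * h2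
  · simp [Matrix.mul_apply, Fin.sum_univ_four]
    try linear_combination (1 + x ^ 2) * hx + (1 + x ^ 2 + x ^ 4) * h2
  · simp [Matrix.mul_apply, Fin.sum_univ_four]
    try linear_combination (1 + x + x ^ 2) * hx + (1 + (2) * x + (2) * x ^ 2 + x ^ 3 + x ^ 4) * h2
  · simp [Matrix.mul_apply, Fin.sum_univ_four]
    try linear_combination (0) * hx + (0) * h2
  · simp [Matrix.mul_apply, Fin.sum_univ_four]
    try linear_combination (0) * hx + (0) * h2
  · simp [Matrix.mul_apply, Fin.sum_univ_four]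
    try linear_combination (1 + x) * hx + (1 + x + x ^ 2) * h2
  · simp [Matrix.mul_apply, Fin.sum_univ_four]
    try linear_combination (1 + x ^ 2 + x ^ 3) * hx + (1 + x + (2) * x ^ 2 + (2) * x ^ 3 + x ^ 4) * h2

theorem step3 {x : F} (hx : x ^ 5 = x ^ 2 + 1) (h2 : (2 : F) = 0) :
    (!![x + x ^ 3 + x ^ 4, 1 + x ^ 2, x + x ^ 2, 1 + x ^ 2 + x ^ 4;
      1 + x ^ 2, 0, x + x ^ 2 + x ^ 3 + x ^ 4, 1 + x + x ^ 2 + x ^ 3;
      1 + x + x ^ 3, x + x ^ 2 + x ^ 3, x + x ^ 3, 1 + x + x ^ 3;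
      1 + x + x ^ 2, 1 + x ^ 3 + x ^ 4, 1 + x + x ^ 3 + x ^ 4, 1 + x ^ 2 + x ^ 4] : Matrix (Fin 4) (Fin 4) F) *
     !![0, 0, 0, 1;
      0, 0, 1, 0;
      0, 1, 0, x ^ 2 + x ^ 3;
      1, 0, x ^ 2 + x ^ 3, 1 + x ^ 2] =
     !![1 + x ^ 2 + x ^ 4, x + x ^ 2, x, x ^ 2 + x ^ 3 + x ^ 4;
      1 + x + x ^ 2 + x ^ 3, x + x ^ 2 + x ^ 3 + x ^ 4, x + x ^ 2 + x ^ 3, 1 + x + x ^ 2 + x ^ 3;
      1 + x + x ^ 3, x + x ^ 3, 1 + x ^ 2 + x ^ 4, x + x ^ 2 + x ^ 3 + x ^ 4;
      1 + x ^ 2 + x ^ 4, 1 + x + x ^ 3 + x ^ 4, x + x ^ 2 + x ^ 3 + x ^ 4, 1 + x ^ 3] := by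
  ext i j
  fin_cases i <;> fin_cases j
  · simp [Matrix.mul_apply, Fin.sum_univ_four]
    try linear_combination (0) * hx + (0) * h2
  · simp [Matrix.mul_apply, Fin.sum_univ_four]
    try linear_combination (0) * hx + (0) * h2
  · simp [Matrix.mul_apply, Fin.sum_univ_four]
    try linear_combination (1 + x + x ^ 2) * hx + (1 + (2) * x ^ 2 + x ^ 3 + x ^ 4) * h2
  · simp [Matrix.mul_apply, Fin.sum_univ_four]
    try linear_combination (1 + x) * hx + (1 + x + x ^ 2 + x ^ 3 + (2) * x ^ 4) * h2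
  · simp [Matrix.mul_apply, Fin.sum_univ_four]
    try linear_combination (0) * hx + (0) * h2
  · simp [Matrix.mul_apply, Fin.sum_univ_four]
    try linear_combination (0) * hx + (0) * h2
  · simp [Matrix.mul_apply, Fin.sum_univ_four]
    try linear_combination (2 + x) * hx + (1 + x ^ 2 + x ^ 3 + x ^ 4) * h2
  · simp [Matrix.mul_apply, Fin.sum_univ_four]
    try linear_combination (3 + (2) * x + x ^ 2) * hx + (2 + x + (3) * x ^ 2 + (2) * x ^ 3 + (2) * x ^ 4) * h2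
  · simp [Matrix.mul_apply, Fin.sum_univ_four]
    try linear_combination (0) * hx + (0) * h2
  · simp [Matrix.mul_apply, Fin.sum_univ_four]
    try linear_combination (0) * hx + (0) * h2
  · simp [Matrix.mul_apply, Fin.sum_univ_four]
    try linear_combination (1 + x) * hx + (x + x ^ 2 + (2) * x ^ 3) * h2
  · simp [Matrix.mul_apply, Fin.sum_univ_four]
    try linear_combination (2 + x) * hx + (2 + x + x ^ 2 + (2) * x ^ 3) * h2
  · simp [Matrix.mul_apply, Fin.sum_univ_four]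
    try linear_combination (0) * hx + (0) * h2
  · simp [Matrix.mul_apply, Fin.sum_univ_four]
    try linear_combination (0) * hx + (0) * h2
  · simp [Matrix.mul_apply, Fin.sum_univ_four]
    try linear_combination (1 + x + x ^ 2) * hx + (1 + x ^ 2 + x ^ 3 + x ^ 4) * h2
  · simp [Matrix.mul_apply, Fin.sum_univ_four]
    try linear_combination (1 + (3) * x + x ^ 2) * hx + (1 + (2) * x + (3) * x ^ 2 + (2) * x ^ 3 + (2) * x ^ 4) * h2

theorem step4 {x : F} (hx : x ^ 5 = x ^ 2 + 1) (h2 : (2 : F) = 0) :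
    (!![1 + x ^ 2 + x ^ 4, x + x ^ 2, x, x ^ 2 + x ^ 3 + x ^ 4;
      1 + x + x ^ 2 + x ^ 3, x + x ^ 2 + x ^ 3 + x ^ 4, x + x ^ 2 + x ^ 3, 1 + x + x ^ 2 + x ^ 3;
      1 + x + x ^ 3, x + x ^ 3, 1 + x ^ 2 + x ^ 4, x + x ^ 2 + x ^ 3 + x ^ 4;
      1 + x ^ 2 + x ^ 4, 1 + x + x ^ 3 + x ^ 4, x + x ^ 2 + x ^ 3 + x ^ 4, 1 + x ^ 3] : Matrix (Fin 4) (Fin 4) F) *
     !![0, 0, 0, 1;
      0, 0, 1, 0;
      0, 1, 0, x + x ^ 3 + x ^ 4;
      1, 0, x + x ^ 3 + x ^ 4, 1 + x ^ 4] =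
     !![x ^ 2 + x ^ 3 + x ^ 4, x, 1 + x + x ^ 4, 1 + x + x ^ 3;
      1 + x + x ^ 2 + x ^ 3, x + x ^ 2 + x ^ 3, x ^ 2 + x ^ 3 + x ^ 4, 1 + x + x ^ 4;
      x + x ^ 2 + x ^ 3 + x ^ 4, 1 + x ^ 2 + x ^ 4, x + x ^ 2 + x ^ 3, x;
      1 + x ^ 3, x + x ^ 2 + x ^ 3 + x ^ 4, 1 + x + x ^ 2 + x ^ 3, x ^ 2 + x ^ 3 + x ^ 4] := by
  ext i j
  fin_cases i <;> fin_cases j
  · simp [Matrix.mul_apply, Fin.sum_univ_four]
    try linear_combination (0) * hx + (0) * h2
  · simp [Matrix.mul_apply, Fin.sum_univ_four]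
    try linear_combination (0) * hx + (0) * h2
  · simp [Matrix.mul_apply, Fin.sum_univ_four]
    try linear_combination (3 + (2) * x + (2) * x ^ 2 + x ^ 3) * hx + (1 + x + (3) * x ^ 2 + (2) * x ^ 3 + x ^ 4) * h2
  · simp [Matrix.mul_apply, Fin.sum_univ_four]
    try linear_combination (2 + x + x ^ 2 + x ^ 3) * hx + (1 + (3) * x ^ 2 + x ^ 3 + (2) * x ^ 4) * h2
  · simp [Matrix.mul_apply, Fin.sum_univ_four]
    try linear_combination (0) * hx + (0) * h2
  · simp [Matrix.mul_apply, Fin.sum_univ_four]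
    try linear_combination (0) * hx + (0) * h2
  · simp [Matrix.mul_apply, Fin.sum_univ_four]
    try linear_combination (2 + (2) * x + x ^ 2) * hx + (1 + (2) * x + (2) * x ^ 2 + (2) * x ^ 3 + (2) * x ^ 4) * h2
  · simp [Matrix.mul_apply, Fin.sum_univ_four]
    try linear_combination (3 + (3) * x + (2) * x ^ 2) * hx + (2 + (2) * x + (4) * x ^ 2 + (3) * x ^ 3 + (2) * x ^ 4) * h2
  · simp [Matrix.mul_apply, Fin.sum_univ_four]
    try linear_combination (0) * hx + (0) * h2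
  · simp [Matrix.mul_apply, Fin.sum_univ_four]
    try linear_combination (0) * hx + (0) * h2
  · simp [Matrix.mul_apply, Fin.sum_univ_four]
    try linear_combination (4 + (2) * x + (2) * x ^ 2 + x ^ 3) * hx + (2 + x + (3) * x ^ 2 + (2) * x ^ 3 + (2) * x ^ 4) * h2
  · simp [Matrix.mul_apply, Fin.sum_univ_four]
    try linear_combination (5 + (2) * x + (2) * x ^ 2 + (2) * x ^ 3) * hx + (3 + (2) * x + (4) * x ^ 2 + (4) * x ^ 3 + (2) * x ^ 4) * h2
  · simp [Matrix.mul_apply, Fin.sum_univ_four]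
    try linear_combination (0) * hx + (0) * h2
  · simp [Matrix.mul_apply, Fin.sum_univ_four]
    try linear_combination (0) * hx + (0) * h2
  · simp [Matrix.mul_apply, Fin.sum_univ_four]
    try linear_combination (x + x ^ 2) * hx + (x + x ^ 3 + (2) * x ^ 4) * h2
  · simp [Matrix.mul_apply, Fin.sum_univ_four]
    try linear_combination (4 + (2) * x + (3) * x ^ 2 + x ^ 3) * hx + (3 + x + (4) * x ^ 2 + (2) * x ^ 3 + (3) * x ^ 4) * h2

theorem sq_eq {x : F} (hx : x ^ 5 = x ^ 2 + 1) (h2 : (2 : F) = 0) :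
    (!![x ^ 2 + x ^ 3 + x ^ 4, x, 1 + x + x ^ 4, 1 + x + x ^ 3;
      1 + x + x ^ 2 + x ^ 3, x + x ^ 2 + x ^ 3, x ^ 2 + x ^ 3 + x ^ 4, 1 + x + x ^ 4;
      x + x ^ 2 + x ^ 3 + x ^ 4, 1 + x ^ 2 + x ^ 4, x + x ^ 2 + x ^ 3, x;
      1 + x ^ 3, x + x ^ 2 + x ^ 3 + x ^ 4, 1 + x + x ^ 2 + x ^ 3, x ^ 2 + x ^ 3 + x ^ 4] : Matrix (Fin 4) (Fin 4) F) *
     !![x ^ 2 + x ^ 3 + x ^ 4, x, 1 + x + x ^ 4, 1 + x + x ^ 3;
      1 + x + x ^ 2 + x ^ 3, x + x ^ 2 + x ^ 3, x ^ 2 + x ^ 3 + x ^ 4, 1 + x + x ^ 4;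
      x + x ^ 2 + x ^ 3 + x ^ 4, 1 + x ^ 2 + x ^ 4, x + x ^ 2 + x ^ 3, x;
      1 + x ^ 3, x + x ^ 2 + x ^ 3 + x ^ 4, 1 + x + x ^ 2 + x ^ 3, x ^ 2 + x ^ 3 + x ^ 4] =
     !![1, 0, 0, 0;
      0, 1, 0, 0;
      0, 0, 1, 0;
      0, 0, 0, 1] := by
  ext i j
  fin_cases i <;> fin_cases j
  · simp [Matrix.mul_apply, Fin.sum_univ_four]
    try linear_combination (6 + (5) * x + (3) * x ^ 2 + (2) * x ^ 3) * hx + (3 + (4) * x + (6) * x ^ 2 + (6) * x ^ 3 + (4) * x ^ 4) * h2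
  · simp [Matrix.mul_apply, Fin.sum_univ_four]
    try linear_combination (5 + (2) * x + x ^ 2 + x ^ 3) * hx + (3 + (2) * x + (5) * x ^ 2 + (4) * x ^ 3 + (4) * x ^ 4) * h2
  · simp [Matrix.mul_apply, Fin.sum_univ_four]
    try linear_combination (5 + (3) * x + (2) * x ^ 2 + x ^ 3) * hx + (3 + (3) * x + (6) * x ^ 2 + (6) * x ^ 3 + (4) * x ^ 4) * h2
  · simp [Matrix.mul_apply, Fin.sum_univ_four]
    try linear_combination (6 + (2) * x + (2) * x ^ 2) * hx + (3 + (2) * x + (6) * x ^ 2 + (3) * x ^ 3 + (3) * x ^ 4) * h2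
  · simp [Matrix.mul_apply, Fin.sum_univ_four]
    try linear_combination (9 + (6) * x + (4) * x ^ 2 + x ^ 3) * hx + (5 + (4) * x + (8) * x ^ 2 + (7) * x ^ 3 + (7) * x ^ 4) * h2
  · simp [Matrix.mul_apply, Fin.sum_univ_four]
    try linear_combination (7 + (4) * x + (2) * x ^ 2 + (2) * x ^ 3) * hx + (3 + (3) * x + (7) * x ^ 2 + (6) * x ^ 3 + (5) * x ^ 4) * h2
  · simp [Matrix.mul_apply, Fin.sum_univ_four]
    try linear_combination (8 + (6) * x + (4) * x ^ 2) * hx + (5 + (5) * x + (8) * x ^ 2 + (6) * x ^ 3 + (6) * x ^ 4) * h2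
  · simp [Matrix.mul_apply, Fin.sum_univ_four]
    try linear_combination (5 + (3) * x + (2) * x ^ 2 + x ^ 3) * hx + (3 + (3) * x + (6) * x ^ 2 + (6) * x ^ 3 + (4) * x ^ 4) * h2
  · simp [Matrix.mul_apply, Fin.sum_univ_four]
    try linear_combination (9 + (6) * x + (4) * x ^ 2 + x ^ 3) * hx + (5 + (4) * x + (8) * x ^ 2 + (6) * x ^ 3 + (6) * x ^ 4) * h2
  · simp [Matrix.mul_apply, Fin.sum_univ_four]
    try linear_combination (6 + (2) * x + (2) * x ^ 2) * hx + (3 + (2) * x + (6) * x ^ 2 + (4) * x ^ 3 + (3) * x ^ 4) * h2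
  · simp [Matrix.mul_apply, Fin.sum_univ_four]
    try linear_combination (7 + (4) * x + (2) * x ^ 2 + (2) * x ^ 3) * hx + (3 + (3) * x + (7) * x ^ 2 + (6) * x ^ 3 + (5) * x ^ 4) * h2
  · simp [Matrix.mul_apply, Fin.sum_univ_four]
    try linear_combination (5 + (2) * x + x ^ 2 + x ^ 3) * hx + (3 + (2) * x + (5) * x ^ 2 + (4) * x ^ 3 + (4) * x ^ 4) * h2
  · simp [Matrix.mul_apply, Fin.sum_univ_four]
    try linear_combination (8 + (6) * x + (4) * x ^ 2) * hx + (4 + (4) * x + (9) * x ^ 2 + (7) * x ^ 3 + (7) * x ^ 4) * h2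
  · simp [Matrix.mul_apply, Fin.sum_univ_four]
    try linear_combination (9 + (6) * x + (4) * x ^ 2 + x ^ 3) * hx + (5 + (4) * x + (8) * x ^ 2 + (6) * x ^ 3 + (6) * x ^ 4) * h2
  · simp [Matrix.mul_apply, Fin.sum_univ_four]
    try linear_combination (9 + (6) * x + (4) * x ^ 2 + x ^ 3) * hx + (5 + (4) * x + (8) * x ^ 2 + (7) * x ^ 3 + (7) * x ^ 4) * h2
  · simp [Matrix.mul_apply, Fin.sum_univ_four]
    try linear_combination (6 + (5) * x + (3) * x ^ 2 + (2) * x ^ 3) * hx + (3 + (4) * x + (6) * x ^ 2 + (6) * x ^ 3 + (4) * x ^ 4) * h2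

theorem c_two (h2 : (2 : F) = 0) :
    (!![1, 1, 0, 1;
      1, 0, 1, 0;
      0, 1, 0, 0;
      1, 0, 0, 0] : Matrix (Fin 4) (Fin 4) F) *
     !![1, 1, 0, 1;
      1, 0, 1, 0;
      0, 1, 0, 0;
      1, 0, 0, 0] =
     !![1, 1, 1, 1;
      1, 0, 0, 1;
      1, 0, 1, 0;
      1, 1, 0, 1] := by
  ext i j
  fin_cases i <;> fin_cases j
  · simp [Matrix.mul_apply, Fin.sum_univ_four]
    try linear_combination (1) * h2
  · simp [Matrix.mul_apply, Fin.sum_univ_four]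
    try linear_combination (0) * h2
  · simp [Matrix.mul_apply, Fin.sum_univ_four]
    try linear_combination (0) * h2
  · simp [Matrix.mul_apply, Fin.sum_univ_four]
    try linear_combination (0) * h2
  · simp [Matrix.mul_apply, Fin.sum_univ_four]
    try linear_combination (0) * h2
  · simp [Matrix.mul_apply, Fin.sum_univ_four]
    try linear_combination (1) * h2
  · simp [Matrix.mul_apply, Fin.sum_univ_four]
    try linear_combination (0) * h2
  · simp [Matrix.mul_apply, Fin.sum_univ_four]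
    try linear_combination (0) * h2
  · simp [Matrix.mul_apply, Fin.sum_univ_four]
    try linear_combination (0) * h2
  · simp [Matrix.mul_apply, Fin.sum_univ_four]
    try linear_combination (0) * h2
  · simp [Matrix.mul_apply, Fin.sum_univ_four]
    try linear_combination (0) * h2
  · simp [Matrix.mul_apply, Fin.sum_univ_four]
    try linear_combination (0) * h2
  · simp [Matrix.mul_apply, Fin.sum_univ_four]
    try linear_combination (0) * h2
  · simp [Matrix.mul_apply, Fin.sum_univ_four]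
    try linear_combination (0) * h2
  · simp [Matrix.mul_apply, Fin.sum_univ_four]
    try linear_combination (0) * h2
  · simp [Matrix.mul_apply, Fin.sum_univ_four]
    try linear_combination (0) * h2

theorem c_four (h2 : (2 : F) = 0) :
    (!![1, 1, 1, 1;
      1, 0, 0, 1;
      1, 0, 1, 0;
      1, 1, 0, 1] : Matrix (Fin 4) (Fin 4) F) *
     !![1, 1, 1, 1;
      1, 0, 0, 1;
      1, 0, 1, 0;
      1, 1, 0, 1] =
     !![0, 0, 0, 1;
      0, 0, 1, 0;
      0, 1, 0, 1;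
      1, 0, 1, 1] := by
  ext i j
  fin_cases i <;> fin_cases j
  · simp [Matrix.mul_apply, Fin.sum_univ_four]
    try linear_combination (2) * h2
  · simp [Matrix.mul_apply, Fin.sum_univ_four]
    try linear_combination (1) * h2
  · simp [Matrix.mul_apply, Fin.sum_univ_four]
    try linear_combination (1) * h2
  · simp [Matrix.mul_apply, Fin.sum_univ_four]
    try linear_combination (1) * h2
  · simp [Matrix.mul_apply, Fin.sum_univ_four]
    try linear_combination (1) * h2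
  · simp [Matrix.mul_apply, Fin.sum_univ_four]
    try linear_combination (1) * h2
  · simp [Matrix.mul_apply, Fin.sum_univ_four]
    try linear_combination (0) * h2
  · simp [Matrix.mul_apply, Fin.sum_univ_four]
    try linear_combination (1) * h2
  · simp [Matrix.mul_apply, Fin.sum_univ_four]
    try linear_combination (1) * h2
  · simp [Matrix.mul_apply, Fin.sum_univ_four]
    try linear_combination (0) * h2
  · simp [Matrix.mul_apply, Fin.sum_univ_four]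
    try linear_combination (1) * h2
  · simp [Matrix.mul_apply, Fin.sum_univ_four]
    try linear_combination (0) * h2
  · simp [Matrix.mul_apply, Fin.sum_univ_four]
    try linear_combination (1) * h2
  · simp [Matrix.mul_apply, Fin.sum_univ_four]
    try linear_combination (1) * h2
  · simp [Matrix.mul_apply, Fin.sum_univ_four]
    try linear_combination (0) * h2
  · simp [Matrix.mul_apply, Fin.sum_univ_four]
    try linear_combination (1) * h2

theorem c_five (h2 : (2 : F) = 0) :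
    (!![0, 0, 0, 1;
      0, 0, 1, 0;
      0, 1, 0, 1;
      1, 0, 1, 1] : Matrix (Fin 4) (Fin 4) F) *
     !![1, 1, 0, 1;
      1, 0, 1, 0;
      0, 1, 0, 0;
      1, 0, 0, 0] =
     !![1, 0, 0, 0;
      0, 1, 0, 0;
      0, 0, 1, 0;
      0, 0, 0, 1] := by
  ext i j
  fin_cases i <;> fin_cases j
  · simp [Matrix.mul_apply, Fin.sum_univ_four]
    try linear_combination (0) * h2
  · simp [Matrix.mul_apply, Fin.sum_univ_four]
    try linear_combination (0) * h2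
  · simp [Matrix.mul_apply, Fin.sum_univ_four]
    try linear_combination (0) * h2
  · simp [Matrix.mul_apply, Fin.sum_univ_four]
    try linear_combination (0) * h2
  · simp [Matrix.mul_apply, Fin.sum_univ_four]
    try linear_combination (0) * h2
  · simp [Matrix.mul_apply, Fin.sum_univ_four]
    try linear_combination (0) * h2
  · simp [Matrix.mul_apply, Fin.sum_univ_four]
    try linear_combination (0) * h2
  · simp [Matrix.mul_apply, Fin.sum_univ_four]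
    try linear_combination (0) * h2
  · simp [Matrix.mul_apply, Fin.sum_univ_four]
    try linear_combination (1) * h2
  · simp [Matrix.mul_apply, Fin.sum_univ_four]
    try linear_combination (0) * h2
  · simp [Matrix.mul_apply, Fin.sum_univ_four]
    try linear_combination (0) * h2
  · simp [Matrix.mul_apply, Fin.sum_univ_four]
    try linear_combination (0) * h2
  · simp [Matrix.mul_apply, Fin.sum_univ_four]
    try linear_combination (1) * h2
  · simp [Matrix.mul_apply, Fin.sum_univ_four]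
    try linear_combination (1) * h2
  · simp [Matrix.mul_apply, Fin.sum_univ_four]
    try linear_combination (0) * h2
  · simp [Matrix.mul_apply, Fin.sum_univ_four]
    try linear_combination (0) * h2

/-- The field of `32` elements contains a root of `x ^ 5 + x ^ 2 + 1`. -/
theorem exists_root (h2 : (2 : F) = 0) {y : F} (h32 : y ^ 32 = y) (y0 : y ≠ 0) (y1 : y ≠ 1) :
    ∃ x : F, x ^ 5 = x ^ 2 + 1 := by
  have key37 : ∀ z : F, 1 + z ^ 2 + z ^ 5 = 0 → ∃ x : F, x ^ 5 = x ^ 2 + 1 :=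
    fun z hz => ⟨z, by linear_combination hz - (z ^ 2 + 1) * h2⟩
  have key41 : ∀ z : F, 1 + z ^ 3 + z ^ 5 = 0 → ∃ x : F, x ^ 5 = x ^ 2 + 1 := by
    intro z hz
    have hz0 : z ≠ 0 := by
      rintro rfl
      simp at hz
    refine key37 z⁻¹ ?_
    field_simp
    linear_combination hz
  have key55 : ∀ z : F, 1 + z + z ^ 2 + z ^ 4 + z ^ 5 = 0 → ∃ x : F, x ^ 5 = x ^ 2 + 1 :=
    fun z hz => key37 (z + 1) (by
      linear_combination hz + (1 + (3) * z + (5) * z ^ 2 + (5) * z ^ 3 + (2) * z ^ 4) * h2)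
  have key61 : ∀ z : F, 1 + z ^ 2 + z ^ 3 + z ^ 4 + z ^ 5 = 0 → ∃ x : F, x ^ 5 = x ^ 2 + 1 :=
    fun z hz => key41 (z + 1) (by
      linear_combination hz + (1 + (4) * z + (6) * z ^ 2 + (5) * z ^ 3 + (2) * z ^ 4) * h2)
  have key59 : ∀ z : F, 1 + z + z ^ 3 + z ^ 4 + z ^ 5 = 0 → ∃ x : F, x ^ 5 = x ^ 2 + 1 := by
    intro z hz
    have hz0 : z ≠ 0 := by
      rintro rfl
      simp at hz
    refine key55 z⁻¹ ?_
    field_simp
    linear_combination hz
  have key47 : ∀ z : F, 1 + z + z ^ 2 + z ^ 3 + z ^ 5 = 0 → ∃ x : F, x ^ 5 = x ^ 2 + 1 :=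
    fun z hz => key59 (z + 1) (by
      linear_combination hz + (2 + (6) * z + (9) * z ^ 2 + (7) * z ^ 3 + (3) * z ^ 4) * h2)
  have hprod : (1 + y ^ 2 + y ^ 5) * ((1 + y ^ 3 + y ^ 5) * ((1 + y + y ^ 2 + y ^ 3 + y ^ 5) *
      ((1 + y + y ^ 2 + y ^ 4 + y ^ 5) * ((1 + y + y ^ 3 + y ^ 4 + y ^ 5) *
      ((1 + y ^ 2 + y ^ 3 + y ^ 4 + y ^ 5) * (y * (1 + y))))))) = 0 := by
    linear_combination h32 + (y + (2) * y ^ 2 + (5) * y ^ 3 + (11) * y ^ 4 + (21) * y ^ 5 + (38) * y ^ 6 + (63) * y ^ 7 + (96) * y ^ 8 + (139) * y ^ 9 + (189) * y ^ 10 + (248) * y ^ 11 + (308) * y ^ 12 + (363) * y ^ 13 + (413) * y ^ 14 + (447) * y ^ 15 + (469) * y ^ 16 + (469) * y ^ 17 + (447) * y ^ 18 + (413) * y ^ 19 + (363) * y ^ 20 + (308) * y ^ 21 + (248) * y ^ 22 + (189) * y ^ 23 + (139) * y ^ 24 + (96) * y ^ 25 + (63) * y ^ 26 + (38) * y ^ 27 + (21) * y ^ 28 + (11) * y ^ 29 + (5) * y ^ 30 + (2) * y ^ 31) * h2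
  rcases mul_eq_zero.mp hprod with h | hprod
  · exact key37 y h
  rcases mul_eq_zero.mp hprod with h | hprod
  · exact key41 y h
  rcases mul_eq_zero.mp hprod with h | hprod
  · exact key47 y h
  rcases mul_eq_zero.mp hprod with h | hprod
  · exact key55 y h
  rcases mul_eq_zero.mp hprod with h | hprod
  · exact key59 y h
  rcases mul_eq_zero.mp hprod with h | hprod
  · exact key61 y h
  rcases mul_eq_zero.mp hprod with h | h
  · exact absurd h y0
  · exact absurd (by linear_combination h - h2) y1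

end mat

section grp

open Cfsg.Agent.LieRecognition.SzMatrix

variable {F : Type*} [Field F] {θ : F →+* F} {e : ℕ}

theorem wu_val (H : Good F θ e) {b t : F} (ht : θ b = t) :
    (((H.w * H.u 0 b : ↥(Cfsg.Lie.Sz F e)) : GL (Fin 4) F) : Matrix (Fin 4) (Fin 4) F) =
      !![0, 0, 0, 1;
      0, 0, 1, 0;
      0, 1, 0, b;
      1, 0, b, t] := by
  subst ht
  change J F * Umat θ 0 b = _
  ext i j
  fin_cases i <;> fin_cases j <;> simp [J, Umat, Matrix.mul_apply, Fin.sum_univ_four]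

theorem u0_mul (H : Good F θ e) (a b : F) : H.u 0 a * H.u 0 b = H.u 0 (a + b) := by
  rw [H.u_mul]; simp

theorem u1_mul (H : Good F θ e) : H.u 0 1 * H.u 0 1 = 1 := by
  rw [u0_mul, ← H.u_zero]
  congr 1
  linear_combination H.two

/-- The product of the five elements `w u(0, s ^ 2 ^ i)`. -/
def NN (H : Good F θ e) (x : F) : ↥(Cfsg.Lie.Sz F e) :=
  (H.w * H.u 0 (1 + x)) * (H.w * H.u 0 (1 + x ^ 2)) * (H.w * H.u 0 (1 + x ^ 4)) *
    (H.w * H.u 0 (x ^ 2 + x ^ 3)) * (H.w * H.u 0 (x + x ^ 3 + x ^ 4))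

theorem NN_val (H : Good F θ e) {x : F} (hx : x ^ 5 = x ^ 2 + 1) (hθ : θ x = 1 + x ^ 2 + x ^ 3) :
    (((NN H x : ↥(Cfsg.Lie.Sz F e)) : GL (Fin 4) F) : Matrix (Fin 4) (Fin 4) F) =
      !![x ^ 2 + x ^ 3 + x ^ 4, x, 1 + x + x ^ 4, 1 + x + x ^ 3;
      1 + x + x ^ 2 + x ^ 3, x + x ^ 2 + x ^ 3, x ^ 2 + x ^ 3 + x ^ 4, 1 + x + x ^ 4;
      x + x ^ 2 + x ^ 3 + x ^ 4, 1 + x ^ 2 + x ^ 4, x + x ^ 2 + x ^ 3, x;
      1 + x ^ 3, x + x ^ 2 + x ^ 3 + x ^ 4, 1 + x + x ^ 2 + x ^ 3, x ^ 2 + x ^ 3 + x ^ 4] := by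
  have h2 := H.two
  have t0 : θ (1 + x) = x ^ 2 + x ^ 3 := by
    simp only [map_add, map_one, map_pow, hθ]
    linear_combination h2
  have t1 : θ (1 + x ^ 2) = x + x ^ 3 + x ^ 4 := by
    simp only [map_add, map_one, map_pow, hθ]
    linear_combination (2 + x) * hx + (2 + (2) * x ^ 2 + x ^ 3) * h2
  have t2 : θ (1 + x ^ 4) = 1 + x := by
    simp only [map_add, map_one, map_pow, hθ]
    linear_combination (35 + (23) * x + (19) * x ^ 2 + (17) * x ^ 3 + (9) * x ^ 4 + (6) * x ^ 5 + (4) * x ^ 6 + x ^ 7) * hx + (18 + (11) * x + (29) * x ^ 2 + (22) * x ^ 3 + (17) * x ^ 4) * h2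
  have t3 : θ (x ^ 2 + x ^ 3) = 1 + x ^ 2 := by
    simp only [map_add, map_one, map_pow, hθ]
    linear_combination (11 + (6) * x + (3) * x ^ 2 + (3) * x ^ 3 + x ^ 4) * hx + (6 + (3) * x + (9) * x ^ 2 + (7) * x ^ 3 + (4) * x ^ 4) * h2
  have t4 : θ (x + x ^ 3 + x ^ 4) = 1 + x ^ 4 := by
    simp only [map_add, map_one, map_pow, hθ]
    linear_combination (44 + (28) * x + (22) * x ^ 2 + (20) * x ^ 3 + (10) * x ^ 4 + (6) * x ^ 5 + (4) * x ^ 6 + x ^ 7) * hx + (23 + (14) * x + (37) * x ^ 2 + (28) * x ^ 3 + (20) * x ^ 4) * h2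
  have hmul : ∀ a b : ↥(Cfsg.Lie.Sz F e), (((a * b : ↥(Cfsg.Lie.Sz F e)) : GL (Fin 4) F) :
      Matrix (Fin 4) (Fin 4) F) = ((a : GL (Fin 4) F) : Matrix (Fin 4) (Fin 4) F) *
        ((b : GL (Fin 4) F) : Matrix (Fin 4) (Fin 4) F) := fun _ _ => rfl
  rw [NN, hmul, hmul, hmul, hmul, wu_val H t0, wu_val H t1, wu_val H t2, wu_val H t3, wu_val H t4,
    step1 hx h2, step2 hx h2, step3 hx h2, step4 hx h2]

theorem NN_mul (H : Good F θ e) {x : F} (hx : x ^ 5 = x ^ 2 + 1)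
    (hθ : θ x = 1 + x ^ 2 + x ^ 3) : NN H x * NN H x = 1 := by
  apply Subtype.ext
  apply Units.ext
  change ((NN H x : GL (Fin 4) F) : Matrix (Fin 4) (Fin 4) F) *
    ((NN H x : GL (Fin 4) F) : Matrix (Fin 4) (Fin 4) F) = 1
  rw [NN_val H hx hθ, sq_eq hx H.two]
  ext i j
  fin_cases i <;> fin_cases j <;> simp

theorem NN_ne (H : Good F θ e) {x : F} (hx : x ^ 5 = x ^ 2 + 1)
    (hθ : θ x = 1 + x ^ 2 + x ^ 3) : NN H x ≠ 1 := by
  intro h
  have h1 := NN_val H hx hθ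
  rw [h] at h1
  have h3 := congrFun (congrFun h1 0) 1
  have h4 : (0 : F) = x := h3
  rw [← h4] at hx
  norm_num at hx

/-- `h = u(0, 1) w u(0, x)` and its Galois conjugates. -/
theorem prod_eq (H : Good F θ e) {x : F} (hx : x ^ 5 = x ^ 2 + 1) :
    (H.u 0 1 * H.w * H.u 0 x) * (H.u 0 1 * H.w * H.u 0 (x ^ 2)) *
      (H.u 0 1 * H.w * H.u 0 (x ^ 4)) * (H.u 0 1 * H.w * H.u 0 (x ^ 8)) *
      (H.u 0 1 * H.w * H.u 0 (x ^ 16)) = H.u 0 1 * NN H x * H.u 0 1 := by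
  have h2 := H.two
  have e8 : x ^ 8 = 1 + x ^ 2 + x ^ 3 := by linear_combination (1 + x ^ 3) * hx
  have e16 : x ^ 16 = 1 + x + x ^ 3 + x ^ 4 := by
    have : x ^ 16 = (x ^ 8) ^ 2 := by ring
    rw [this, e8]
    linear_combination (2 + x) * hx + (1 + (2) * x ^ 2 + x ^ 3) * h2
  have c0 : H.u 0 (1 + x) = H.u 0 x * H.u 0 1 := by rw [u0_mul, add_comm]
  have c1 : H.u 0 (1 + x ^ 2) = H.u 0 (x ^ 2) * H.u 0 1 := by rw [u0_mul, add_comm]
  have c2 : H.u 0 (1 + x ^ 4) = H.u 0 (x ^ 4) * H.u 0 1 := by rw [u0_mul, add_comm]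
  have c3 : H.u 0 (x ^ 2 + x ^ 3) = H.u 0 (x ^ 8) * H.u 0 1 := by
    rw [u0_mul, e8]
    congr 1
    linear_combination -h2
  have c4 : H.u 0 (x ^ 16) = H.u 0 (x + x ^ 3 + x ^ 4) * H.u 0 1 := by
    rw [u0_mul, e16]
    congr 1
    ring
  rw [NN, c0, c1, c2, c3, c4]
  simp only [mul_assoc]

theorem prod_sq (H : Good F θ e) {x : F} (hx : x ^ 5 = x ^ 2 + 1)
    (hθ : θ x = 1 + x ^ 2 + x ^ 3) :
    (H.u 0 1 * NN H x * H.u 0 1) * (H.u 0 1 * NN H x * H.u 0 1) = 1 ∧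
      H.u 0 1 * NN H x * H.u 0 1 ≠ 1 := by
  have h1 := u1_mul H
  have h2 := NN_mul H hx hθ
  constructor
  · have : (H.u 0 1 * NN H x * H.u 0 1) * (H.u 0 1 * NN H x * H.u 0 1) =
        H.u 0 1 * NN H x * (H.u 0 1 * H.u 0 1) * NN H x * H.u 0 1 := by
      simp only [mul_assoc]
    rw [this, h1, mul_one, mul_assoc (H.u 0 1), h2, mul_one, h1]
  · intro h
    apply NN_ne H hx hθ
    have h3 : NN H x = (H.u 0 1 * H.u 0 1) * NN H x * (H.u 0 1 * H.u 0 1) := by rw [h1]; simp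
    have h4 : (H.u 0 1 * H.u 0 1) * NN H x * (H.u 0 1 * H.u 0 1)
        = H.u 0 1 * (H.u 0 1 * NN H x * H.u 0 1) * H.u 0 1 := by simp only [mul_assoc]
    rw [h3, h4, h, mul_one, h1]

theorem c0_val (H : Good F θ e) : (((H.u 0 1 * H.w : ↥(Cfsg.Lie.Sz F e)) : GL (Fin 4) F) :
      Matrix (Fin 4) (Fin 4) F) = !![1, 1, 0, 1; 1, 0, 1, 0; 0, 1, 0, 0; 1, 0, 0, 0] := by
  change Umat θ 0 1 * J F = _
  ext i j
  fin_cases i <;> fin_cases j <;> simp [J, Umat, Matrix.mul_apply, Fin.sum_univ_four]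

theorem c0_ne (H : Good F θ e) : H.u 0 1 * H.w ≠ 1 := by
  intro h
  have h1 := c0_val H
  rw [h] at h1
  have h3 := congrFun (congrFun h1 0) 1
  have h4 : (0 : F) = 1 := h3
  exact zero_ne_one h4

/-- The element `u(0, 1) w` has order five. -/
theorem c0_pow (H : Good F θ e) : (H.u 0 1 * H.w) ^ 5 = 1 := by
  have h2 := H.two
  have hval := c0_val H
  apply Subtype.ext
  apply Units.ext
  have : ((((H.u 0 1 * H.w) ^ 5 : ↥(Cfsg.Lie.Sz F e)) : GL (Fin 4) F) :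
      Matrix (Fin 4) (Fin 4) F) = (((H.u 0 1 * H.w : ↥(Cfsg.Lie.Sz F e)) : GL (Fin 4) F) :
      Matrix (Fin 4) (Fin 4) F) ^ 5 := rfl
  rw [this, hval]
  generalize hM : (!![1, 1, 0, 1; 1, 0, 1, 0; 0, 1, 0, 0; 1, 0, 0, 0] :
    Matrix (Fin 4) (Fin 4) F) = M
  have h3 : M ^ 5 = (M * M) * (M * M) * M := by simp only [pow_succ, pow_zero, one_mul, mul_assoc]
  rw [h3, ← hM, c_two h2, c_four h2, c_five h2]
  ext i j
  fin_cases i <;> fin_cases j <;> simp

end grp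

section aut

open Cfsg.Agent.LieRecognition.SzMatrix Cfsg.Agent.H967.CopMat Cfsg.Agent.H967.CopSz
  Cfsg.Agent.H957.T5M Cfsg.Agent.H106.MT Cfsg.Agent.H106.MB Cfsg.Agent.H28.T5RankOne
  Cfsg.Agent.H28.T5Ok

theorem pow_five {Y : Type*} [Group Y] (h : Y) (φ : MulAut Y) :
    (MulAut.conj h * φ) ^ 5 =
      MulAut.conj (h * φ h * φ (φ h) * φ (φ (φ h)) * φ (φ (φ (φ h)))) * φ ^ 5 := by
  ext z
  simp only [pow_succ, pow_zero, one_mul, MulAut.mul_apply, MulAut.conj_apply, map_mul, map_inv,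
    mul_inv_rev, mul_assoc]

variable {F : Type*} [Field F] {θ : F →+* F} {e : ℕ}

theorem mpair_core (H : Good F θ e) {x : F} (hx : x ^ 5 = x ^ 2 + 1)
    (hθ : θ x = 1 + x ^ 2 + x ^ 3) {φ : MulAut ↥(Cfsg.Lie.Sz F e)}
    (hφu : ∀ b, φ (H.u 0 b) = H.u 0 (b ^ 2)) (hφw : φ H.w = H.w) (hφ5 : φ ^ 5 = 1)
    (hinj : Function.Injective (MulAut.conj : ↥(Cfsg.Lie.Sz F e) →* MulAut ↥(Cfsg.Lie.Sz F e))) :
    MPair 5 (Inn ↥(Cfsg.Lie.Sz F e)) (MulAut.conj (H.u 0 1 * H.w)) φ := by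
  refine ⟨MulAut.conj (H.u 0 (x ^ 3)), ⟨_, rfl⟩, 1, 1, ?_⟩
  rw [pow_one, pow_one]
  have hc : ∀ y, φ * MulAut.conj y = MulAut.conj (φ y) * φ := by
    intro y
    ext z
    simp [MulAut.conj_apply]
  have hinv : (MulAut.conj (H.u 0 (x ^ 3)))⁻¹ = MulAut.conj (H.u 0 (x ^ 3)) := by
    rw [← map_inv, H.u_inv]
    simp
  have e1 : MulAut.conj (H.u 0 1 * H.w) * (MulAut.conj (H.u 0 (x ^ 3)) * φ *
      (MulAut.conj (H.u 0 (x ^ 3)))⁻¹) = MulAut.conj (H.u 0 1 * H.w * H.u 0 x) * φ := by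
    rw [hinv, mul_assoc (MulAut.conj (H.u 0 (x ^ 3))), hc, hφu]
    have e2 : H.u 0 x = H.u 0 (x ^ 3) * H.u 0 ((x ^ 3) ^ 2) := by
      rw [u0_mul]
      congr 1
      linear_combination (-x) * hx - x ^ 3 * H.two
    rw [e2, map_mul _ (H.u 0 1 * H.w), map_mul _ (H.u 0 (x ^ 3))]
    simp only [mul_assoc]
  rw [e1]
  set a := MulAut.conj (H.u 0 1 * H.w * H.u 0 x) * φ with ha
  have h1 : φ (H.u 0 1 * H.w * H.u 0 x) = H.u 0 1 * H.w * H.u 0 (x ^ 2) := by
    rw [map_mul, map_mul, hφu, hφu, hφw, one_pow]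
  have h2 : φ (H.u 0 1 * H.w * H.u 0 (x ^ 2)) = H.u 0 1 * H.w * H.u 0 (x ^ 4) := by
    rw [map_mul, map_mul, hφu, hφu, hφw, one_pow, ← pow_mul]
  have h3 : φ (H.u 0 1 * H.w * H.u 0 (x ^ 4)) = H.u 0 1 * H.w * H.u 0 (x ^ 8) := by
    rw [map_mul, map_mul, hφu, hφu, hφw, one_pow, ← pow_mul]
  have h4 : φ (H.u 0 1 * H.w * H.u 0 (x ^ 8)) = H.u 0 1 * H.w * H.u 0 (x ^ 16) := by
    rw [map_mul, map_mul, hφu, hφu, hφw, one_pow, ← pow_mul]
  have h5 : a ^ 5 = MulAut.conj (H.u 0 1 * NN H x * H.u 0 1) := by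
    rw [ha, pow_five, h1, h2, h3, h4, hφ5, mul_one, prod_eq H hx]
  obtain ⟨h6, h7⟩ := prod_sq H hx hθ
  have h8 : a ^ 5 ≠ 1 := by
    rw [h5]
    intro hcon
    exact h7 (hinj (by rw [hcon, map_one]))
  have h9 : a ^ 10 = 1 := by
    have : a ^ 10 = a ^ 5 * a ^ 5 := by rw [← pow_add]
    rw [this, h5, ← map_mul, h6, map_one]
  intro k hk
  apply h8
  have h10 : orderOf a ∣ 10 := orderOf_dvd_of_pow_eq_one h9
  have h11 : orderOf a ∣ 5 ^ k := orderOf_dvd_of_pow_eq_one hk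
  obtain ⟨j, -, hj⟩ := (Nat.dvd_prime_pow Nat.prime_five).1 h11
  have hj1 : j < 2 := by
    by_contra hcon
    push Not at hcon
    have h12 : 5 ^ 2 ∣ 10 := (pow_dvd_pow 5 hcon).trans (hj ▸ h10)
    norm_num at h12
  refine orderOf_dvd_iff_pow_eq_one.1 ?_
  rw [hj]
  interval_cases j <;> norm_num

end aut

section row

open Cfsg.Agent.LieRecognition.SzMatrix Cfsg.Agent.H967.CopMat Cfsg.Agent.H967.CopSz
  Cfsg.Agent.H957.T5M Cfsg.Agent.H106.MT Cfsg.Agent.H106.MB Cfsg.Agent.H28.T5RankOne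
  Cfsg.Agent.H28.T5Ok

universe u

variable {F : Type} [Field F] [Fintype F] (hF : Fintype.card F = 2 ^ (2 * 2 + 1))

include hF in
/-- Inner against outer. -/
theorem mpair_mixed {y : ↥(Cfsg.Lie.Sz F (2 ^ (2 + 1)))} {d : MulAut ↥(Cfsg.Lie.Sz F (2 ^ (2 + 1)))}
    (hy : orderOf y = 5) (hd : orderOf d = 5) (hdo : ¬ ∃ g, d = MulAut.conj g) :
    MPair 5 (Inn ↥(Cfsg.Lie.Sz F (2 ^ (2 + 1)))) (MulAut.conj y) d := by
  have hp : Nat.Prime 5 := Nat.prime_five
  have : Fact (Nat.Prime 5) := ⟨hp⟩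
  have hcyc : IsCyclic (F ≃+* F) := LieRecognition.FieldSemilinear.isCyclic_ringAut F
  have hfinR := finite_ringAut F
  have hs : IsSimpleGroup ↥(Cfsg.Lie.Sz F (2 ^ (2 + 1))) := Cfsg.Agent.S1162.result (by norm_num) hF
  have hna := sz_na (m := 2) (by norm_num) hF
  have hinj := Cfsg.Agent.H533.T5.conj_injective_of_simple hna
  have hfin : Finite ↥(Cfsg.Lie.Sz F (2 ^ (2 + 1))) := inferInstance
  have H := good hF
  have hF32 : Fintype.card F = 32 := by rw [hF]; norm_num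
  have h32 : ∀ z : F, z ^ 32 = z := by
    intro z
    have := FiniteField.pow_card z
    rwa [hF32] at this
  -- a root
  obtain ⟨y₀, hy₀, hy₁⟩ : ∃ y₀ : F, y₀ ≠ 0 ∧ y₀ ≠ 1 := by
    classical
    by_contra hcon
    push Not at hcon
    have h1 : (Finset.univ : Finset F) ⊆ {0, 1} := by
      intro z _
      by_cases hz : z = 0
      · simp [hz]
      · simp [hcon z hz]
    have h2 := Finset.card_le_card h1
    rw [Finset.card_univ, hF32] at h2
    have h3 := Finset.card_le_two (a := (0 : F)) (b := 1)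
    omega
  obtain ⟨x, hx⟩ := exists_root H.two (h32 y₀) hy₀ hy₁
  have hθ : theta hF x = 1 + x ^ 2 + x ^ 3 := by
    rw [theta_apply]
    have : x ^ 2 ^ (2 + 1) = x ^ 8 := by norm_num
    rw [this]
    linear_combination (1 + x ^ 3) * hx
  -- the Frobenius automorphism
  have hchar : CharP F 2 := charP_two hF
  obtain ⟨τ, hτ⟩ : ∃ τ : F ≃+* F, ∀ z, τ z = z ^ 2 :=
    ⟨RingEquiv.ofBijective (frobenius F 2) (Finite.injective_iff_bijective.1
      (frobenius_inj F 2)), fun z => rfl⟩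
  have hτ5 : orderOf τ = 5 := by
    have h1 : τ ^ 5 = 1 := by
      apply RingEquiv.ext
      intro z
      have : (τ ^ 5) z = τ (τ (τ (τ (τ z)))) := rfl
      rw [this, hτ, hτ, hτ, hτ, hτ, ← pow_mul, ← pow_mul, ← pow_mul, ← pow_mul]
      exact h32 z
    rcases (Nat.dvd_prime hp).1 (orderOf_dvd_of_pow_eq_one h1) with h | h
    · exfalso
      rw [orderOf_eq_one_iff] at h
      have h3 := hτ y₀
      rw [h] at h3
      have h4 : y₀ * (y₀ - 1) = 0 := by
        have h5 : y₀ = y₀ ^ 2 := h3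
        linear_combination -h5
      rcases mul_eq_zero.mp h4 with h5 | h5
      · exact hy₀ h5
      · exact hy₁ (sub_eq_zero.mp h5)
    · exact h
  set φ := fieldAut (stab_sz hF) τ with hφ
  have hφu : ∀ b, φ (H.u 0 b) = H.u 0 (b ^ 2) := by
    intro b
    refine ext_mat fun i j => ?_
    rw [hφ, fieldAut_apply]
    show τ (Umat (theta hF) 0 b i j) = Umat (theta hF) 0 (b ^ 2) i j
    have h1 : τ (theta hF b) = theta hF (b ^ 2) := by rw [hτ, map_pow]
    fin_cases i <;> fin_cases j <;> simp [Umat, hτ, h1]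
  have hφw : φ H.w = H.w := by
    refine ext_mat fun i j => ?_
    rw [hφ, fieldAut_apply]
    show τ (J F i j) = J F i j
    fin_cases i <;> fin_cases j <;> simp [J]
  have hφ5 : φ ^ 5 = 1 := by
    rw [hφ, ← map_pow, ← hτ5, pow_orderOf_eq_one, map_one]
  have hcore := mpair_core H hx hθ hφu hφw hφ5 hinj
  -- the outer automorphism
  obtain ⟨σ, hσ, g, hg⟩ := (sz_data (m := 2) (by norm_num) hF (by norm_num)).form hd hdo
  obtain ⟨j, hj⟩ := Subgroup.mem_zpowers_iff.1 (mem_zpowers_of_cyclic hp hτ5 hσ)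
  obtain ⟨b, hb⟩ : ∃ b : ℕ, σ ^ b = τ := by
    have := ((isOfFinOrder_of_finite σ).mem_powers_iff_mem_zpowers).2
      (Subgroup.mem_zpowers_iff.2 ⟨j, hj⟩)
    exact this
  -- the inner one
  have hc0 : orderOf (H.u 0 1 * H.w) = 5 := by
    rcases (Nat.dvd_prime hp).1 (orderOf_dvd_of_pow_eq_one (c0_pow H)) with h | h
    · exact absurd (orderOf_eq_one_iff.1 h) (c0_ne H)
    · exact h
  obtain ⟨P⟩ : Nonempty (Sylow 5 ↥(Cfsg.Lie.Sz F (2 ^ (2 + 1)))) := inferInstance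
  obtain ⟨s, i, hi⟩ := exists_conj_of_cyclic P (sz_cyc (by norm_num) hF (by norm_num) P) hc0 hy
  obtain ⟨a, ha⟩ : ∃ a : ℕ, (s * y * s⁻¹) ^ a = H.u 0 1 * H.w := by
    have := ((isOfFinOrder_of_finite (s * y * s⁻¹)).mem_powers_iff_mem_zpowers).2
      (Subgroup.mem_zpowers_iff.2 ⟨i, hi⟩)
    exact this
  refine MPair.conj_left (s := MulAut.conj s) ⟨s, rfl⟩ ?_
  refine MPair.conj_right (s := (MulAut.conj g)⁻¹) (inv_mem ⟨g, rfl⟩) ?_
  have e1 : (MulAut.conj g)⁻¹ * d * (MulAut.conj g)⁻¹⁻¹ = fieldAut (stab_sz hF) σ := by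
    rw [hg]; group
  have e2 : MulAut.conj s * MulAut.conj y * (MulAut.conj s)⁻¹ = MulAut.conj (s * y * s⁻¹) := by
    rw [map_mul, map_mul, map_inv]
  rw [e1, e2]
  refine MPair.of_pow a b ?_
  rw [← map_pow, ← map_pow, ha, hb]
  exact hcore

include hF in
/-- **The middle row of `Sz(32)`, `p = 5`.** -/
theorem mrow_sz32 {S : Type u} [Group S] [Finite S] (hAA : AAHyp.{u} 5)
    (e : S ≃* ↥(Cfsg.Lie.Sz F (2 ^ (2 + 1)))) : MRow 5 S := by
  have hp : Nat.Prime 5 := Nat.prime_five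
  have : Fact (Nat.Prime 5) := ⟨hp⟩
  have hs : IsSimpleGroup ↥(Cfsg.Lie.Sz F (2 ^ (2 + 1))) := Cfsg.Agent.S1162.result (by norm_num) hF
  have := e.isSimpleGroup
  have hna : ¬ IsMulCommutative S := fun hc => sz_na (m := 2) (by norm_num) hF
    ⟨⟨fun a b => e.symm.injective (by
      rw [map_mul, map_mul]
      exact hc.is_comm.comm _ _)⟩⟩
  have hcyc : IsCyclic (F ≃+* F) := LieRecognition.FieldSemilinear.isCyclic_ringAut F
  have hfinR := finite_ringAut F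
  obtain ⟨P⟩ : Nonempty (Sylow 5 S) := inferInstance
  have hP : IsCyclic ↥(P : Subgroup S) := by
    have h1 := cyclic_of_sylow (sz_cyc (m := 2) (by norm_num) hF (by norm_num))
      ((P : Subgroup S).map (e : S →* ↥(Cfsg.Lie.Sz F (2 ^ (2 + 1))))) (P.2.map _)
    exact isCyclic_of_surjective (e.subgroupMap _).symm (e.subgroupMap _).symm.surjective
  -- mixed pairs
  have hmix : ∀ (x : S) (d : MulAut S), orderOf x = 5 → orderOf d = 5 →
      (¬ ∃ g, d = MulAut.conj g) → MPair 5 (Inn S) (MulAut.conj x) d := by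
    intro x d hx hd hdo
    let f : MulAut S ≃* MulAut ↥(Cfsg.Lie.Sz F (2 ^ (2 + 1))) := MulAut.congr e
    have h1 := mpair_mixed hF (y := e x) (d := f d) (by rw [MulEquiv.orderOf_eq, hx])
      (by rw [MulEquiv.orderOf_eq, hd]) (by rwa [inner_iff])
    have h2 : MulAut.conj (e x) = f (MulAut.conj x) := by
      ext z
      simp [f, MulAut.congr]
    rw [h2] at h1
    refine h1.of_hom f.toMonoidHom (S := Inn S) ?_
    rintro _ ⟨t, rfl⟩
    refine ⟨MulAut.conj (e.symm t), ⟨e.symm t, rfl⟩, ?_⟩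
    ext z
    simp [f, MulAut.congr]
  intro c d hc hd
  have hinj := Cfsg.Agent.H533.T5.conj_injective_of_simple (S := S) hna
  by_cases hci : ∃ g, c = MulAut.conj g
  · obtain ⟨x, rfl⟩ := hci
    rw [orderOf_injective _ hinj] at hc
    by_cases hdi : ∃ g, d = MulAut.conj g
    · obtain ⟨y, rfl⟩ := hdi
      rw [orderOf_injective _ hinj] at hd
      have := (mpair_of_cyclic hAA hna P hP hc hd).of_injective (MulAut.conj : S →* MulAut S) hinj
      rwa [← MonoidHom.range_eq_map] at this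
    · exact hmix x d hc hd hdi
  · by_cases hdi : ∃ g, d = MulAut.conj g
    · obtain ⟨y, rfl⟩ := hdi
      rw [orderOf_injective _ hinj] at hd
      exact (hmix y c hd hc hci).symm
    · refine mpair_outer_outer hAA hp hna hc ?_
      obtain ⟨s, ⟨t, ht⟩, j, h1⟩ := (sz_data (m := 2) (by norm_num) hF (by norm_num : (5 : ℕ) ≠ 2)).conj
        (c := MulAut.congr e c) (d := MulAut.congr e d) (by rw [MulEquiv.orderOf_eq, hc])
        (by rw [MulEquiv.orderOf_eq, hd]) (by rwa [inner_iff]) (by rwa [inner_iff])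
      have h2 : MulAut.congr e (MulAut.conj (e.symm t)) = s := by
        rw [← ht]
        refine MulEquiv.ext fun y => ?_
        simp [MulAut.congr]
      refine ⟨MulAut.conj (e.symm t), ⟨_, rfl⟩, j, (MulAut.congr e).injective ?_⟩
      rw [map_zpow, map_mul, map_mul, map_inv, h2, h1]

end row

end Cfsg.Agent.H201.SzThirtyTwo
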